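import Cfsg.Agent.EqLemmas
import Cfsg.Agent.Lib.FusionResidual.Lift
import Cfsg.Agent.Lib.FusionChain.StronglyClosed
import Cfsg.Agent.Lib.FusionNormalCent.Normal

/-
Standard normal subsystems.
Main results (namespace `Cfsg.Agent.FusionProduct`): `isInvariantIn_of_fn`, `isNormalIn_of_fn`,
`isWeaklyNormalIn_self`, `isNormalIn_self`, `isNormalIn_inner`, `exists_centralizer_normal`,
`core_isNormal_of_invariant`, `core_le_core`.
-/

set_option autoImplicit false

namespace Cfsg.Agent.FusionProduct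

open Cfsg Cfsg.FusionSystem Cfsg.Agent.Fusion Cfsg.Agent.FusionNormal
open Cfsg.Agent.FusionCrit (autFn_inv_self autFn_self_inv)

variable {Ω : Type*} [Group Ω] {S T : Subgroup Ω} {F : FusionSystem S} {E : FusionSystem T} {p : ℕ}

theorem domain_eq_img {P : Subgroup Ω} (hPT : P ≤ T) {α : MulAut T} (hm : IsMap F T (autFn α)) :
    (P.subgroupOf T).map (T.subtype.comp α.toMonoidHom) = img (autFn α) P := by
  refine le_antisymm ?_ (hm.img_le hPT fun x hx => ?_)
  · rintro _ ⟨x, hx, rfl⟩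
    exact Subgroup.subset_closure ⟨x, hx, autFn_apply α x.2⟩
  · exact ⟨⟨x, hPT hx⟩, hx, (autFn_apply α (hPT hx)).symm⟩

/-- Invariance, for maps as functions. -/
theorem isInvariantIn_of_fn (hsub : E.IsSubsystemOf F) (hT : F.StronglyClosed T)
    (htr : ∀ P f, P ≤ T → IsMap E P f → ∀ α ∈ F.autGroup T,
      ∃ g, IsMap E (img (autFn α) P) g ∧ ∀ x ∈ P, g (autFn α x) = autFn α (f x))
    (hfr : ∀ P f, P ≤ T → IsMap F P f →
      ∃ α ∈ F.autGroup T, ∃ f₀, IsMap E P f₀ ∧ ∀ x ∈ P, f x = autFn α (f₀ x)) :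
    E.IsInvariantIn F := by
  refine ⟨hsub, hT, fun P hPT φ hφ α hα => ?_, fun P hP φ hφ => ?_⟩
  · obtain ⟨g, hg, hge⟩ := htr P _ hPT (isMap_toFn hφ) α hα
    rw [← domain_eq_img hPT ((mem_autGroup_iff hT.1).1 hα)] at hg
    obtain ⟨χ, hχ, hχe⟩ := hg
    refine ⟨χ, hχ, fun x hφx hαx => ?_⟩
    rw [hχe _ hαx, ← autFn_apply α (hPT x.2), hge x x.2, toFn_coe, autFn_apply α hφx]
  · obtain ⟨α, hα, f₀, hf₀, he⟩ := hfr P _ hP (isMap_toFn hφ)
    obtain ⟨φ₀, hφ₀, hφe⟩ := hf₀
    refine ⟨α, hα, φ₀, hφ₀, fun x hx => ?_⟩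
    rw [← toFn_coe φ x, he x x.2, ← hφe x x.2, autFn_apply α hx]

/-- Normality, for maps as functions. -/
theorem isNormalIn_of_fn [Finite S] (hE : E.IsWeaklyNormalIn F p)
    (hext : ∀ α ∈ E.autGroup T, ∃ h, IsMap F (T ⊔ centralizerIn S T) h ∧
      (∀ x ∈ T, h x = autFn α x) ∧
      ∀ c ∈ centralizerIn S T, c⁻¹ * h c ∈ T ⊓ Subgroup.centralizer (T : Set Ω)) :
    E.IsNormalIn F p := by
  refine ⟨hE, fun α hα => ?_⟩
  obtain ⟨h, hh, hT, hC⟩ := hext α hα
  set M := T ⊔ centralizerIn S T with hM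
  have hMS : M ≤ S := hh.le
  have hmem : ∀ x ∈ M, h x ∈ M := fun x hx => hh.forall_mem_sup le_sup_left le_sup_right
    (fun y hy => Subgroup.mem_sup_left (hT y hy ▸ autFn_mem α hy))
    (fun y hy => by
      have := mul_mem (Subgroup.mem_sup_right hy : y ∈ M) (Subgroup.mem_sup_left (hC y hy).1)
      simpa using this) hx
  obtain ⟨β, hβ, hβe⟩ := exists_aut_of_isIso (show IsIso F M M h from
    ⟨hh, eq_of_le_of_card hMS (hh.img_le le_rfl hmem) (hh.card_img le_rfl).ge⟩)
  refine ⟨β, hβ, fun x => ?_, fun c hc => ?_⟩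
  · rw [hβe]
    exact (hT x x.2).trans (autFn_apply α x.2)
  · rw [hβe]
    exact hC c hc

theorem isInvariantIn_self (F : FusionSystem S) : F.IsInvariantIn F := by
  refine isInvariantIn_of_fn (fun _ _ h => h)
    ⟨le_rfl, fun R _ φ hφ x => (F.le_of_mem hφ).2 x⟩ (fun P f hP hf α hα => ?_)
    fun P f hP hf => ⟨1, one_mem _, f, hf, fun x hx => (autFn_apply 1 (hf.mem hx)).symm ▸ rfl⟩
  have hα' : IsMap F S (autFn α) := (mem_autGroup_iff le_rfl).1 hα
  have hαi : IsMap F S (autFn α⁻¹) := (mem_autGroup_iff le_rfl).1 (inv_mem hα)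
  have himg : img (autFn α) P ≤ S := hα'.img_le hP fun x hx => hα'.mem (hP hx)
  have hback : ∀ x ∈ P, autFn α⁻¹ (autFn α x) = x := fun x hx => autFn_inv_self α (hP hx)
  have h1 : IsMap F (img (autFn α) P) (fun y => f (autFn α⁻¹ y)) :=
    (hαi.mono himg).comp hf fun y hy => by
      obtain ⟨x, hx, rfl⟩ := (hα'.mem_img_iff hP).1 hy
      rwa [hback x hx]
  refine ⟨fun y => autFn α (f (autFn α⁻¹ y)), h1.comp hα' fun y hy => h1.mem hy, fun x hx => ?_⟩
  show autFn α (f (autFn α⁻¹ (autFn α x))) = _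
  rw [hback x hx]

theorem isWeaklyNormalIn_self (hF : F.IsSaturated p) : F.IsWeaklyNormalIn F p :=
  ⟨hF, hF, isInvariantIn_self F⟩

/-- The inner system of a normal subgroup is a normal subsystem. -/
theorem isNormalIn_inner [Finite S] [Fact p.Prime] (hS : IsPGroup p S) (hF : F.IsSaturated p)
    {Q : Subgroup Ω} (hQ : F.IsNormal Q) : (innerFusionSystem Q).IsNormalIn F p := by
  haveI : Finite Q := finite_of_le hQ.1
  refine isNormalIn_of_fn ⟨FusionChain.isSaturated_inner (hS.to_le hQ.1), hF, ?_⟩ ?_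
  · refine isInvariantIn_of_fn ?_ (Fusion.stronglyClosed_of_normal hQ)
      (fun P f hP hf α hα => ?_) fun P f hP hf => ?_
    · rintro P φ ⟨hP, g, hg, h⟩
      exact mem_of_isMap (IsMap.conj (F := F) (hP.trans hQ.1) (hQ.1 hg)) h
    · obtain ⟨-, g, hg, e⟩ := isMap_inner_iff.1 hf
      have hα' : IsMap F Q (autFn α) := (mem_autGroup_iff hQ.1).1 hα
      refine ⟨fun y => autFn α g * y * (autFn α g)⁻¹,
        isMap_inner_iff.2 ⟨hα'.img_le hP fun x hx => autFn_mem α (hP hx), _, autFn_mem α hg,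
          fun _ _ => rfl⟩, fun x hx => ?_⟩
      show _ = _
      rw [e x hx, hα'.map_conj hg (hP hx)]
    · obtain ⟨α, hα, he⟩ := FusionChain.exists_top_extension_of_normal hQ hf
      exact ⟨α, hα, fun x => x, IsMap.id hP, fun x hx => (he x hx (hP hx)).symm⟩
  · intro α hα
    obtain ⟨-, g, hg, e⟩ := isMap_inner_iff.1 ((mem_autGroup_iff le_rfl).1 hα)
    refine ⟨fun x => g * x * g⁻¹, IsMap.conj (sup_le hQ.1 inf_le_left) (hQ.1 hg),
      fun x hx => (e x hx).symm, fun c hc => ?_⟩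
    show c⁻¹ * (g * c * g⁻¹) ∈ _
    rw [← (mem_centralizerIn.1 hc).2 g hg, mul_inv_cancel_right, inv_mul_cancel]
    exact one_mem _

/-- The centralizer of a normal subgroup carries a normal subsystem. -/
theorem exists_centralizer_normal [Finite S] [Fact p.Prime] (hS : IsPGroup p S)
    (hF : F.IsSaturated p) {Q : Subgroup Ω} (hQ : F.IsNormal Q) :
    ∃ C : FusionSystem (centralizerIn S Q), F.IsCentralizerSystem Q C ∧ C.IsNormalIn F p := by
  have hQc := Fusion.stronglyClosed_of_normal hQ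
  obtain ⟨C, hCs, hC⟩ := FusionNormalCent.exists_centralizerT hS hF hQc
  refine ⟨C, hC, ?_⟩
  set U := centralizerIn S Q with hU
  have hUS : U ≤ S := inf_le_left
  have hQS := hQ.1
  have himgQ : ∀ {M : Subgroup Ω} {g : Ω → Ω}, IsMap F M g → Q ≤ M → img g Q = Q := fun hg h =>
    eq_of_le_of_card hQS (hg.img_le h fun x hx =>
      (Fusion.stronglyClosed_iff.1 hQc).2 _ _ hg x (h hx) hx) (hg.card_img h).ge
  have hclosed : F.StronglyClosed U := by
    refine Fusion.stronglyClosed_iff.2 ⟨hUS, fun P f hf x hxP hx => ?_⟩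
    obtain ⟨g, hg, hgf, -⟩ := (FusionChain.isNormal_iff.1 hQ).2 P f hf
    refine mem_centralizerIn.2 ⟨hf.mem hxP, fun q hq => ?_⟩
    obtain ⟨q', hq', rfl⟩ :=
      (hg.mem_img_iff le_sup_right).1 ((himgQ hg le_sup_right).symm ▸ hq)
    rw [← hgf x hxP, ← hg.map_mul (Subgroup.mem_sup_left hxP) (Subgroup.mem_sup_right hq'),
      ← hg.map_mul (Subgroup.mem_sup_right hq') (Subgroup.mem_sup_left hxP),
      (mem_centralizerIn.1 hx).2 q' hq']
  have hUimg : ∀ {M : Subgroup Ω} {g : Ω → Ω}, IsMap F M g → U ≤ M → img g U = U := fun hg h =>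
    eq_of_le_of_card hUS (hg.img_le h fun x hx =>
      (Fusion.stronglyClosed_iff.1 hclosed).2 _ _ hg x (h hx) hx) (hg.card_img h).ge
  have hMS : U ⊔ Q ≤ S := sup_le hUS hQS
  refine isNormalIn_of_fn ⟨hCs, hF, isInvariantIn_of_fn (FusionNormalCent.centralizer_le hC) hclosed
    (fun P f hP hf α hα => ?_) fun P f hP hf => ?_⟩ fun α hα => ?_
  · obtain ⟨-, hfU, f', hf', e, hfix⟩ := (FusionNormalCent.isMap_centralizer hQS hC).1 hf
    have hαU : IsMap F U (autFn α) := (mem_autGroup_iff hUS).1 hα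
    obtain ⟨a, ha, hae, -⟩ := (FusionChain.isNormal_iff.1 hQ).2 U _ hαU
    have hPUQ : P ⊔ Q ≤ U ⊔ Q := sup_le_sup_right hP Q
    have hai : IsIso F (P ⊔ Q) (img a (P ⊔ Q)) a := (ha.isIso.mono hPUQ)
    obtain ⟨b, hb, hba, hab⟩ := hai.symm
    have hf'mem : ∀ x ∈ P ⊔ Q, f' x ∈ U ⊔ Q := fun x hx => hf'.forall_mem_sup le_sup_left le_sup_right
      (fun y hy => Subgroup.mem_sup_left (e y hy ▸ hfU y hy))
      (fun y hy => Subgroup.mem_sup_right ((hfix y hy).symm ▸ hy)) hx
    have hg : IsMap F (img a (P ⊔ Q)) (fun y => a (f' (b y))) :=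
      (hb.1.comp hf' fun y hy => hb.mem hy).comp ha fun y hy => hf'mem _ (hb.mem hy)
    have hQimg : Q ≤ img a (P ⊔ Q) := by
      refine (himgQ ha le_sup_right).ge.trans ?_
      exact Subgroup.closure_mono (Set.image_mono fun x hx => Subgroup.mem_sup_right hx)
    have hPimg : img (autFn α) P ≤ img a (P ⊔ Q) := hαU.img_le hP fun x hx =>
      hae x (hP hx) ▸ ha.mem_img (Subgroup.mem_sup_left hx)
    have hval : ∀ x ∈ P, a (f' (b (autFn α x))) = autFn α (f x) := fun x hx => by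
      rw [← hae x (hP hx), hba x (Subgroup.mem_sup_left hx), e x hx, hae _ (hfU x hx)]
    refine ⟨fun y => a (f' (b y)), (FusionNormalCent.isMap_centralizer hQS hC).2
      ⟨hαU.img_le hP fun x hx => autFn_mem α (hP hx), fun y hy => ?_, _,
        hg.mono (sup_le hPimg hQimg), fun _ _ => rfl, fun q hq => ?_⟩, hval⟩
    · obtain ⟨x, hx, rfl⟩ := (hαU.mem_img_iff hP).1 hy
      show a (f' (b (autFn α x))) ∈ U
      rw [hval x hx]
      exact autFn_mem α (hfU x hx)
    · obtain ⟨q', hq', rfl⟩ := (ha.mem_img_iff le_sup_right).1 ((himgQ ha le_sup_right).symm ▸ hq)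
      show a (f' (b (a q'))) = a q'
      rw [hba q' (Subgroup.mem_sup_right hq'), hfix q' hq']
  · obtain ⟨g, hg, hgf, -⟩ := (FusionChain.isNormal_iff.1 hQ).2 P f hf
    have hgQ : IsIso F Q Q g := ⟨hg.mono le_sup_right, himgQ hg le_sup_right⟩
    have hQn : F.IsFullyNormalized Q := FusionNormalCent.fullyNormalized_strongly hQc
    obtain ⟨ψ, hψ, hψe⟩ := (isReceptive_iff.1 (receptive_of_fullyNormalized hS hF hQn)).2 Q g hgQ
    have hle : U ⊔ Q ≤ Nx S Q g := by
      refine sup_le (fun u hu => mem_Nx.2 ⟨centralizerIn_le_normalizerIn S Q hu, 1, one_mem _,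
        fun x hx => by rw [centralizerIn_conj hu hx]; group⟩) fun u hu => ?_
      exact mem_Nx.2 ⟨le_normalizerIn hQS hu, g u, hgQ.1.mem hu, fun x hx => hgQ.1.map_conj hu hx⟩
    have hψ' : IsMap F (U ⊔ Q) ψ := hψ.mono hle
    have hψU : IsIso F U U ψ := ⟨hψ'.mono le_sup_left, hUimg hψ' le_sup_left⟩
    obtain ⟨α, hα, hαe⟩ := exists_aut_of_isIso hψU
    have hψi : IsIso F (U ⊔ Q) (img ψ (U ⊔ Q)) ψ := hψ'.isIso
    obtain ⟨i, hi, hiψ, hψi'⟩ := hψi.symm
    have hgP : ∀ x ∈ P ⊔ Q, g x ∈ img ψ (U ⊔ Q) := fun x hx => hg.forall_mem_sup le_sup_left le_sup_right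
      (fun y hy => by
        rw [hgf y hy]
        have h1 : f y ∈ U := (Fusion.stronglyClosed_iff.1 hclosed).2 P f hf y hy (hP hy)
        obtain ⟨u, hu, hue⟩ := hψU.exists_eq h1
        exact hue ▸ hψ'.mem_img (Subgroup.mem_sup_left hu))
      (fun y hy => by
        rw [← hψe y hy]
        exact hψ'.mem_img (Subgroup.mem_sup_right hy)) hx
    have hi' : IsMap F (P ⊔ Q) (fun x => i (g x)) := hg.comp hi.1 hgP
    have hU0 : ∀ x ∈ P, i (g x) ∈ U := fun x hx => by
      have h1 : f x ∈ U := (Fusion.stronglyClosed_iff.1 hclosed).2 P f hf x hx (hP hx)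
      obtain ⟨u, hu, hue⟩ := hψU.exists_eq h1
      rw [hgf x hx, ← hue, hiψ u (Subgroup.mem_sup_left hu)]
      exact hu
    refine ⟨α, hα, fun x => i (g x), (FusionNormalCent.isMap_centralizer hQS hC).2
      ⟨hP, hU0, _, hi', fun _ _ => rfl, fun q hq => ?_⟩, fun x hx => ?_⟩
    · show i (g q) = q
      rw [← hψe q hq, hiψ q (Subgroup.mem_sup_right hq)]
    · show f x = autFn α (i (g x))
      rw [autFn_apply α (hU0 x hx), hαe, ← hgf x hx]
      exact (hψi' _ (hgP x (Subgroup.mem_sup_left hx))).symm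
  · obtain ⟨-, -, a, ha, hae, hfix⟩ := (FusionNormalCent.isMap_centralizer hQS hC).1
      ((mem_autGroup_iff le_rfl).1 hα)
    have hUQ : IsIso F (U ⊔ Q) (U ⊔ Q) a := by
      refine ⟨ha, eq_of_le_of_card hMS (ha.img_le le_rfl fun x hx => ?_) (ha.card_img le_rfl).ge⟩
      exact ha.forall_mem_sup le_sup_left le_sup_right
        (fun y hy => Subgroup.mem_sup_left (hae y hy ▸ autFn_mem α hy))
        (fun y hy => Subgroup.mem_sup_right ((hfix y hy).symm ▸ hy)) hx
    have hfn : F.IsFullyNormalized (U ⊔ Q) := by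
      refine ⟨hMS, fun R hR => le_of_eq ?_⟩
      obtain ⟨u, hu⟩ := isConj_iff.1 hR
      rw [show R = U ⊔ Q from eq_of_le_of_card hMS (by
        rw [← hu.2]
        exact hu.1.img_le le_rfl fun x hx => hu.1.forall_mem_sup le_sup_left le_sup_right
          (fun y hy => Subgroup.mem_sup_left
            ((Fusion.stronglyClosed_iff.1 hclosed).2 _ _ hu.1 y (Subgroup.mem_sup_left hy) hy))
          (fun y hy => Subgroup.mem_sup_right
            ((Fusion.stronglyClosed_iff.1 hQc).2 _ _ hu.1 y (Subgroup.mem_sup_right hy) hy)) hx)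
        hu.card_eq.ge]
    obtain ⟨ψ, hψ, hψe⟩ := (isReceptive_iff.1 (receptive_of_fullyNormalized hS hF hfn)).2 _ a hUQ
    have key : ∀ c ∈ centralizerIn S U, ∀ x ∈ U ⊔ Q,
        c * x * c⁻¹ ∈ U ⊔ Q ∧ a (c * x * c⁻¹) = c * a x * c⁻¹ := by
      intro c hc
      refine fun x hx => ?_
      have hcQ : ∀ q ∈ Q, c * q * c⁻¹ ∈ Q := fun q hq =>
        FusionChain.conj_mem_of_stronglyClosed hQc hc.1 hq
      have hx' : x ∈ Subgroup.closure ((U : Set Ω) ∪ Q) := by
        rwa [Subgroup.sup_eq_closure] at hx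
      clear hx
      have hmem : ∀ z, z ∈ Subgroup.closure ((U : Set Ω) ∪ Q) → z ∈ U ⊔ Q := fun z hz => by
        rwa [Subgroup.sup_eq_closure]
      induction hx' using Subgroup.closure_induction with
      | mem y hy =>
        rcases hy with hy | hy
        · rw [centralizerIn_conj hc hy]
          exact ⟨Subgroup.mem_sup_left hy,
            (centralizerIn_conj hc (hae y hy ▸ autFn_mem α hy : a y ∈ U)).symm⟩
        · exact ⟨Subgroup.mem_sup_right (hcQ y hy), by rw [hfix _ (hcQ y hy), hfix y hy]⟩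
      | one => simp [ha.map_one]
      | mul y z hy hz ihy ihz =>
        obtain ⟨h1, h2⟩ := ihy
        obtain ⟨h3, h4⟩ := ihz
        have he : c * (y * z) * c⁻¹ = c * y * c⁻¹ * (c * z * c⁻¹) := by group
        exact ⟨he ▸ mul_mem h1 h3,
          by rw [he, ha.map_mul h1 h3, h2, h4, ha.map_mul (hmem y hy) (hmem z hz)]; group⟩
      | inv y hy ihy =>
        obtain ⟨h1, h2⟩ := ihy
        have he : c * y⁻¹ * c⁻¹ = (c * y * c⁻¹)⁻¹ := by group
        exact ⟨he ▸ inv_mem h1, by rw [he, ha.map_inv h1, h2, ha.map_inv (hmem y hy)]; group⟩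
    haveI : Finite ↥(U ⊔ Q) := finite_of_le hMS
    have hCle : centralizerIn S U ≤ Nx S (U ⊔ Q) a := fun c hc =>
      mem_Nx.2 ⟨mem_normalizerIn_of_conj hc.1 fun x hx => (key c hc x hx).1, c, hc.1,
        fun x hx => (key c hc x hx).2⟩
    have hULe : U ≤ Nx S (U ⊔ Q) a := fun u hu => mem_Nx.2
      ⟨le_normalizerIn hMS (Subgroup.mem_sup_left hu), a u, ha.mem (Subgroup.mem_sup_left hu),
        fun x hx => ha.map_conj (Subgroup.mem_sup_left hu) hx⟩
    refine ⟨ψ, hψ.mono (sup_le hULe hCle), fun x hx => ?_, fun c hc => ?_⟩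
    · rw [hψe x (Subgroup.mem_sup_left hx), hae x hx]
    · have hdom : U ⊔ Q ≤ Nx S (U ⊔ Q) a := fun u hu => mem_Nx.2
        ⟨le_normalizerIn hMS hu, a u, ha.mem hu, fun x hx => ha.map_conj hu hx⟩
      have hcN := hCle hc
      have hcomm : ∀ x ∈ U ⊔ Q, (c⁻¹ * ψ c) * x * (c⁻¹ * ψ c)⁻¹ = x := by
        intro x hx
        obtain ⟨y, hy, rfl⟩ := hUQ.exists_eq hx
        obtain ⟨h1, h2⟩ := key c hc y hy
        rw [← hψe _ h1, hψ.map_conj hcN (hdom hy), hψe y hy] at h2
        calc c⁻¹ * ψ c * a y * (c⁻¹ * ψ c)⁻¹ = c⁻¹ * (ψ c * a y * (ψ c)⁻¹) * c := by group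
          _ = c⁻¹ * (c * a y * c⁻¹) * c := by rw [h2]
          _ = a y := by group
      have hS' : c⁻¹ * ψ c ∈ S := mul_mem (inv_mem hc.1) (hψ.mem hcN)
      refine ⟨mem_centralizerIn_of_conj hS' fun q hq => hcomm q (Subgroup.mem_sup_right hq),
        Subgroup.mem_centralizer_iff.2 fun u hu => ?_⟩
      exact ((mem_centralizerIn.1 (mem_centralizerIn_of_conj (P := U) hS' fun u hu =>
        hcomm u (Subgroup.mem_sup_left hu))).2 u hu).symm

/-- The core of an invariant saturated subsystem is normal in the whole system. -/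
theorem core_isNormal_of_invariant [Finite S] [Fact p.Prime] (hS : IsPGroup p S)
    (hF : F.IsSaturated p) (hE : E.IsInvariantIn F) : F.IsNormal E.core := by
  have hTS : T ≤ S := hE.2.1.1
  haveI : Finite T := finite_of_le hTS
  have hQ : E.IsNormal E.core := S5145.result E
  set Q := E.core with hQdef
  have hpres : ∀ β ∈ F.autGroup T, ∀ P f, IsMap E P f →
      IsMap E (FusionIso.imT (autFn β) P) fun y => autFn β (f (autFn β⁻¹ y)) := by
    intro β hβ P f hf
    obtain ⟨g, hg, hge⟩ := transport_map hE hf.le hf hβ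
    refine hg.congr fun y hy => ?_
    obtain ⟨x, hx, rfl⟩ := (((mem_autGroup_iff hTS).1 hβ).mem_img_iff hf.le).1 hy
    rw [autFn_inv_self β (hf.le hx), hge x hx]
  have hiso : ∀ β ∈ F.autGroup T, ∀ x ∈ Q, autFn β x ∈ Q := by
    intro β hβ x hx
    let g : FusionIso.FIso E E :=
      { toFun := autFn β
        invFun := autFn β⁻¹
        mem := fun _ h => autFn_mem β h
        mem' := fun _ h => autFn_mem β⁻¹ h
        left := fun y hy => autFn_inv_self β hy
        right := fun y hy => autFn_self_inv β hy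
        mul := fun a ha b hb => ((mem_autGroup_iff hTS).1 hβ).map_mul ha hb
        fwd := hpres β hβ
        bwd := fun P f hf => by
          have := hpres β⁻¹ (inv_mem hβ) P f hf
          rwa [inv_inv] at this }
    exact FusionResidual.fiso_core_mem g hQ hx
  have hQT : Q ≤ T := hQ.1
  refine FusionResidual.isNormal_of_lcs hS hF (hQT.trans hTS) fun k => ?_
  refine Fusion.stronglyClosed_iff.2 ⟨(lowerCentralSeries_le_self Q k).trans (hQT.trans hTS),
    fun P f hf x hxP hx => ?_⟩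
  have hxT : x ∈ T := hQT (lowerCentralSeries_le_self Q k hx)
  obtain ⟨α, hα, f₀, hf₀, he⟩ :=
    frattini_map hE (Subgroup.zpowers_le.2 hxT) (hf.mono (Subgroup.zpowers_le.2 hxP))
  rw [he x (Subgroup.mem_zpowers x)]
  exact lowerCentralSeries_invariant (((mem_autGroup_iff hTS).1 hα).mono hQT) (hiso α hα) k _
    ((Fusion.stronglyClosed_iff.1 (stronglyClosed_lowerCentralSeries hQ k)).2 _ f₀ hf₀ x
      (Subgroup.mem_zpowers x) hx)

theorem core_le_core [Finite S] [Fact p.Prime] (hS : IsPGroup p S) (hF : F.IsSaturated p)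
    (hE : E.IsInvariantIn F) : E.core ≤ F.core :=
  normal_le_core (core_isNormal_of_invariant hS hF hE)

end Cfsg.Agent.FusionProduct
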