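import Cfsg.Agent.Lib.FusionCrit.Normal
import Cfsg.Agent.Lib.Fusion.Normal
import Cfsg.Agent.Lib.FusionNormal.Generation
import Cfsg.Agent.Lib.FusionSub.Centric

/-
Normal subsystems: every element of `Aut_E(R)`, for `R` centric in `E` and fully normalised in `F`, extends
to `R C_S(R)` moving `C_S(R)` only modulo `R`.
Main results (namespace `Cfsg.Agent.FusionProduct`): `exists_pow_coprime_modEq`,
`fullyNormalized_sup_centralizer`, `autGroup_le_extAut`.
-/

set_option autoImplicit false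

open scoped Pointwise

namespace Cfsg.Agent.FusionProduct

open Cfsg Cfsg.FusionSystem Cfsg.Agent.Fusion Cfsg.Agent.FusionChain Cfsg.Agent.FusionCrit

/-- A power of order prime to `p` congruent to the element modulo a number prime to `p`. -/
theorem exists_pow_coprime_modEq {G : Type*} [Group G] [Finite G] {p : ℕ} [Fact p.Prime] (a : G) {d : ℕ}
    (hd : d.Coprime p) : ∃ m : ℕ, m ≡ 1 [MOD d] ∧ (orderOf (a ^ m)).Coprime p := by
  obtain ⟨k, hk⟩ := exists_pow_coprime p a
  rcases Nat.eq_zero_or_pos d with rfl | hd0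
  · exact absurd (Fact.out : p.Prime).one_lt (by simp [Nat.coprime_zero_left] at hd; omega)
  obtain ⟨t, ht⟩ : ∃ t, d.totient = t + 1 :=
    ⟨d.totient - 1, by have := Nat.totient_pos.2 hd0; omega⟩
  refine ⟨(p ^ k) ^ d.totient, Nat.ModEq.pow_totient (Nat.Coprime.pow_left k hd.symm), ?_⟩
  rw [ht, pow_succ', pow_mul]
  exact Nat.Coprime.coprime_dvd_left (orderOf_pow_dvd _) hk

theorem pow_eq_self_of_modEq {G : Type*} [Group G] {b : G} {m : ℕ} (h : m ≡ 1 [MOD orderOf b]) :
    b ^ m = b := by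
  conv_rhs => rw [← pow_one b]
  exact pow_eq_pow_iff_modEq.2 h

variable {Ω : Type*} [Group Ω] {S T : Subgroup Ω} {F : FusionSystem S} {E : FusionSystem T} {p : ℕ}

/-- Automorphisms of a subgroup fixing `N` pointwise and congruent to the identity modulo `N`. -/
def stabilizing (W N : Subgroup Ω) (hN : ∀ x ∈ W, ∀ n ∈ N, x * n * x⁻¹ ∈ N) : Subgroup (MulAut W) where
  carrier := {α | (∀ x : W, (x : Ω) ∈ N → α x = x) ∧ ∀ x : W, (x : Ω)⁻¹ * (α x : W) ∈ N}
  one_mem' := ⟨fun x _ => rfl, fun x => by simp⟩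
  mul_mem' := by
    rintro a b ⟨ha1, ha2⟩ ⟨hb1, hb2⟩
    refine ⟨fun x hx => by rw [MulAut.mul_apply, hb1 x hx, ha1 x hx], fun x => ?_⟩
    have hn : ((x⁻¹ * b x : W) : Ω) ∈ N := hb2 x
    have e : a (b x) = a x * (x⁻¹ * b x) := by
      conv_lhs => rw [← mul_inv_cancel_left x (b x), map_mul, ha1 _ hn]
    rw [MulAut.mul_apply, e, Subgroup.coe_mul, ← mul_assoc]
    exact mul_mem (ha2 x) hn
  inv_mem' := by
    rintro a ⟨ha1, ha2⟩
    refine ⟨fun x hx => ?_, fun x => ?_⟩
    · conv_lhs => rw [← ha1 x hx]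
      exact MulAut.inv_apply_self _ _ _
    · have h1 := ha2 (a⁻¹ x)
      rw [MulAut.apply_inv_self] at h1
      simpa using inv_mem h1

theorem mem_stabilizing {W N : Subgroup Ω} {hN : ∀ x ∈ W, ∀ n ∈ N, x * n * x⁻¹ ∈ N} {α : MulAut W} :
    α ∈ stabilizing W N hN ↔
      (∀ x : W, (x : Ω) ∈ N → α x = x) ∧ ∀ x : W, (x : Ω)⁻¹ * (α x : W) ∈ N := Iff.rfl

theorem isPGroup_stabilizing [Fact p.Prime] {W N : Subgroup Ω} [Finite W] (hW : IsPGroup p W)
    {hN : ∀ x ∈ W, ∀ n ∈ N, x * n * x⁻¹ ∈ N} : IsPGroup p (stabilizing W N hN) := by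
  refine isPGroup_of_coprime_trivial fun g hg => Subtype.ext (MulEquiv.ext fun x => ?_)
  exact eq_self_of_stab hW (g : MulAut W) (by rwa [Subgroup.orderOf_coe]) (N.subgroupOf W)
    (fun u hu => g.2.1 u hu) x (g.2.2 x)

variable [Finite S] [Fact p.Prime]

/-- A `p`-group of automorphisms of the system that all automorphisms normalise is induced by `S`, for a
fully automized subgroup. -/
theorem le_autInducedBy_of_normal {R : Subgroup Ω} (hA : F.IsFullyAutomized p R)
    {K : Subgroup (MulAut R)} (hK : IsPGroup p K) (hle : K ≤ F.autGroup R)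
    (hn : ∀ α ∈ F.autGroup R, ∀ k ∈ K, α * k * α⁻¹ ∈ K) : K ≤ autInducedBy S R :=
  (le_pCoreAut hK hle hn).trans (pCoreAut_le_autInducedBy hA)

omit [Finite S] [Fact p.Prime] in
theorem inf_T_sup_centralizer (hTn : ∀ s ∈ S, ∀ t ∈ T, s * t * s⁻¹ ∈ T) {R : Subgroup Ω} (hR : R ≤ T)
    (hRS : R ≤ S) (hC : centralizerIn T R ≤ R) : (R ⊔ centralizerIn S R) ⊓ T = R := by
  refine le_antisymm ?_ (le_inf le_sup_left hR)
  rintro x ⟨hx, hxT⟩
  have hx' : x ∈ (R : Set Ω) * (centralizerIn S R : Set Ω) := by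
    rw [← Subgroup.coe_mul_of_right_le_normalizer_left R _
      ((centralizerIn_le_normalizerIn S R).trans inf_le_right)]
    exact hx
  obtain ⟨r, hr, c, hc, rfl⟩ := hx'
  refine R.mul_mem hr (hC ⟨?_, hc.2⟩)
  have := T.mul_mem (T.inv_mem (hR hr)) hxT
  simpa using this

omit [Finite S] [Fact p.Prime] in
theorem pow_restrict {W R : Subgroup Ω} (hRW : R ≤ W) {a : MulAut W} {b : MulAut R}
    (h : ∀ r (hr : r ∈ R), ((a ⟨r, hRW hr⟩ : W) : Ω) = (b ⟨r, hr⟩ : R)) (k : ℕ) :
    ∀ r (hr : r ∈ R), (((a ^ k) ⟨r, hRW hr⟩ : W) : Ω) = ((b ^ k) ⟨r, hr⟩ : R) := by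
  induction k with
  | zero => intro r hr; rfl
  | succ k ihk =>
    intro r hr
    rw [pow_succ, MulAut.mul_apply, pow_succ, MulAut.mul_apply]
    have h1 : a ⟨r, hRW hr⟩ = ⟨(b ⟨r, hr⟩ : R), hRW (b ⟨r, hr⟩).2⟩ := Subtype.ext (h r hr)
    rw [h1]
    exact ihk _ _

omit [Finite S] [Fact p.Prime] in
theorem conj_mem_centralizerIn {R : Subgroup Ω} {g y : Ω} (hg : g ∈ normalizerIn S R)
    (hy : y ∈ centralizerIn S R) : g * y * g⁻¹ ∈ centralizerIn S R := by
  refine mem_centralizerIn_of_conj (S.mul_mem (S.mul_mem hg.1 hy.1) (S.inv_mem hg.1)) fun t ht => ?_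
  calc g * y * g⁻¹ * t * (g * y * g⁻¹)⁻¹ = g * (y * (g⁻¹ * t * g) * y⁻¹) * g⁻¹ := by group
    _ = t := by rw [centralizerIn_conj hy (normalizerIn_conj_inv hg ht)]; group

omit [Fact p.Prime] in
theorem normalizerIn_le_sup_centralizer {R : Subgroup Ω} (hR : R ≤ S) :
    normalizerIn S R ≤ normalizerIn S (R ⊔ centralizerIn S R) := by
  intro g hg
  set W := R ⊔ centralizerIn S R
  have hWS : W ≤ S := sup_le hR inf_le_left
  have : Finite W := finite_of_le hWS
  refine mem_normalizerIn_of_conj hg.1 fun x hx => ?_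
  exact (Fusion.IsMap.conj hWS hg.1 : IsMap (innerFusionSystem S) W _).forall_mem_sup le_sup_left
    le_sup_right (fun y hy => Subgroup.mem_sup_left (normalizerIn_conj hg hy))
    (fun y hy => Subgroup.mem_sup_right (conj_mem_centralizerIn hg hy)) hx

/-- `R C_S(R)` is fully normalised and centric, for `R` fully normalised with `C_T(R) ≤ R`. -/
theorem fullyNormalized_sup_centralizer (hS : IsPGroup p S) (hF : F.IsSaturated p)
    (hT : F.StronglyClosed T) {R : Subgroup Ω} (hR : R ≤ T) (hn : F.IsFullyNormalized R)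
    (hC : centralizerIn T R ≤ R) :
    F.IsFullyNormalized (R ⊔ centralizerIn S R) ∧ F.IsCentric (R ⊔ centralizerIn S R) := by
  set W := R ⊔ centralizerIn S R with hW
  have hTn : ∀ s ∈ S, ∀ t ∈ T, s * t * s⁻¹ ∈ T := fun s hs t ht =>
    Fusion.conj_mem_of_stronglyClosed hT hs ht
  have hWS : W ≤ S := sup_le hn.1 inf_le_left
  have hWT : W ⊓ T = R := inf_T_sup_centralizer hTn hR hn.1 hC
  have hfc := fullyCentralized_of_receptive (receptive_of_fullyNormalized hS hF hn)
  have key : ∀ W', F.IsConj W W' → Nat.card (normalizerIn S W') ≤ Nat.card (normalizerIn S W) ∧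
      centralizerIn S W' ≤ W' := by
    intro W' hW'
    obtain ⟨w, hw⟩ := isConj_iff.1 hW'
    set R' := img w R with hR'
    have hconj : F.IsConj R R' := isConj_iff.2 ⟨w, hw.1.mono le_sup_left, rfl⟩
    have hR'W : R' ≤ W' := hw.1.img_le le_sup_left fun x hx => hw.mem (Subgroup.mem_sup_left hx)
    have hfin := finite_of_le (S := S) (P := centralizerIn S R') inf_le_left
    have hCC : img w (centralizerIn S R) = centralizerIn S R' := by
      refine eq_of_le_of_card inf_le_left (hw.1.img_le le_sup_right fun g hg =>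
        map_centralizerIn hw.1 le_sup_left rfl (Subgroup.mem_sup_right hg) hg) ?_
      rw [hw.1.card_img le_sup_right]
      exact hfc.2 R' hconj
    have hW'T : ∀ y ∈ W', y ∈ T → y ∈ R' := by
      intro y hy hyT
      obtain ⟨x, hx, rfl⟩ := hw.exists_eq hy
      obtain ⟨i, hi, hil, -⟩ := hw.symm
      have hxT : x ∈ T := hil x hx ▸ (stronglyClosed_iff.1 hT).2 W' i hi.1 _ (hw.mem hx) hyT
      exact hw.1.mem_img (hWT.le ⟨hx, hxT⟩)
    refine ⟨?_, fun g hg => ?_⟩
    · have h1 : normalizerIn S W' ≤ normalizerIn S R' := fun g hg => by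
        have : Finite R' := finite_of_le (S := S) (hR'W.trans hw.le_right)
        refine mem_normalizerIn_of_conj hg.1 fun x hx => hW'T _ (normalizerIn_conj hg (hR'W hx)) ?_
        obtain ⟨r, hr, rfl⟩ := (hw.1.mem_img_iff le_sup_left).1 hx
        exact hTn g hg.1 _ ((stronglyClosed_iff.1 hT).2 W w hw.1 r (Subgroup.mem_sup_left hr) (hR hr))
      have h2 := normalizerIn_le_sup_centralizer hn.1
      have := finite_of_le (S := S) (P := normalizerIn S R') inf_le_left
      have := finite_of_le (S := S) (P := normalizerIn S W) inf_le_left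
      exact ((Subgroup.card_le_of_le h1).trans (hn.2 R' hconj)).trans (Subgroup.card_le_of_le h2)
    · have h1 : g ∈ centralizerIn S R' := ⟨hg.1, fun x hx => hg.2 x (hR'W hx)⟩
      rw [← hCC] at h1
      exact hw.2 ▸ (Subgroup.closure_mono (Set.image_mono (le_sup_right : centralizerIn S R ≤ W)) h1)
  exact ⟨⟨hWS, fun W' hW' => (key W' hW').1⟩, hWS, fun W' hW' => (key W' hW').2⟩

/-- In a normal subsystem every automorphism of a centric subgroup, fully normalised in the big system,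
extends to `R C_S(R)` moving `C_S(R)` only modulo `R`. -/
theorem autGroup_le_extAut (hS : IsPGroup p S) (hE : E.IsNormalIn F p) {R : Subgroup Ω}
    (hc : E.IsCentric R) (hn : F.IsFullyNormalized R) : E.autGroup R ≤ extAut F hn.1 := by
  obtain ⟨hEw, hext⟩ := hE
  obtain ⟨hEs, hF, hi⟩ := id hEw
  have hTS : T ≤ S := hi.2.1.1
  have hfinT : Finite T := finite_of_le hTS
  have hTp : IsPGroup p T := hS.to_le hTS
  induction hd : Nat.card S - Nat.card R using Nat.strong_induction_on generalizing R with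
  | _ d ih =>
  have hRT : R ≤ T := hc.1
  have hRC : centralizerIn T R ≤ R := hc.2 R (isConj_refl E hRT)
  by_cases hRe : R = T
  · subst hRe
    intro α hα
    obtain ⟨β, hβ, hβα, hβc⟩ := hext α hα
    have hDS : R ⊔ centralizerIn S R ≤ S := sup_le hn.1 inf_le_left
    refine ⟨autFn β, (mem_autGroup_iff hDS).1 hβ, fun x hx => ?_, fun c hc' => ?_⟩
    · rw [autFn_apply β (Subgroup.mem_sup_left hx), autFn_apply α hx]
      exact hβα ⟨x, hx⟩
    · rw [autFn_apply β (Subgroup.mem_sup_right hc')]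
      exact (hβc ⟨c, Subgroup.mem_sup_right hc'⟩ hc').1
  set R₁ := normalizerIn T R with hR₁
  have hlt : R < R₁ := lt_normalizerIn hTp le_rfl (lt_of_le_of_ne hRT hRe)
  have hR₁T : R₁ ≤ T := inf_le_left
  have hR₁S : R₁ ≤ S := hR₁T.trans hTS
  have hEn := fullyNormalized_of_invariant hi hRT hn hS hF
  have hEA := fullyAutomized_of_fullyNormalized hTp hEs hEn
  have := finite_mulAut (S := S) hn.1
  have hB := (isFullyAutomized_iff.1 hEA).2
  set B := autInducedBy T R
  have hBpp : B ≤ ppAut E p R :=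
    mem_ppAut_of_isPGroup (isPGroup_autInducedBy hTp) (autInducedBy_le_autGroup E le_rfl hRT)
  have hpp : ppAut E p R ≤ extAut F hn.1 := ppAut_le_extAut hS hEw hc hn.1
  -- elements of order prime to `p` normalising `Aut_T(R)`
  have main : ∀ ν ∈ E.autGroup R, (orderOf ν).Coprime p → (∀ b ∈ B, ν * b * ν⁻¹ ∈ B) →
      ν ∈ extAut F hn.1 := by
    intro ν hν hνp hνB
    obtain ⟨g, hg, hgν⟩ := exists_extension (receptive_of_fullyNormalized hTp hEs hEn) hν
      (le_refl R₁) fun y hy => hνB _ ((range_normConj T R).le ⟨_, rfl⟩)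
    have hg1 : IsMap E R₁ g := hg.mono le_sup_right
    have hgR : img g R = R := (img_congr hgν).trans (isIso_autFn hRT hν).2
    obtain ⟨e₁, he₁, he₁g⟩ := exists_aut_of_isIso (⟨hg1, eq_of_le_of_card hR₁T
      (hg1.img_le le_rfl fun x hx => map_normalizerIn hg1 hlt.le hgR hx hx)
      (hg1.card_img le_rfl).ge⟩ : IsIso E R₁ R₁ g)
    have he₁R : ∀ x (hx : x ∈ R), ((e₁ ⟨x, hlt.le hx⟩ : R₁) : Ω) = autFn ν x := fun x hx =>
      (he₁g _).trans (hgν x hx)
    have hc₁ : E.IsCentric R₁ := FusionCrit.isCentric_of_le hc hlt.le hR₁T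
    obtain ⟨R₁f, v, hR₁f, hv, hvR, hvN⟩ := exists_fullyNormalized_map hS hF hR₁S
    have hR₁N : R₁ ≤ normalizerIn S R₁ := le_normalizerIn hR₁S
    have hvI : IsIso F R₁ R₁f v := ⟨hv.mono hR₁N, hvR⟩
    have hcf : E.IsCentric R₁f := isCentric_transport hi hc₁ hvI
    have hCf : centralizerIn T R₁f ≤ R₁f := hcf.2 R₁f (isConj_refl E hcf.1)
    set α₁ := MulAut.congr hvI.equiv e₁ with hα₁
    have hα₁E : α₁ ∈ E.autGroup R₁f := FusionNormal.congr_mem_autGroup hi hvI hR₁T he₁
    have hα₁v : ∀ r (hr : r ∈ R₁), autFn α₁ (v r) = v (e₁ ⟨r, hr⟩ : R₁) := fun r hr => by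
      rw [autFn_apply α₁ (hvI.mem hr)]
      exact congr_apply_coe hvI e₁ ⟨r, hr⟩
    have := finite_of_le (S := S) (P := R₁) hR₁S
    have hcard : Nat.card S - Nat.card R₁f < d := by
      have h1 := hvI.card_eq
      have h2 : Nat.card R < Nat.card R₁ := card_lt hR₁S hlt
      have h3 : Nat.card R₁ ≤ Nat.card S := Subgroup.card_le_of_le hR₁S
      omega
    obtain ⟨h, hh, hhα, hhc⟩ := ih _ hcard hcf hR₁f rfl hα₁E
    set W := R₁f ⊔ centralizerIn S R₁f with hW
    have hWS : W ≤ S := sup_le hR₁f.1 inf_le_left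
    have := finite_of_le hWS
    have := finite_mulAut (S := S) hWS
    obtain ⟨hWn, -⟩ := fullyNormalized_sup_centralizer hS hF hi.2.1 hcf.1 hR₁f hCf
    have hR₁fn : ∀ x ∈ W, ∀ n ∈ R₁f, x * n * x⁻¹ ∈ R₁f := fun x hx n hn' =>
      normalizerIn_conj (sup_le (le_normalizerIn hR₁f.1) (centralizerIn_le_normalizerIn S R₁f) hx :
        x ∈ normalizerIn S R₁f) hn'
    have hhW : ∀ w ∈ W, h w ∈ W ∧ w⁻¹ * h w ∈ R₁f := by
      intro w hw
      have hrc : w ∈ (R₁f : Set Ω) * (centralizerIn S R₁f : Set Ω) := by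
        rw [← Subgroup.coe_mul_of_right_le_normalizer_left R₁f _
          ((centralizerIn_le_normalizerIn S R₁f).trans inf_le_right)]
        exact hw
      obtain ⟨r, hr, c, hc', rfl⟩ := hrc
      have h1 : h r ∈ R₁f := hhα r hr ▸ autFn_mem α₁ hr
      have h2 : (r * c)⁻¹ * h (r * c) ∈ R₁f := by
        rw [hh.map_mul (Subgroup.mem_sup_left hr) (Subgroup.mem_sup_right hc'),
          show (r * c)⁻¹ * (h r * h c) = c⁻¹ * (r⁻¹ * h r) * c⁻¹⁻¹ * (c⁻¹ * h c) by group]
        exact R₁f.mul_mem (hR₁fn _ (W.inv_mem (Subgroup.mem_sup_right hc')) _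
          (R₁f.mul_mem (R₁f.inv_mem hr) h1)) (hhc c hc')
      refine ⟨?_, h2⟩
      have := W.mul_mem hw (Subgroup.mem_sup_left h2)
      simpa [mul_assoc] using this
    obtain ⟨a₀, ha₀, ha₀h⟩ := exists_aut_of_isIso (⟨hh, eq_of_le_of_card hWS
      (hh.img_le le_rfl fun x hx => (hhW x hx).1) (hh.card_img le_rfl).ge⟩ : IsIso F W W h)
    -- a power of order prime to `p`
    obtain ⟨m₁, hm₁, hm₁p⟩ := exists_pow_coprime_modEq a₀ (d := orderOf ν) hνp
    set a := a₀ ^ m₁ with ha_def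
    have ha : a ∈ F.autGroup W := pow_mem ha₀ m₁
    have hcong : ∀ (k : ℕ) (w : W), (w : Ω)⁻¹ * ((a₀ ^ k) w : W) ∈ R₁f := by
      intro k
      induction k with
      | zero => intro w; simp
      | succ k ihk =>
        intro w
        have h1 := ihk (a₀ w)
        have h2 : (w : Ω)⁻¹ * (a₀ w : W) ∈ R₁f := ha₀h w ▸ (hhW w w.2).2
        rw [pow_succ, MulAut.mul_apply]
        simpa [mul_assoc] using R₁f.mul_mem h2 h1
    have haR : ∀ (k : ℕ) (r : Ω) (hr : r ∈ R₁f),
        (((a₀ ^ k) ⟨r, Subgroup.mem_sup_left hr⟩ : W) : Ω) = ((α₁ ^ k) ⟨r, hr⟩ : R₁f) :=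
      pow_restrict le_sup_left fun r hr => (ha₀h _).trans ((hhα r hr).trans (autFn_apply α₁ hr))
    have he₁k := pow_restrict hlt.le (a := e₁) (b := ν)
      fun r hr => (he₁R r hr).trans (autFn_apply ν hr)
    -- conjugations by `C_S(R)` are normalised by `a`
    have hxN : ∀ x ∈ centralizerIn S R, x ∈ normalizerIn S R₁ := fun x hx => by
      have : Finite R := finite_of_le hn.1
      have : Finite R₁ := finite_of_le hR₁S
      refine mem_normalizerIn_of_conj hx.1 fun y hy => mem_normalizerIn_of_conj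
        (Fusion.conj_mem_of_stronglyClosed hi.2.1 hx.1 hy.1) fun r hr => ?_
      have h1 := centralizerIn_conj (inv_mem hx) hr
      rw [inv_inv] at h1
      rw [show x * y * x⁻¹ * r * (x * y * x⁻¹)⁻¹ = x * (y * (x⁻¹ * r * x) * y⁻¹) * x⁻¹ by group, h1,
        centralizerIn_conj hx (normalizerIn_conj hy hr)]
      exact normalizerIn_conj hy hr
    set K := (autInducedBy S W).comap (MulAut.conj a).toMonoidHom with hK
    obtain ⟨ψ, hψ, hψa⟩ := exists_extension (receptive_of_fullyNormalized hS hF hWn) ha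
      (NK_le_normalizerIn S W K) fun y hy => by
        obtain ⟨y', hy', he⟩ := hy
        obtain rfl : (y' : Ω) = y := he
        exact hy'
    have hψW : ∀ w (hw : w ∈ W), ψ w = (a ⟨w, hw⟩ : W) := fun w hw =>
      (hψa w hw).trans (autFn_apply a hw)
    have hkey : ∀ x ∈ centralizerIn S R, v x ∈ NK S W K ∧ (v x)⁻¹ * ψ (v x) ∈ W := by
      intro x hx
      have hxN1 := hxN x hx
      have hy1 : v x ∈ normalizerIn S R₁f := hvN x hxN1
      -- the commutator of `e₁` with `c_x` on `R₁`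
      set cx := normConj S R₁ ⟨x, hxN1⟩ with hcx
      have hcxF : cx ∈ F.autGroup R₁ :=
        autInducedBy_le_autGroup F le_rfl hR₁S ((range_normConj S R₁).le ⟨_, rfl⟩)
      set e := e₁ ^ m₁ with he
      have heR : ∀ r (hr : r ∈ R), ((e ⟨r, hlt.le hr⟩ : R₁) : Ω) = autFn ν r := fun r hr => by
        rw [he, he₁k m₁ r hr, pow_eq_self_of_modEq hm₁, autFn_apply ν hr]
      have heinv : ∀ r (hr : r ∈ R), ((e⁻¹ ⟨r, hlt.le hr⟩ : R₁) : Ω) ∈ R := by
        intro r hr
        have h1 := heR _ (autFn_mem ν⁻¹ hr)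
        rw [autFn_self_inv ν hr] at h1
        have h2 : e ⟨autFn ν⁻¹ r, hlt.le (autFn_mem ν⁻¹ hr)⟩ = ⟨r, hlt.le hr⟩ := Subtype.ext h1
        rw [← h2, MulAut.inv_apply_self]
        exact autFn_mem ν⁻¹ hr
      set γ := e * cx * e⁻¹ * cx⁻¹ with hγ
      have hγE : γ ∈ E.autGroup R₁ := by
        have h1 := FusionNormal.conj_mem_autGroup hi hR₁T hcxF (inv_mem (pow_mem he₁ m₁))
        have := mul_mem (pow_mem he₁ m₁) h1
        simpa [hγ, he, mul_assoc] using this
      have hγR : ∀ r (hr : r ∈ R), ((γ ⟨r, hlt.le hr⟩ : R₁) : Ω) = r := by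
        intro r hr
        have h1 : cx⁻¹ ⟨r, hlt.le hr⟩ = ⟨r, hlt.le hr⟩ := by
          refine (MulEquiv.symm_apply_eq cx).2 (Subtype.ext ?_)
          exact (centralizerIn_conj hx hr).symm
        have hy := heinv r hr
        have h2 : cx (e⁻¹ ⟨r, hlt.le hr⟩) = e⁻¹ ⟨r, hlt.le hr⟩ :=
          Subtype.ext (centralizerIn_conj hx hy)
        rw [hγ, MulAut.mul_apply, MulAut.mul_apply, MulAut.mul_apply, h1, h2, MulAut.apply_inv_self]
      obtain ⟨z, hz, hzγ⟩ := FusionSub.eq_conj_of_fixes_centric hTp hEs hR₁T hlt.le hc le_rfl hγE hγR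
      set d₀ := v z * v x with hd₀
      have hvz : v z ∈ R₁f := hvI.mem (hlt.le hz)
      have hd₀N : d₀ ∈ normalizerIn S R₁f := mul_mem (le_normalizerIn hR₁f.1 hvz) hy1
      have hNW : normalizerIn S R₁f ≤ normalizerIn S W := normalizerIn_le_sup_centralizer hR₁f.1
      set cy := normConj S W ⟨v x, hNW hy1⟩ with hcy
      set cd := normConj S W ⟨d₀, hNW hd₀N⟩ with hcd
      set θ := a * cy * a⁻¹ with hθ
      have hcyF : cy ∈ F.autGroup W :=
        autInducedBy_le_autGroup F le_rfl hWS ((range_normConj S W).le ⟨_, rfl⟩)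
      have hcdF : cd ∈ F.autGroup W :=
        autInducedBy_le_autGroup F le_rfl hWS ((range_normConj S W).le ⟨_, rfl⟩)
      have hav : ∀ r (hr : r ∈ R₁),
          ((a ⟨v r, Subgroup.mem_sup_left (hvI.mem hr)⟩ : W) : Ω) = v (e ⟨r, hr⟩ : R₁) := by
        intro r hr
        rw [ha_def, haR m₁ _ (hvI.mem hr), he, hα₁, ← map_pow]
        exact congr_apply_coe hvI (e₁ ^ m₁) ⟨r, hr⟩
      have hθR : ∀ r : W, (r : Ω) ∈ R₁f → θ r = cd r := by
        rintro ⟨r, hrW⟩ (hr : r ∈ R₁f)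
        obtain ⟨r₁, hr₁, rfl⟩ := hvI.exists_eq hr
        set u := e⁻¹ ⟨r₁, hr₁⟩ with hu
        have hau : a ⟨v u, Subgroup.mem_sup_left (hvI.mem u.2)⟩ = ⟨v r₁, hrW⟩ := by
          refine Subtype.ext ((hav u u.2).trans ?_)
          rw [hu, Subtype.coe_eta, MulAut.apply_inv_self]
        have hau' : a⁻¹ ⟨v r₁, hrW⟩ = ⟨v u, Subgroup.mem_sup_left (hvI.mem u.2)⟩ := by
          rw [← hau, MulAut.inv_apply_self]
        rw [hθ, MulAut.mul_apply, MulAut.mul_apply, hau']
        have hu' : x * (u : Ω) * x⁻¹ ∈ R₁ := normalizerIn_conj hxN1 u.2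
        have hyu : cy ⟨v u, Subgroup.mem_sup_left (hvI.mem u.2)⟩ =
            ⟨v (x * u * x⁻¹), Subgroup.mem_sup_left (hvI.mem hu')⟩ :=
          Subtype.ext (hv.map_conj hxN1 (hR₁N u.2)).symm
        rw [hyu]
        refine Subtype.ext ((hav _ hu').trans ?_)
        have h3 : (e ⟨x * u * x⁻¹, hu'⟩ : R₁) = γ (cx ⟨r₁, hr₁⟩) := by
          rw [hγ, MulAut.mul_apply, MulAut.mul_apply, MulAut.mul_apply, MulAut.inv_apply_self]
          rfl
        rw [h3, hzγ]
        show v (z * (x * r₁ * x⁻¹) * z⁻¹) = d₀ * v r₁ * d₀⁻¹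
        rw [hv.map_conj (hR₁N (hlt.le hz)) (hR₁N (normalizerIn_conj hxN1 hr₁)),
          hv.map_conj hxN1 (hR₁N hr₁), hd₀]
        group
      have hcong' : ∀ w : W, (w : Ω)⁻¹ * (a⁻¹ w : W) ∈ R₁f := fun w => by
        have h1 := hcong m₁ (a⁻¹ w)
        rw [← ha_def, MulAut.apply_inv_self] at h1
        simpa using inv_mem h1
      have hθc : ∀ w : W, (θ w : W) ∈ ({u : W | (cd w : Ω)⁻¹ * u ∈ R₁f} : Set W) := by
        intro w
        show (cd w : Ω)⁻¹ * (θ w : W) ∈ R₁f
        rw [hθ, MulAut.mul_apply, MulAut.mul_apply]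
        have h1 := hcong' w
        have h2 := hcong m₁ (cy (a⁻¹ w))
        rw [← ha_def] at h2
        have h3 : ((cy (a⁻¹ w) : W) : Ω) = v x * (a⁻¹ w : W) * (v x)⁻¹ := rfl
        have h4 : ((cd w : W) : Ω) = d₀ * w * d₀⁻¹ := rfl
        have h5 : (cd w : Ω)⁻¹ * (cy (a⁻¹ w) : W) ∈ R₁f := by
          rw [h3, h4, hd₀]
          have h6 : (v x)⁻¹ * (v z)⁻¹ * v x ∈ R₁f := by
            have := normalizerIn_conj (inv_mem hy1) (R₁f.inv_mem hvz)
            simpa using this
          have h7 : (v x)⁻¹ * v z * v x ∈ R₁f := by simpa [mul_assoc] using R₁f.inv_mem h6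
          have h8 : (w : Ω)⁻¹ * ((v x)⁻¹ * (v z)⁻¹ * v x) * (w : Ω) ∈ R₁f := by
            have := hR₁fn _ (W.inv_mem w.2) _ h6
            simpa using this
          have := normalizerIn_conj hy1 (R₁f.mul_mem (R₁f.mul_mem h7 h8) h1)
          simpa [mul_assoc] using this
        simpa [mul_assoc] using R₁f.mul_mem h5 h2
      have hK1 : cd⁻¹ * θ ∈ stabilizing W R₁f hR₁fn := by
        refine ⟨fun r hr => by rw [MulAut.mul_apply, hθR r hr, MulAut.inv_apply_self], fun w => ?_⟩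
        have h1 : (cd w : Ω)⁻¹ * (θ w : W) ∈ R₁f := hθc w
        obtain ⟨u, hu⟩ := cd.surjective (θ w)
        rw [MulAut.mul_apply, ← hu, MulAut.inv_apply_self]
        rw [← hu] at h1
        have h2 : ((cd u : W) : Ω) = d₀ * u * d₀⁻¹ := rfl
        have h3 : ((cd w : W) : Ω) = d₀ * w * d₀⁻¹ := rfl
        rw [h2, h3] at h1
        have := normalizerIn_conj_inv hd₀N h1
        simpa [mul_assoc] using this
      have hstab : stabilizing W R₁f hR₁fn ⊓ F.autGroup W ≤ autInducedBy S W := by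
        refine le_autInducedBy_of_normal (fullyAutomized_of_fullyNormalized hS hF hWn)
          ((isPGroup_stabilizing (hS.to_le hWS)).to_le inf_le_left) inf_le_right ?_
        rintro α hα k ⟨⟨hk1, hk2⟩, hk⟩
        refine ⟨?_, mul_mem (mul_mem hα hk) (Subgroup.inv_mem _ hα)⟩
        have hinv : ∀ {β : MulAut W}, β ∈ F.autGroup W → ∀ w : W, (w : Ω) ∈ R₁f →
            ((β w : W) : Ω) ∈ R₁f := by
          intro β hβ w hw
          have h1 : ((β w : W) : Ω) ∈ T := autFn_apply β w.2 ▸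
            (stronglyClosed_iff.1 hi.2.1).2 W _ (isIso_autFn hWS hβ).1 w w.2 (hcf.1 hw)
          exact (inf_T_sup_centralizer (S := S) (fun s hs t ht =>
            Fusion.conj_mem_of_stronglyClosed hi.2.1 hs ht) hcf.1 hR₁f.1 hCf).le ⟨(β w).2, h1⟩
        refine ⟨fun w hw => ?_, fun w => ?_⟩
        · rw [MulAut.mul_apply, MulAut.mul_apply, hk1 _ (hinv (Subgroup.inv_mem _ hα) w hw), MulAut.apply_inv_self]
        · have h1 := hinv hα ((α⁻¹ w)⁻¹ * k (α⁻¹ w)) (hk2 _)
          rw [map_mul, map_inv, MulAut.apply_inv_self] at h1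
          exact h1
      have hθF : θ ∈ F.autGroup W := mul_mem (mul_mem ha hcyF) (inv_mem ha)
      obtain ⟨dd, hdd, hdde⟩ := mem_autInducedBy_iff.1
        (hstab ⟨hK1, mul_mem (Subgroup.inv_mem _ hcdF) hθF⟩)
      have hddC : dd ∈ centralizerIn S R₁f := mem_centralizerIn_of_conj hdd fun r hr => by
        have h1 := hdde ⟨r, Subgroup.mem_sup_left hr⟩
        rw [hK1.1 _ hr] at h1
        exact h1.symm
      have hθS : θ ∈ autInducedBy S W := by
        have : θ = cd * (cd⁻¹ * θ) := by group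
        rw [this]
        exact mul_mem ((range_normConj S W).le ⟨_, rfl⟩)
          (mem_autInducedBy_iff.2 ⟨dd, hdd, hdde⟩)
      have hyK : v x ∈ NK S W K := ⟨⟨v x, hNW hy1⟩, hθS, rfl⟩
      refine ⟨hyK, ?_⟩
      have hθw : ∀ w : W, ((θ w : W) : Ω) = (d₀ * dd) * w * (d₀ * dd)⁻¹ := fun w => by
        have : θ = cd * (cd⁻¹ * θ) := by group
        rw [this, MulAut.mul_apply]
        show d₀ * (((cd⁻¹ * θ) w : W) : Ω) * d₀⁻¹ = _
        rw [hdde]
        group
      have hψy : ∀ w : W, ((θ w : W) : Ω) = ψ (v x) * w * (ψ (v x))⁻¹ := by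
        intro w
        set u := a⁻¹ w with hu
        have h1 : ψ (v x * u * (v x)⁻¹) = ψ (v x) * ψ u * (ψ (v x))⁻¹ :=
          hψ.map_conj (Subgroup.mem_sup_right hyK) (Subgroup.mem_sup_left u.2)
        rw [hψW u u.2, hu, MulAut.apply_inv_self, hψW _ (normalizerIn_conj (hNW hy1) (a⁻¹ w).2)] at h1
        rw [← h1, hθ, MulAut.mul_apply, MulAut.mul_apply]
        rfl
      have hcent : (d₀ * dd)⁻¹ * ψ (v x) ∈ centralizerIn S W := by
        refine mem_centralizerIn_of_conj (S.mul_mem (S.inv_mem (S.mul_mem hd₀N.1 hdd))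
          (hψ.mem (Subgroup.mem_sup_right hyK))) fun w hw => ?_
        have h2 := hψy ⟨w, hw⟩
        rw [hθw ⟨w, hw⟩] at h2
        calc (d₀ * dd)⁻¹ * ψ (v x) * w * ((d₀ * dd)⁻¹ * ψ (v x))⁻¹
            = (d₀ * dd)⁻¹ * (ψ (v x) * w * (ψ (v x))⁻¹) * (d₀ * dd) := by group
          _ = w := by rw [← h2]; group
      have hWc : centralizerIn S W ≤ W := fun c hc' =>
        Subgroup.mem_sup_right ⟨hc'.1, fun r hr => hc'.2 r (Subgroup.mem_sup_left hr)⟩
      have h9 : (v x)⁻¹ * v z * v x ∈ W := by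
        have := normalizerIn_conj_inv (hNW hy1) (Subgroup.mem_sup_left hvz : v z ∈ W)
        simpa using this
      have := W.mul_mem (W.mul_mem h9 (Subgroup.mem_sup_right hddC)) (hWc hcent)
      simpa [hd₀, mul_assoc] using this
    -- descend to `M = W v(C_S(R))`
    set Y := img v (centralizerIn S R) with hY
    have hCN : centralizerIn S R ≤ normalizerIn S R₁ := fun x hx => hxN x hx
    set M := W ⊔ Y with hM
    have hYle : Y ≤ NK S W K := hv.img_le hCN fun x hx => (hkey x hx).1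
    have hMle : M ≤ W ⊔ NK S W K := sup_le_sup_left hYle W
    have hψM : IsMap F M ψ := hψ.mono hMle
    have hMS : M ≤ S := hψM.le
    have hψM' : ∀ y ∈ M, ψ y ∈ M := fun y hy => hψM.forall_mem_sup le_sup_left le_sup_right
      (fun w hw => Subgroup.mem_sup_left (hψW w hw ▸ (a ⟨w, hw⟩).2))
      (fun y hy => by
        obtain ⟨x, hx, rfl⟩ := (hv.mem_img_iff hCN).1 hy
        have := M.mul_mem (Subgroup.mem_sup_right hy) (Subgroup.mem_sup_left (hkey x hx).2)
        simpa [mul_assoc] using this) hy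
    have := finite_of_le hMS
    have := finite_mulAut (S := S) hMS
    obtain ⟨b₀, hb₀, hb₀ψ⟩ := exists_aut_of_isIso (⟨hψM, eq_of_le_of_card hMS
      (hψM.img_le le_rfl hψM') (hψM.card_img le_rfl).ge⟩ : IsIso F M M ψ)
    obtain ⟨m, hm, hmp⟩ := exists_pow_coprime_modEq b₀ (d := orderOf a) hm₁p
    have hbW : ∀ (k : ℕ) (w : Ω) (hw : w ∈ W),
        (((b₀ ^ k) ⟨w, Subgroup.mem_sup_left hw⟩ : M) : Ω) = ((a ^ k) ⟨w, hw⟩ : W) :=
      pow_restrict le_sup_left fun w hw => (hb₀ψ _).trans (hψW w hw)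
    set b := b₀ ^ m with hb
    have hba : ∀ w (hw : w ∈ W), ((b ⟨w, Subgroup.mem_sup_left hw⟩ : M) : Ω) = (a ⟨w, hw⟩ : W) :=
      fun w hw => by rw [hb, hbW m w hw, pow_eq_self_of_modEq hm]
    -- `b` moves `v(C_S(R))` only modulo `R₁f`
    have hbY : ∀ x (hx : x ∈ centralizerIn S R),
        (v x)⁻¹ * ((b ⟨v x, Subgroup.mem_sup_right (hv.mem_img hx)⟩ : M) : Ω) ∈ R₁f := by
      intro x hx
      set y : M := ⟨v x, Subgroup.mem_sup_right (hv.mem_img hx)⟩ with hy
      have hyN : v x ∈ normalizerIn S R₁f := hvN x (hxN x hx)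
      have hMW : ∀ (k : ℕ) (y : Ω) (hy : y ∈ M),
          y⁻¹ * ψ y ∈ W → y⁻¹ * ((b₀ ^ k) ⟨y, hy⟩ : M) ∈ W := by
        intro k
        induction k with
        | zero => intro y hy _; simp
        | succ k ihk =>
          intro y hy hyW
          rw [pow_succ', MulAut.mul_apply]
          have h1 := ihk y hy hyW
          set w₀ : W := ⟨_, h1⟩
          have h2 : (b₀ ^ k) ⟨y, hy⟩ = ⟨y, hy⟩ * ⟨(w₀ : Ω), Subgroup.mem_sup_left w₀.2⟩ :=
            Subtype.ext (mul_inv_cancel_left y _).symm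
          rw [h2, map_mul, Subgroup.coe_mul, hb₀ψ, ← mul_assoc]
          exact W.mul_mem hyW (hb₀ψ _ ▸ hψW _ w₀.2 ▸ (a w₀).2)
      have hyW : (v x)⁻¹ * ((b y : M) : Ω) ∈ W := hMW m _ _ (hkey x hx).2
      set w : W := ⟨_, hyW⟩ with hw
      have hfix : ∀ k : ℕ, ((v x) * (w : Ω) ^ k)⁻¹ * ((b ^ k) y : M) ∈ R₁f := by
        intro k
        induction k with
        | zero => simp [hy]
        | succ k ihk =>
          set r : W := ⟨_, Subgroup.mem_sup_left ihk⟩ with hr
          have h2 : (b ^ k) y =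
              y * ⟨(w ^ k : W), Subgroup.mem_sup_left (w ^ k).2⟩ * ⟨r, Subgroup.mem_sup_left r.2⟩ := by
            refine Subtype.ext ?_
            show _ = v x * ((w ^ k : W) : Ω) * (r : Ω)
            rw [SubgroupClass.coe_pow, hr]
            exact (mul_inv_cancel_left _ _).symm
          rw [pow_succ' b, MulAut.mul_apply, h2, map_mul, map_mul, Subgroup.coe_mul, Subgroup.coe_mul,
            hba _ (w ^ k).2, hba _ r.2]
          have h3 : ((b y : M) : Ω) = v x * w := (mul_inv_cancel_left _ _).symm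
          rw [h3, Subtype.coe_eta, Subtype.coe_eta]
          have h4 : (((w ^ k : W) : Ω))⁻¹ * (a (w ^ k) : W) ∈ R₁f := ha_def ▸ hcong m₁ _
          have h5 : ((a r : W) : Ω) ∈ R₁f := by
            rw [ha_def, show r = ⟨_, Subgroup.mem_sup_left ihk⟩ from rfl, haR m₁ _ ihk]
            exact ((α₁ ^ m₁) _).2
          have := R₁f.mul_mem h4 h5
          rw [SubgroupClass.coe_pow] at this
          convert this using 1
          rw [pow_succ']
          group
      have h1 := hfix (orderOf b)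
      rw [pow_orderOf_eq_one] at h1
      have h2 : ((w : Ω) ^ orderOf b) ∈ R₁f := by
        have : ((v x) * (w : Ω) ^ orderOf b)⁻¹ * v x ∈ R₁f := h1
        simpa using R₁f.inv_mem this
      obtain ⟨k, hk⟩ := (hS.to_le hWS) w
      have hk' : (w : Ω) ^ p ^ k = 1 := congrArg Subtype.val hk
      have := FusionNormal.pow_gcd_mem h2 hk'
      rwa [(Nat.Coprime.pow_right k hmp).gcd_eq_one, pow_one] at this
    -- pull back along `v`
    set D := R ⊔ centralizerIn S R with hD
    have hDN : D ≤ normalizerIn S R₁ := sup_le (hlt.le.trans hR₁N) hCN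
    have hvD : IsMap F D v := hv.mono hDN
    have hbM : IsMap F M (autFn b) := (mem_autGroup_iff hMS).1 (pow_mem hb₀ m)
    have hvM : ∀ z ∈ D, v z ∈ M := fun z hz => hvD.forall_mem_sup le_sup_left le_sup_right
      (fun r hr => Subgroup.mem_sup_left (Subgroup.mem_sup_left (hvI.mem (hlt.le hr))))
      (fun c hc' => Subgroup.mem_sup_right (hv.mem_img hc')) hz
    obtain ⟨i, hi', hil, -⟩ := hv.isIso.symm
    have hR₁fle : R₁f ≤ img v (normalizerIn S R₁) := hvR ▸ hv.img_le hR₁N fun x hx =>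
      hv.mem_img (hR₁N hx)
    have hbR : ∀ r (hr : r ∈ R), autFn b (v r) = v (autFn ν r) := by
      intro r hr
      have hvr : v r ∈ R₁f := hvI.mem (hlt.le hr)
      rw [autFn_apply b (Subgroup.mem_sup_left (Subgroup.mem_sup_left hvr)),
        hba _ (Subgroup.mem_sup_left hvr), ha_def, haR m₁ _ hvr, ← map_pow]
      refine (congr_apply_coe hvI (e₁ ^ m₁) ⟨r, hlt.le hr⟩).trans (congrArg v ?_)
      rw [he₁k m₁ r hr, pow_eq_self_of_modEq hm₁, autFn_apply ν hr]
    have hbC : ∀ c ∈ centralizerIn S R, (v c)⁻¹ * autFn b (v c) ∈ R₁f := fun c hc' => by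
      rw [autFn_apply b (Subgroup.mem_sup_right (hv.mem_img hc'))]
      exact hbY c hc'
    have hcomp : IsMap F D (fun z => autFn b (v z)) := hvD.comp hbM hvM
    have hmaps : ∀ z ∈ D, autFn b (v z) ∈ img v (normalizerIn S R₁) := fun z hz =>
      hcomp.forall_mem_sup le_sup_left le_sup_right
        (fun r hr => by
          show autFn b (v r) ∈ _
          rw [hbR r hr]
          exact hv.mem_img (hR₁N (hlt.le (autFn_mem ν hr))))
        (fun c hc' => by
          show autFn b (v c) ∈ _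
          have := mul_mem (hv.mem_img (hCN hc')) (hR₁fle (hbC c hc'))
          simpa using this) hz
    have hfinal : IsMap F D (fun z => i (autFn b (v z))) := hcomp.comp hi'.1 hmaps
    refine ⟨_, hfinal, fun r hr => ?_, fun c hc' => ?_⟩
    · show i (autFn b (v r)) = _
      rw [hbR r hr, hil _ (hR₁N (hlt.le (autFn_mem ν hr)))]
    · show c⁻¹ * i (autFn b (v c)) ∈ R
      have h1 := hbC c hc'
      obtain ⟨r₁, hr₁, hr₁e⟩ := hvI.exists_eq h1
      have h2 : i (autFn b (v c)) = c * r₁ := by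
        rw [← hil (c * r₁) (mul_mem (hCN hc') (hR₁N hr₁)), hv.map_mul (hCN hc') (hR₁N hr₁), hr₁e,
          mul_inv_cancel_left]
      rw [h2, inv_mul_cancel_left]
      refine hRC ⟨hR₁T hr₁, ?_⟩
      have himg : img (fun z => i (autFn b (v z))) R = R :=
        (img_congr fun r hr => by
          show i (autFn b (v r)) = autFn ν r
          rw [hbR r hr, hil _ (hR₁N (hlt.le (autFn_mem ν hr)))]).trans (isIso_autFn hRT hν).2
      have h3 := map_centralizerIn hfinal le_sup_left himg (Subgroup.mem_sup_right hc') hc'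
      simp only [h2] at h3
      have := Subgroup.mul_mem _ (Subgroup.inv_mem _ hc'.2) h3.2
      rwa [inv_mul_cancel_left] at this
  -- reduction
  set N := E.autGroup R ⊓ Subgroup.normalizer (B : Set (MulAut R)) with hN
  have hBN : B ≤ N := le_inf hB.le Subgroup.le_normalizer
  have hNle : N ≤ extAut F hn.1 := by
    refine FusionNormal.autGroup_le_of_sylow_pResidual (hB.mono hBN inf_le_left) (hBpp.trans hpp)
      fun ν hν hνp => main ν hν.1 hνp fun b hb => (Subgroup.mem_normalizer_iff.1 hν.2 b).1 hb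
  intro α hα
  obtain ⟨a, ha, hac⟩ := (hB.mono hBpp (ppAut_le_autGroup E p R)).exists_conj_le
    ((isPGroup_autInducedBy hTp).map (MulAut.conj α).toMonoidHom)
    (by rintro _ ⟨b, hb, rfl⟩; exact conj_mem_ppAut hα (hBpp hb))
  have hnorm : a * α ∈ N := by
    refine ⟨mul_mem (ppAut_le_autGroup E p R ha) hα, ?_⟩
    have hsub : ∀ b ∈ B, a * α * b * (a * α)⁻¹ ∈ B := fun b hb => by
      have := hac _ ⟨b, hb, rfl⟩
      simpa [mul_assoc] using this
    have : Finite B := inferInstance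
    refine Subgroup.mem_normalizer_iff.2 fun b => ⟨hsub b, fun hb => ?_⟩
    have hinj : Set.InjOn (fun b => a * α * b * (a * α)⁻¹) (B : Set (MulAut R)) :=
      fun x _ y _ h => mul_left_cancel (mul_right_cancel h)
    obtain ⟨b', hb', e⟩ := ((Set.toFinite (B : Set (MulAut R))).surjOn_iff_bijOn_of_mapsTo
      (fun b hb => hsub b hb) |>.2 ⟨fun b hb => hsub b hb, hinj,
        ((Set.toFinite (B : Set (MulAut R))).injOn_iff_bijOn_of_mapsTo
          (fun b hb => hsub b hb) |>.1 hinj).surjOn⟩) hb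
    have : b = b' := mul_left_cancel (mul_right_cancel e.symm)
    rwa [this]
  have h1 := hNle hnorm
  have h2 := inv_mem (hpp ha)
  simpa using mul_mem h2 h1

end Cfsg.Agent.FusionProduct
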