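import Cfsg.Agent.Lib.FusionProduct.LiftRigid
import Cfsg.Agent.Lib.FusionCrit.Basic

/-
Lifting a normal subsystem of a factor system by a central subgroup, part 4: the lifted system is saturated
and weakly normal.
Main results (namespace `Cfsg.Agent.FusionProduct`): `LiftData.isSaturated_liftSys`,
`LiftData.isWeaklyNormalIn_liftSys`.
-/

set_option autoImplicit false

open scoped Pointwise

namespace Cfsg.Agent.FusionProduct

open Cfsg Cfsg.FusionSystem Cfsg.Agent.Fusion Cfsg.Agent.FusionChain Cfsg.Agent.FusionCrit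

variable {Ω : Type*} [Group Ω] {S : Subgroup Ω} {Ω' : Type*} [Group Ω'] {S' T' : Subgroup Ω'}
  {F : FusionSystem S} {Q : Subgroup Ω} {θ : S →* Ω'} {E : FusionSystem T'} {p : ℕ}
  {B : FusionSystem S'}

namespace LiftData

variable (D : LiftData F Q θ B E p)
include D

theorem liftSys_sub : (liftSys F Q θ E p).IsSubsystemOf F := fun _ φ hφ =>
  mem_of_isMap (LGen.isMap hφ) fun x => (toFn_coe φ x).symm

omit D in
theorem lgen_of_isIso {P R : Subgroup Ω} {f : Ω → Ω} (h : IsIso (liftSys F Q θ E p) P R f) :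
    LGen F Q θ E p P f := isMap_liftSys.1 h.1

theorem cent_conj {P R : Subgroup Ω} (hP : Cent Q θ E P) (h : (liftSys F Q θ E p).IsConj P R) :
    Cent Q θ E R := by
  obtain ⟨f, hf⟩ := isConj_iff.1 h
  exact D.cent_iso (FusionNormal.isIso_of_sub D.liftSys_sub hf) hP

/-- A map of `E` between images lifts to an isomorphism of the lifted system. -/
theorem exists_conj_lift [Finite S] [Fact p.Prime] (hS : IsPGroup p S) {P : Subgroup Ω}
    (hP : P ≤ preimageAlong θ T') (hQ : Q ≤ P) {R' : Subgroup Ω'}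
    (h : E.IsConj (imageAlong θ P) R') :
    (liftSys F Q θ E p).IsConj P (preimageAlong θ R') := by
  obtain ⟨w, hw⟩ := isConj_iff.1 h
  obtain ⟨f, hf, ef⟩ := D.exists_lgen_lift hS hw.1
  have hPS : P ≤ S := hP.trans (preimageAlong_le θ T')
  rw [D.pre_image hPS hQ] at hf ef
  obtain ⟨hQ', f', hf', ef'⟩ := D.lgen_iso_image hf hQ
  refine isConj_iff.2 ⟨f, isMap_liftSys.2 hf, ?_⟩
  have h1 : imageAlong θ (img f P) = R' := by
    rw [← hf'.2, ← hw.2]
    refine img_congr fun y hy => ?_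
    obtain ⟨x, hx, -, rfl⟩ := mem_imageAlong.1 hy
    rw [ef' x hx, ef x hx]
  rw [← h1, D.pre_image hf.isMap.img_le_S hQ']

variable [Finite S] [Fact p.Prime]

theorem fullyAutomized_liftSys (hS : IsPGroup p S) {R : Subgroup Ω} (hc : Cent Q θ E R)
    (hn : E.IsFullyNormalized (imageAlong θ R)) :
    (liftSys F Q θ E p).IsFullyAutomized p R := by
  have hR := hc.le
  have := finite_mulAut (S := S) hR
  have := D.data.finite_S'
  have hfinT : Finite T' := finite_of_le D.T'_le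
  have hT' : IsPGroup p T' := (D.data.isPGroup_S' hS).to_le D.T'_le
  have := finite_mulAut (S := T') hc.2.2.1
  set U := preimageAlong θ T' with hU
  set L := liftSys F Q θ E p with hL
  refine isFullyAutomized_iff.2 ⟨hc.2.1, autInducedBy_le_autGroup L le_rfl hc.2.1,
    isPGroup_autInducedBy (hS.to_le (preimageAlong_le θ T')), fun C hC hCL hCp => ?_⟩
  refine le_antisymm (fun γ hγ => ?_) hC
  set R' := imageAlong θ R with hR'
  let C' : Subgroup (MulAut R') :=
    { carrier := {α' | α' ∈ E.autGroup R' ∧ ∃ δ ∈ C, ∀ x ∈ R, thF θ (autFn δ x) = autFn α' (thF θ x)}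
      one_mem' := ⟨one_mem _, 1, one_mem _, fun x hx => by
        rw [autFn_apply _ hx, autFn_apply _ (thF_mem_image θ hR hx)]; rfl⟩
      mul_mem' := by
        rintro u v ⟨hu, a, ha, ea⟩ ⟨hv, b, hb, eb⟩
        refine ⟨mul_mem hu hv, a * b, mul_mem ha hb, fun x hx => ?_⟩
        rw [autFn_mul _ _ hx, ea _ (autFn_mem b hx), eb x hx,
          autFn_mul _ _ (thF_mem_image θ hR hx)]
      inv_mem' := by
        rintro u ⟨hu, a, ha, ea⟩
        refine ⟨Subgroup.inv_mem _ hu, a⁻¹, inv_mem ha, fun x hx => ?_⟩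
        have h := ea _ (autFn_mem a⁻¹ hx)
        rw [autFn_self_inv a hx] at h
        rw [h, autFn_inv_self u (thF_mem_image θ hR (autFn_mem a⁻¹ hx))] }
  have hC'p : IsPGroup p C' := by
    rintro ⟨u, hu, a, ha, ea⟩
    obtain ⟨k, hk⟩ := hCp ⟨a, ha⟩
    refine ⟨k, Subtype.ext ?_⟩
    show u ^ p ^ k = 1
    have hpow : ∀ (n : ℕ), ∀ x ∈ R, thF θ (autFn (a ^ n) x) = autFn (u ^ n) (thF θ x) := by
      intro n
      induction n with
      | zero =>
        intro x hx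
        rw [pow_zero, pow_zero, autFn_apply _ hx, autFn_apply _ (thF_mem_image θ hR hx)]
        rfl
      | succ n ih =>
        intro x hx
        rw [pow_succ, autFn_mul _ _ hx, pow_succ, autFn_mul _ _ (thF_mem_image θ hR hx),
          ih _ (autFn_mem a hx), ea x hx]
    refine MulEquiv.ext fun y => Subtype.ext ?_
    obtain ⟨x, hx, -, hxy⟩ := mem_imageAlong.1 y.2
    have h := hpow (p ^ k) x hx
    rw [show a ^ p ^ k = 1 from congrArg Subtype.val hk, autFn_apply _ hx, hxy,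
      autFn_apply _ y.2] at h
    exact h.symm.trans hxy
  have hbar : ∀ δ ∈ C, ∃ α' ∈ C', ∀ x ∈ R, thF θ (autFn δ x) = autFn α' (thF θ x) := by
    intro δ hδ
    have hg := isMap_liftSys.1 ((mem_autGroup_iff hc.2.1).1 (hCL hδ))
    obtain ⟨-, f', hf', e⟩ := D.lgen_iso_image hg hc.1
    rw [(isIso_autFn hc.2.1 (hCL hδ)).2] at hf'
    obtain ⟨α', hα', eα⟩ := exists_aut_of_isIso hf'
    have h : ∀ x ∈ R, thF θ (autFn δ x) = autFn α' (thF θ x) := fun x hx => by
      rw [autFn_apply α' (thF_mem_image θ hR hx), eα, e x hx]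
    exact ⟨α', ⟨hα', δ, hδ, h⟩, h⟩
  have hAT : autInducedBy T' R' ≤ C' := by
    intro β hβ
    obtain ⟨t', ht', te⟩ := mem_autInducedBy_iff.1 hβ
    obtain ⟨t, ht, rfl⟩ := D.data.exists_eq (D.T'_le ht')
    have htN' : thF θ t ∈ normalizerIn T' R' := mem_normalizerIn_of_aut ht' te
    have htN : t ∈ normalizerIn U R :=
      D.pre_normalizer hc.2.1 hc.1 ▸ mem_preimageAlong.2 ⟨ht, htN'⟩
    refine ⟨autInducedBy_le_autGroup E le_rfl hc.2.2.1 hβ, normConj U R ⟨t, htN⟩,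
      hC (mem_autInducedBy_iff.2 ⟨t, htN.1, fun x => rfl⟩), fun x hx => ?_⟩
    rw [autFn_apply _ hx, autFn_apply _ (thF_mem_image θ hR hx), te]
    exact thF_conj θ ht (hR hx)
  have heq : C' = autInducedBy T' R' := (isFullyAutomized_iff.1
    (fullyAutomized_of_fullyNormalized hT' D.satE hn)).2.2.2 C' hAT (fun _ h => h.1) hC'p
  obtain ⟨α', hα', eγ⟩ := hbar γ hγ
  obtain ⟨t', ht', te⟩ := mem_autInducedBy_iff.1 (heq.le hα')
  obtain ⟨t, ht, rfl⟩ := D.data.exists_eq (D.T'_le ht')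
  have htN : t ∈ normalizerIn U R :=
    D.pre_normalizer hc.2.1 hc.1 ▸ mem_preimageAlong.2 ⟨ht, mem_normalizerIn_of_aut ht' te⟩
  set b := normConj U R ⟨t, htN⟩ with hb
  have hbA : b ∈ autInducedBy U R := mem_autInducedBy_iff.2 ⟨t, htN.1, fun x => rfl⟩
  have hmem : b⁻¹ * γ ∈ L.autGroup R := mul_mem (Subgroup.inv_mem _ (hCL (hC hbA))) (hCL hγ)
  obtain ⟨m, hm, hme⟩ := D.rigid hS hc (autFn (b⁻¹ * γ))
    (isMap_liftSys.1 ((mem_autGroup_iff hc.2.1).1 hmem)) fun x hx => by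
    have h1 : thF θ (autFn b (autFn (b⁻¹ * γ) x)) = thF θ (autFn b x) := by
      rw [← autFn_mul _ _ hx, mul_inv_cancel_left, eγ x hx, autFn_apply b hx,
        autFn_apply α' (thF_mem_image θ hR hx), te]
      exact (thF_conj θ ht (hR hx)).symm
    have hb' : IsMap F R (autFn b) := FusionNormal.isMap_of_sub D.liftSys_sub
      ((mem_autGroup_iff hc.2.1).1 (hCL (hC hbA)))
    have hbi : IsMap F R (autFn b⁻¹) := FusionNormal.isMap_of_sub D.liftSys_sub
      ((mem_autGroup_iff hc.2.1).1 (Subgroup.inv_mem _ (hCL (hC hbA))))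
    have h2 := D.data.map_congr hbi (autFn_mem b (autFn_mem _ hx)) (autFn_mem b hx) h1
    rwa [autFn_inv_self b (autFn_mem _ hx), autFn_inv_self b hx] at h2
  have hmA : b⁻¹ * γ ∈ autInducedBy U R := mem_autInducedBy_iff.2
    ⟨m, hc.2.1 hm, fun x => by rw [← autFn_apply _ x.2]; exact hme x x.2⟩
  simpa using mul_mem hbA hmA

theorem receptive_liftSys (hS : IsPGroup p S) {R : Subgroup Ω} (hc : Cent Q θ E R)
    (hn : E.IsFullyNormalized (imageAlong θ R)) : (liftSys F Q θ E p).IsReceptive R := by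
  have := D.data.finite_S'
  have hfinT : Finite T' := finite_of_le D.T'_le
  have hT' : IsPGroup p T' := (D.data.isPGroup_S' hS).to_le D.T'_le
  set U := preimageAlong θ T' with hU
  refine isReceptive_iff.2 ⟨hc.2.1, fun P φ hφ => ?_⟩
  obtain ⟨i, hi, hiφ, -⟩ := hφ.symm
  have hP : Cent Q θ E P := D.cent_iso (FusionNormal.isIso_of_sub D.liftSys_sub hi) hc
  have hφg := isMap_liftSys.1 hφ.1
  obtain ⟨-, φ', hφ', eφ⟩ := D.lgen_iso_image hφg hP.1
  rw [hφ.2] at hφ'
  obtain ⟨e', he', ee⟩ :=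
    (isReceptive_iff.1 (receptive_of_fullyNormalized hT' D.satE hn)).2 _ _ hφ'
  obtain ⟨f, hf, ef⟩ := D.exists_lgen_lift hS he'
  have hPU := hP.2.1
  set N := Nx U P φ with hN
  have hNle : N ≤ preimageAlong θ (Nx T' (imageAlong θ P) φ') := by
    rintro g ⟨hgN, h, hh, hgh⟩
    obtain ⟨hgS, hg'⟩ := mem_preimageAlong.1 ((D.pre_normalizer hPU hP.1).symm.le hgN)
    obtain ⟨hhS, hhT⟩ := mem_preimageAlong.1 hh
    refine mem_preimageAlong.2 ⟨hgS, hg', thF θ h, hhT, fun y hy => ?_⟩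
    obtain ⟨x, hx, hxS, rfl⟩ := mem_imageAlong.1 hy
    have hgx := normalizerIn_conj hgN hx
    rw [← thF_conj θ hgS hxS, eφ _ hgx, hgh x hx, eφ x hx,
      thF_conj θ hhS (hφg.isMap.mem hx)]
  have hfN := hf.mono N hNle
  have hPN : P ≤ N := le_Nx hφ.1
  obtain ⟨m, hm, hme⟩ := D.rigid_unique hP.1 (D.rigid hS hP) (hfN.mono P hPN) hφg fun x hx => by
    rw [← ef x (hNle (hPN hx)), ee _ (thF_mem_image θ hP.le hx), eφ x hx]
  have hNU : N ≤ U := fun g hg => hg.1.1
  have hmN : m ∈ N := hPN hm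
  refine ⟨fun x => f (m * x * m⁻¹), isMap_liftSys.2 ((LGen.conj hNU (hPU hm)).comp_of_le hfN
    fun x hx => mul_mem (mul_mem hmN hx) (inv_mem hmN)), fun x hx => (hme x hx).symm⟩

/-- **The lifted system is saturated.** -/
theorem isSaturated_liftSys (hS : IsPGroup p S) : (liftSys F Q θ E p).IsSaturated p := by
  have := D.data.finite_S'
  have hfinT : Finite T' := finite_of_le D.T'_le
  have hT' : IsPGroup p T' := (D.data.isPGroup_S' hS).to_le D.T'_le
  set U := preimageAlong θ T' with hU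
  have hUS : U ≤ S := preimageAlong_le θ T'
  have := finite_of_le hUS
  set L := liftSys F Q θ E p with hL
  refine isSaturated_of_family (hS.to_le hUS) {P | Cent Q θ E P}
    (fun P hP R hR => D.cent_conj hP hR) (fun P hP => ?_)
    (fun L' hL' => le_of_isMap fun P f hf => ?_) fun P hPc hP => ?_
  · obtain ⟨R', w, hR', hw, hwR, -⟩ := exists_fullyNormalized_map hT' D.satE hP.2.2.1
    have hconj : E.IsConj (imageAlong θ P) R' :=
      isConj_iff.2 ⟨w, hw.mono (le_normalizerIn hP.2.2.1), hwR⟩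
    have h1 := D.exists_conj_lift hS hP.2.1 hP.1 hconj
    have hn : E.IsFullyNormalized (imageAlong θ (preimageAlong θ R')) := by
      rw [D.data.image_preimage (hR'.1.trans D.T'_le)]
      exact hR'
    exact ⟨_, h1, D.fullyAutomized_liftSys hS (D.cent_conj hP h1) hn,
      D.receptive_liftSys hS (D.cent_conj hP h1) hn⟩
  · have key : ∀ {R : Subgroup Ω}, Cent Q θ E R → ∀ {h : Ω → Ω}, IsMap L R h → IsMap L' R h :=
      fun hR _ ⟨φ, hφ, e⟩ => ⟨φ, hL' _ hR hφ, e⟩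
    have hgen := isMap_liftSys.1 hf
    clear hf
    induction hgen with
    | @aut R P α hR hc hα hPR => exact (key hc (isMap_liftSys.2 (LGen.aut hR hc hα le_rfl))).mono hPR
    | @conj P t hP ht => exact Fusion.IsMap.conj hP ht
    | comp _ _ ih1 ih2 => exact ih1.comp ih2 fun x hx => ih1.mem_img hx
    | congr _ e ih => exact ih.congr e
  · have hPU : P ≤ U := hPc.1
    have hPS : P ≤ S := hPU.trans hUS
    have hQP : Q ≤ P := fun q hq => hPc.2 P (isConj_refl L hPU)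
      (mem_centralizerIn_of_conj (D.Q_le_U hq) fun x hx => by
        have h1 := D.conj_fix (hPS hx) hq
        calc q * x * q⁻¹ = (x * q * x⁻¹) * x * q⁻¹ := by rw [h1]
          _ = x := by group)
    obtain ⟨X, hX, hXc⟩ : ∃ X, E.IsConj (imageAlong θ P) X ∧ ¬ centralizerIn T' X ≤ X := by
      by_contra hcon
      simp only [not_exists, not_and, not_not] at hcon
      exact hP ⟨hQP, hPU, image_le_T' hPU, hcon⟩
    obtain ⟨c', hc'C, hc'X⟩ := Set.not_subset.1 hXc
    have hXT : X ≤ T' := (isConj_le hX).2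
    set R₁ := preimageAlong θ X with hR₁
    have hconj := D.exists_conj_lift hS hPU hQP hX
    refine ⟨R₁, hconj, fun hle => ?_⟩
    have hR₁U : R₁ ≤ U := (isConj_le hconj).2
    have hR₁S : R₁ ≤ S := hR₁U.trans hUS
    obtain ⟨x, hx, rfl⟩ := D.data.exists_eq (D.T'_le hc'C.1)
    have hxU : x ∈ U := mem_preimageAlong.2 ⟨hx, hc'C.1⟩
    have htriv : ∀ z ∈ R₁, thF θ (x * z * x⁻¹) = thF θ z := fun z hz => by
      rw [thF_conj θ hx (hR₁S hz)]
      exact centralizerIn_conj hc'C (mem_preimageAlong.1 hz).2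
    have hxN : x ∈ normalizerIn U R₁ := by
      have := finite_of_le hR₁S
      refine mem_normalizerIn_of_conj hxU fun z hz => mem_preimageAlong.2
        ⟨S.mul_mem (S.mul_mem hx (hR₁S hz)) (S.inv_mem hx), ?_⟩
      rw [htriv z hz]
      exact (mem_preimageAlong.1 hz).2
    set cx := normConj U R₁ ⟨x, hxN⟩ with hcx
    have hcxU : cx ∈ autInducedBy U R₁ := mem_autInducedBy_iff.2 ⟨x, hxU, fun z => rfl⟩
    have hcxK : cx ∈ kGrp F Q R₁ := by
      refine D.kGrp_of_thF hR₁S (autInducedBy_le_autGroup F hUS hR₁S hcxU) fun z hz => ?_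
      rw [autFn_apply _ hz]
      exact htriv z hz
    have hK : kGrp F Q R₁ ⊓ L.autGroup R₁ ≤ pCoreAut L p R₁ := by
      refine le_pCoreAut ((D.isPGroup_kGrp hS hR₁S).to_le inf_le_left) inf_le_right ?_
      rintro α hα k ⟨hk, hkL⟩
      exact ⟨D.conj_mem_kGrp hR₁S (FusionNormal.autGroup_le_of_sub D.liftSys_sub hR₁U hα) hk,
        mul_mem (mul_mem hα hkL) (Subgroup.inv_mem _ hα)⟩
    obtain ⟨r, hr⟩ := hle ⟨hcxU, hK ⟨hcxK, autInducedBy_le_autGroup L le_rfl hR₁U hcxU⟩⟩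
    have hcen : (r : Ω)⁻¹ * x ∈ centralizerIn U R₁ := by
      refine mem_centralizerIn_of_conj (mul_mem (inv_mem (hR₁U r.2)) hxU) fun z hz => ?_
      have h := congrArg (fun a : MulAut R₁ => ((a ⟨z, hz⟩ : R₁) : Ω)) hr
      simp only [MulAut.conj_apply, Subgroup.coe_mul, InvMemClass.coe_inv] at h
      calc (r : Ω)⁻¹ * x * z * ((r : Ω)⁻¹ * x)⁻¹ = (r : Ω)⁻¹ * (x * z * x⁻¹) * r := by group
        _ = (r : Ω)⁻¹ * ((r : Ω) * z * (r : Ω)⁻¹) * r := by
          rw [show x * z * x⁻¹ = (r : Ω) * z * (r : Ω)⁻¹ from h.symm]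
        _ = z := by group
    have hxR := R₁.mul_mem r.2 (hPc.2 R₁ hconj hcen)
    rw [mul_inv_cancel_left] at hxR
    exact hc'X (mem_preimageAlong.1 hxR).2

omit [Finite S] [Fact p.Prime] in
/-- Automorphisms of `U` act on generated maps. -/
theorem lgen_transport {α : MulAut (preimageAlong θ T')} (hα : α ∈ F.autGroup (preimageAlong θ T'))
    {P : Subgroup Ω} {f : Ω → Ω} (h : LGen F Q θ E p P f) : ∀ g : Ω → Ω,
    (∀ x ∈ P, g (autFn α x) = autFn α (f x)) → LGen F Q θ E p (img (autFn α) P) g := by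
  have hUS : preimageAlong θ T' ≤ S := preimageAlong_le θ T'
  have hb : IsMap F (preimageAlong θ T') (autFn α) := (mem_autGroup_iff hUS).1 hα
  induction h with
  | @aut R P γ hR hc hγ hP =>
    intro g hg
    have hiso : IsIso F R (img (autFn α) R) (autFn α) := ⟨hb.mono hc.2.1, rfl⟩
    refine (LGen.aut hiso.le_right (D.cent_iso hiso hc) (D.congr_mem_laGrp hiso hc.1 hc.2.1 hγ)
      (hb.img_le (hP.trans hc.2.1) fun x hx => hb.mem_img (hP hx))).congr fun y hy => ?_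
    obtain ⟨x, hx, rfl⟩ := (hb.mem_img_iff (hP.trans hc.2.1)).1 hy
    rw [hg x hx, autFn_apply _ (hiso.mem (hP hx)), autFn_apply γ (hP hx)]
    exact congr_apply_coe hiso γ ⟨x, hP hx⟩
  | @conj P t hP ht =>
    intro g hg
    refine (LGen.conj (hb.img_le hP fun x hx => autFn_mem α (hP hx)) (autFn_mem α ht)).congr
      fun y hy => ?_
    obtain ⟨x, hx, rfl⟩ := (hb.mem_img_iff hP).1 hy
    rw [hg x hx]
    exact (hb.map_conj ht (hP hx)).symm
  | @comp P f₁ f₂ h₁ h₂ ih₁ ih₂ =>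
    intro g hg
    have hPU := h₁.le
    have hmid : img f₁ P ≤ preimageAlong θ T' := h₂.le
    have c₁ := ih₁ (fun y => autFn α (f₁ (autFn α⁻¹ y))) fun x hx => by
      show autFn α (f₁ (autFn α⁻¹ (autFn α x))) = _
      rw [autFn_inv_self α (hPU hx)]
    have c₂ := ih₂ (fun y => autFn α (f₂ (autFn α⁻¹ y))) fun x hx => by
      show autFn α (f₂ (autFn α⁻¹ (autFn α x))) = _
      rw [autFn_inv_self α (hmid hx)]
    refine (c₁.comp_of_le c₂ fun y hy => ?_).congr fun y hy => ?_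
    · obtain ⟨x, hx, rfl⟩ := (hb.mem_img_iff hPU).1 hy
      rw [autFn_inv_self α (hPU hx)]
      exact hb.mem_img (h₁.isMap.mem_img hx)
    · obtain ⟨x, hx, rfl⟩ := (hb.mem_img_iff hPU).1 hy
      show autFn α (f₂ (autFn α⁻¹ (autFn α (f₁ (autFn α⁻¹ (autFn α x)))))) = _
      rw [autFn_inv_self α (hPU hx), autFn_inv_self α (h₁.mem x hx), hg x hx]
  | @congr P f₁ f₂ _ e ih =>
    intro g hg
    exact ih g fun x hx => by rw [hg x hx, e x hx]

/-- Frattini: every map of `F` on a subgroup of `U` is an automorphism of `U` composed with a generated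
map. -/
theorem lgen_frattini (hS : IsPGroup p S) {P : Subgroup Ω} (hP : P ≤ preimageAlong θ T') {f : Ω → Ω}
    (hf : IsMap F P f) : ∃ α ∈ F.autGroup (preimageAlong θ T'), ∃ g, LGen F Q θ E p P g ∧
      ∀ x ∈ P, f x = autFn α (g x) := by
  set U := preimageAlong θ T' with hU
  have hUS : U ≤ S := preimageAlong_le θ T'
  have := finite_of_le hUS
  -- Frattini modulo `Q`
  have step : ∀ {P₁ : Subgroup Ω} {f₁ : Ω → Ω}, P₁ ≤ U → Q ≤ P₁ → IsMap F P₁ f₁ →
      ∃ α ∈ F.autGroup U, ∃ e, LGen F Q θ E p P₁ e ∧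
        img (fun x => autFn α (e x)) P₁ = img f₁ P₁ ∧
        ∀ x ∈ P₁, thF θ (f₁ x) = thF θ (autFn α (e x)) := by
    intro P₁ f₁ hP₁ hQ hf₁
    obtain ⟨hQ₂, f', hf', ef⟩ := D.map_image hf₁.isIso hQ
    obtain ⟨α', hα', e', he', hfe⟩ :=
      FusionNormal.frattini_map D.invariant (image_le_T' hP₁) hf'.1
    have hαB : IsIso B T' T' (autFn α') := isIso_autFn D.T'_le hα'
    obtain ⟨a, ha, ea⟩ := D.data.exists_lift_iso D.factor hαB
    obtain ⟨α, hα, hαa⟩ := exists_aut_of_isIso ha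
    obtain ⟨e, he, ee⟩ := D.exists_lgen_lift hS he'
    rw [D.pre_image (hP₁.trans hUS) hQ] at he ee
    have hθ : ∀ x ∈ P₁, thF θ (f₁ x) = thF θ (autFn α (e x)) := fun x hx => by
      have hex : e x ∈ U := he.mem x hx
      rw [← ef x hx, hfe _ (thF_mem_image θ (hP₁.trans hUS) hx), ee x hx, autFn_apply α hex, hαa,
        ← ea _ hex]
    have hcomp : IsMap F P₁ (fun x => autFn α (e x)) :=
      he.isMap.comp ((mem_autGroup_iff hUS).1 hα) fun x hx => he.mem x hx
    refine ⟨α, hα, e, he, ?_, hθ⟩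
    have hQc : Q ≤ img (fun x => autFn α (e x)) P₁ := (D.map_image hcomp.isIso hQ).1
    refine le_antisymm (hcomp.img_le le_rfl fun x hx => ?_) (hf₁.img_le le_rfl fun x hx => ?_)
    · have h := hQ₂ ((D.data.thF_eq_iff (hf₁.mem hx) (hcomp.mem hx)).1 (hθ x hx))
      simpa using mul_mem (hf₁.mem_img hx) h
    · have h := hQc ((D.data.thF_eq_iff (hcomp.mem hx) (hf₁.mem hx)).1 (hθ x hx).symm)
      simpa using mul_mem (hcomp.mem_img hx) h
  obtain ⟨f₁, hf₁, hf₁e⟩ := D.map_ext hf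
  set P₁ := P ⊔ Q with hP₁
  have hP₁U : P₁ ≤ U := sup_le hP D.Q_le_U
  have hQP₁ : Q ≤ P₁ := le_sup_right
  have hP₁S : P₁ ≤ S := hP₁U.trans hUS
  obtain ⟨α, hα, e, he, himg, hθ⟩ := step hP₁U hQP₁ hf₁
  obtain ⟨Pf, v, hPf, hv, hvP, -⟩ := exists_fullyNormalized_map hS D.sat hP₁S
  have hv' : IsMap F P₁ v := hv.mono (le_normalizerIn hP₁S)
  obtain ⟨α₁, hα₁, e₁, he₁, himg₁, -⟩ := step hP₁U hQP₁ hv'
  rw [hvP] at himg₁
  have ha₁ : IsMap F U (autFn α₁) := (mem_autGroup_iff hUS).1 hα₁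
  have ha : IsMap F U (autFn α) := (mem_autGroup_iff hUS).1 hα
  have hw : IsIso F P₁ Pf (fun x => autFn α₁ (e₁ x)) :=
    ⟨he₁.isMap.comp ha₁ fun x hx => he₁.mem x hx, himg₁⟩
  have hcomp : IsMap F P₁ (fun x => autFn α (e x)) := he.isMap.comp ha fun x hx => he.mem x hx
  -- the error term
  obtain ⟨j, hj, hjl, hlj⟩ := (show IsIso F P₁ _ _ from ⟨hcomp, himg⟩).symm
  obtain ⟨k, hk, hke⟩ := exists_aut_of_isIso (hf₁.isIso.trans hj)
  have hkK : k ∈ kGrp F Q P₁ := by
    refine D.kGrp_of_thF hP₁S hk fun x hx => ?_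
    rw [autFn_apply k hx, hke]
    show thF θ (j (f₁ x)) = _
    rw [D.data.map_congr hj.1 (hf₁.mem_img hx) (himg ▸ hcomp.mem_img hx) (hθ x hx), hjl x hx]
  obtain ⟨s, hs, hse⟩ := mem_autInducedBy_iff.1
    (D.kGrp_le_autInducedBy hS hPf (D.congr_mem_kGrp hw hkK))
  have := finite_of_le (S := S) (P := U) hUS
  have hsN : s ∈ normalizerIn S U := mem_normalizerIn_of_conj hs fun x hx =>
    Fusion.conj_mem_of_stronglyClosed D.stronglyClosed_U hs hx
  set cs := normConj S U ⟨s, hsN⟩ with hcs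
  have hcsF : cs ∈ F.autGroup U :=
    autInducedBy_le_autGroup F le_rfl hUS ((range_normConj S U).le ⟨_, rfl⟩)
  set β := α₁⁻¹ * cs * α₁ with hβ
  have hβF : β ∈ F.autGroup U := mul_mem (mul_mem (Subgroup.inv_mem _ hα₁) hcsF) hα₁
  have hek : ∀ x ∈ P₁, autFn β (e₁ x) = e₁ (autFn k x) := by
    intro x hx
    have hkx := autFn_mem k hx
    have h1 : autFn α₁ (e₁ (autFn k x)) = s * autFn α₁ (e₁ x) * s⁻¹ := by
      have h := hse (hw.equiv ⟨x, hx⟩)
      rw [congr_apply_coe, hw.equiv_apply] at h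
      rw [autFn_apply k hx]
      exact h
    have hex : e₁ x ∈ U := he₁.mem x hx
    rw [hβ, autFn_mul _ _ hex, autFn_mul _ _ (autFn_mem α₁ hex),
      autFn_apply cs (autFn_mem α₁ hex)]
    show autFn α₁⁻¹ (s * autFn α₁ (e₁ x) * s⁻¹) = _
    rw [← h1, autFn_inv_self α₁ (he₁.mem _ hkx)]
  obtain ⟨i₁, hi₁, hil, hiM, -⟩ := he₁.exists_inv
  have he₂ : LGen F Q θ E p (img e₁ P₁) (fun y => e (i₁ y)) := hi₁.comp_of_le he hiM
  have hX : img e₁ P₁ ≤ U := he₁.isMap.img_le le_rfl fun x hx => he₁.mem x hx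
  have h3 := D.lgen_transport (α := β⁻¹) (Subgroup.inv_mem _ hβF) he₂
    (fun z => autFn β⁻¹ (e (i₁ (autFn β z)))) fun y hy => by
      show autFn β⁻¹ (e (i₁ (autFn β (autFn β⁻¹ y)))) = _
      rw [autFn_self_inv β (hX hy)]
  have hmem3 : ∀ x ∈ P, e₁ x ∈ img (autFn β⁻¹) (img e₁ P₁) := fun x hx => by
    have hx1 : x ∈ P₁ := Subgroup.mem_sup_left hx
    have h : autFn β (e₁ x) ∈ img e₁ P₁ := hek x hx1 ▸ he₁.isMap.mem_img (autFn_mem k hx1)
    have hbm : IsMap F U (autFn β⁻¹) := (mem_autGroup_iff hUS).1 (Subgroup.inv_mem _ hβF)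
    have := (hbm.mono hX).mem_img (Q := img e₁ P₁) h
    rwa [autFn_inv_self β (he₁.mem x hx1)] at this
  refine ⟨α * β, mul_mem hα hβF, _, (he₁.mono P le_sup_left).comp_of_le h3 hmem3, fun x hx => ?_⟩
  have hx1 : x ∈ P₁ := Subgroup.mem_sup_left hx
  have hkx := autFn_mem k hx1
  show f x = autFn (α * β) (autFn β⁻¹ (e (i₁ (autFn β (e₁ x)))))
  rw [hek x hx1, hil _ hkx, autFn_mul α β (autFn_mem _ (he.mem _ hkx)),
    autFn_self_inv β (he.mem _ hkx), autFn_apply k hx1, hke, ← hf₁e x hx]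
  exact (hlj _ (hf₁.mem_img hx1)).symm

/-- **The lifted system is weakly normal.** -/
theorem isWeaklyNormalIn_liftSys (hS : IsPGroup p S) : (liftSys F Q θ E p).IsWeaklyNormalIn F p := by
  set U := preimageAlong θ T' with hU
  have hUS : U ≤ S := preimageAlong_le θ T'
  refine ⟨D.isSaturated_liftSys hS, D.sat, D.liftSys_sub, D.stronglyClosed_U, ?_, ?_⟩
  · intro P hP φ hφ α hα
    have hb : IsMap F U (autFn α) := (mem_autGroup_iff hUS).1 hα
    set f' := fun y => autFn α (toFn φ (autFn α⁻¹ y)) with hf'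
    have h2 : LGen F Q θ E p (img (autFn α) P) f' := D.lgen_transport hα hφ f' fun x hx => by
      show autFn α (toFn φ (autFn α⁻¹ (autFn α x))) = _
      rw [autFn_inv_self α (hP hx)]
    obtain ⟨χ, hχ, hχe⟩ := isMap_liftSys.2 h2
    have hdom : (P.subgroupOf U).map (U.subtype.comp α.toMonoidHom) = img (autFn α) P := by
      refine le_antisymm ?_ (hb.img_le hP fun x hx => ?_)
      · rintro _ ⟨x, hx, rfl⟩
        exact Subgroup.subset_closure ⟨x, hx, autFn_apply α x.2⟩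
      · exact ⟨⟨x, hP hx⟩, hx, (autFn_apply α (hP hx)).symm⟩
    have key : ∀ W, W = img (autFn α) P → ∃ χ ∈ (liftSys F Q θ E p).Hom W,
        ∀ y (hy : y ∈ W), χ ⟨y, hy⟩ = f' y := by
      rintro W rfl
      exact ⟨χ, hχ, hχe⟩
    obtain ⟨χ', hχ', he'⟩ := key _ hdom
    refine ⟨χ', hχ', fun x hφx hαx => ?_⟩
    rw [he', ← autFn_apply α (hP x.2), hf']
    show autFn α (toFn φ (autFn α⁻¹ (autFn α x))) = _
    rw [autFn_inv_self α (hP x.2), toFn_coe, autFn_apply α hφx]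
  · intro P hP φ hφ
    obtain ⟨α, hα, g, hg, he⟩ := D.lgen_frattini hS hP (isMap_toFn hφ)
    obtain ⟨χ, hχ, hχe⟩ := isMap_liftSys.2 hg
    refine ⟨α, hα, χ, hχ, fun x hx => ?_⟩
    rw [← toFn_coe φ x, he x x.2, show g x = χ x from (hχe x x.2).symm, autFn_apply _ hx]

end LiftData

end Cfsg.Agent.FusionProduct
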