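import Cfsg.Agent.EqLemmas
import Cfsg.Prelude.Def_FusionComponents
import Cfsg.Agent.Lib.FusionProduct.NormalTools
import Cfsg.Agent.Lib.FusionProduct.LiftSaturated
import Cfsg.Agent.Lib.FusionCrit.NormalResidual
import Cfsg.Agent.Lib.FusionPIndex.Existence
import Cfsg.Agent.Lib.FusionPIndex.Normal
import Cfsg.Agent.Lib.FusionInner.Basic
import Cfsg.Agent.Lib.Fusion.LocalModel
import Cfsg.Agent.Lib.FusionConstrained.Subsystem
import Cfsg.Agent.S5144
import Cfsg.Agent.S5148

/-
A saturated system is constrained if and only if it has no component.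
Main results (namespace `Cfsg.Agent.FusionProduct`): `not_isConstrained_of_quasisimple`,
`isConstrained_of_subnormal`, `not_component_of_constrained`, `exists_component`.
-/

set_option autoImplicit false

namespace Cfsg.Agent.FusionProduct

open Cfsg Cfsg.FusionSystem Cfsg.Agent.Fusion Cfsg.Agent.FusionCrit
open scoped commutatorElement

variable {Ω : Type*} [Group Ω] {S : Subgroup Ω} {F : FusionSystem S} {p : ℕ}

theorem isNormal_of_central' [Finite S] {Q : Subgroup Ω} (hQ : F.IsCentral Q) : F.IsNormal Q := by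
  refine FusionChain.isNormal_iff.2 ⟨hQ.1, fun P f hf => ?_⟩
  obtain ⟨φ, hφ, e⟩ := hf
  obtain ⟨ψ, hψ, hP, hQ'⟩ := hQ.2 P φ hφ
  refine ⟨toFn ψ, isMap_toFn hψ, fun x hx => ?_, fun x hx => ?_⟩
  · rw [toFn_apply ψ (Subgroup.mem_sup_left hx), ← e x hx]
    exact hP ⟨x, hx⟩
  · rw [toFn_apply ψ (Subgroup.mem_sup_right hx)]
    exact (hQ' ⟨x, hx⟩).symm ▸ hx

theorem isConstrained_of_core_centric [Finite S] (hF : F.IsSaturated p)
    (h : centralizerIn S F.core ≤ F.core) : F.IsConstrained p := by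
  have hQ : F.IsNormal F.core := S5145.result F
  exact ⟨hF, F.core, hQ, hQ.1,
    fun R hR => (FusionResidual.eq_of_isConj_closed (Fusion.stronglyClosed_of_normal hQ) hR).symm ▸ h⟩

/-- The quotient map by the centre. -/
theorem qData_center [Finite S] (F : FusionSystem S) :
    QData F F.center (QuotientGroup.mk' ((F.center).subgroupOf S)) ⊤ :=
  ⟨Fusion.stronglyClosed_of_normal (isNormal_of_central' (S5144.result F)),
    fun s => (QuotientGroup.eq_one_iff s).trans Subgroup.mem_subgroupOf,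
    MonoidHom.range_eq_top.2 (QuotientGroup.mk'_surjective _)⟩

/-- A finite solvable group generated by a central subgroup and the commutator subgroup is abelian. -/
theorem comm_of_center_sup_commutator {X : Type*} [Group X] [Finite X] [Group.IsNilpotent X]
    (Z : Subgroup X) (hZ : Z ≤ Subgroup.center X) (h : Z ⊔ commutator X = ⊤) (a b : X) :
    a * b = b * a := by
  have hle : commutator X ≤ ⁅commutator X, commutator X⁆ := by
    refine Subgroup.commutator_le.2 fun x _ y _ => ?_
    haveI : Z.Normal := ⟨fun t ht g => by rw [Subgroup.mem_center_iff.1 (hZ ht) g, mul_inv_cancel_right]; exact ht⟩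
    obtain ⟨z, hz, u, hu, rfl⟩ := Subgroup.mem_sup_of_normal_left.1
      (h.symm ▸ Subgroup.mem_top x : x ∈ Z ⊔ commutator X)
    obtain ⟨w, hw, v, hv, rfl⟩ := Subgroup.mem_sup_of_normal_left.1
      (h.symm ▸ Subgroup.mem_top y : y ∈ Z ⊔ commutator X)
    have hzc : ∀ t, t * z = z * t := fun t => Subgroup.mem_center_iff.1 (hZ hz) t
    have hwc : ∀ t, t * w = w * t := fun t => Subgroup.mem_center_iff.1 (hZ hw) t
    have e : ⁅z * u, w * v⁆ = ⁅u, v⁆ := by
      rw [commutatorElement_def, commutatorElement_def]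
      calc z * u * (w * v) * (z * u)⁻¹ * (w * v)⁻¹
          = z * (u * (w * v) * u⁻¹) * z⁻¹ * (v⁻¹ * w⁻¹) := by group
        _ = u * (w * v) * u⁻¹ * (v⁻¹ * w⁻¹) := by rw [← hzc]; group
        _ = (u * w) * v * u⁻¹ * v⁻¹ * w⁻¹ := by group
        _ = w * (u * v * u⁻¹ * v⁻¹) * w⁻¹ := by rw [hwc]; group
        _ = u * v * u⁻¹ * v⁻¹ := by rw [← hwc]; group
    rw [e]
    exact Subgroup.commutator_mem_commutator hu hv
  have hd : ∀ n, commutator X ≤ derivedSeries X n := by
    intro n
    induction n with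
    | zero => exact le_top
    | succ k ih =>
      rw [derivedSeries_succ]
      exact hle.trans (Subgroup.commutator_mono ih ih)
  obtain ⟨n, hn⟩ := (IsNilpotent.to_isSolvable : Group.IsSolvable X).solvable
  have hbot : commutator X = ⊥ := le_bot_iff.1 (hn ▸ hd n)
  have h1 : ⁅a, b⁆ ∈ commutator X :=
    Subgroup.commutator_mem_commutator (Subgroup.mem_top _) (Subgroup.mem_top _)
  rw [hbot, Subgroup.mem_bot] at h1
  exact commutatorElement_eq_one_iff_mul_comm.1 h1

/-- A quasisimple system is not constrained. -/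
theorem not_isConstrained_of_quasisimple [Finite S] [Fact p.Prime] (hS : IsPGroup p S)
    (hq : F.Quasisimple p) : ¬ F.IsConstrained p := by
  intro hc
  obtain ⟨hFs, hhyp, hsimp⟩ := id hq
  have hnab := S5148.result p hS F hq
  have hZc : F.IsCentral F.center := S5144.result F
  have hR : F.IsNormal F.core := S5145.result F
  have hCR := (nc_core hS hc).centralizer_le
  have hZR : F.center ≤ F.core := normal_le_core (isNormal_of_central' hZc)
  set θ := QuotientGroup.mk' ((F.center).subgroupOf S) with hθ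
  have D : QData F F.center θ ⊤ := qData_center F
  obtain ⟨B, hB⟩ := D.exists_factorSystem
  obtain ⟨hBs, -, hBn⟩ := hsimp B hB
  haveI := D.finite_S'
  have hR' : B.IsNormal (imageAlong θ F.core) := by
    refine FusionChain.isNormal_iff.2 ⟨le_top, fun P' f' hf' => ?_⟩
    obtain ⟨hP', f, hf, he⟩ := (QData.isMap_factor_iff hB).1 hf'
    obtain ⟨g, hg, hgf, hgR⟩ := (FusionChain.isNormal_iff.1 hR).2 _ f hf
    obtain ⟨g', hg', hge⟩ := D.isMap_image hB hg ((D.le_preimage P').trans le_sup_left)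
    have h1 : ∀ y ∈ P', ∃ x ∈ preimageAlong θ P', thF θ x = y := fun y hy => by
      obtain ⟨x, hx, rfl⟩ := D.exists_eq (hP' hy)
      exact ⟨x, mem_preimageAlong.2 ⟨hx, hy⟩, rfl⟩
    refine ⟨g', hg'.mono (sup_le (fun y hy => ?_) fun y hy => ?_), fun y hy => ?_, fun y hy => ?_⟩
    · obtain ⟨x, hx, rfl⟩ := h1 y hy
      exact thF_mem_image θ hg.le (Subgroup.mem_sup_left hx)
    · obtain ⟨x, hx, -, rfl⟩ := mem_imageAlong.1 hy
      exact thF_mem_image θ hg.le (Subgroup.mem_sup_right hx)
    · obtain ⟨x, hx, rfl⟩ := h1 y hy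
      rw [hge x (Subgroup.mem_sup_left hx), hgf x hx, he x hx]
    · obtain ⟨x, hx, -, rfl⟩ := mem_imageAlong.1 hy
      rw [hge x (Subgroup.mem_sup_right hx)]
      exact thF_mem_image θ hR.1 (hgR x hx)
  have hinner := isNormalIn_inner (D.isPGroup_S' hS) hBs hR'
  rcases hBn _ _ hinner with hbot | ⟨htop, heq⟩
  · apply hnab
    refine ⟨⟨fun s t => ?_⟩⟩
    have hcomm : ∀ x ∈ F.core, ∀ y ∈ S, y * x = x * y := fun x hx y hy => by
      have h1 : thF θ x ∈ imageAlong θ F.core := thF_mem_image θ hR.1 hx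
      rw [hbot, Subgroup.mem_bot, thF_apply θ (hR.1 hx), D.ker_iff] at h1
      exact F.center_le_centralizer h1 y hy
    have h2 : (s : Ω) ∈ F.core :=
      hCR (mem_centralizerIn.2 ⟨s.2, fun x hx => hcomm x hx s s.2⟩)
    exact Subtype.ext (hcomm s h2 t t.2).symm
  · have hinn : ∀ P' f', IsMap B P' f' → ∃ t ∈ S, ∀ y ∈ P', f' y = thF θ t * y * (thF θ t)⁻¹ := by
      intro P' f' hf'
      rw [← isMap_congr_hom heq] at hf'
      obtain ⟨-, g, hg, e⟩ := isMap_inner_iff.1 hf'
      obtain ⟨t, ht, rfl⟩ := D.exists_eq (Subgroup.mem_top g)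
      exact ⟨t, ht, e⟩
    have hgen : ∀ x ∈ S, ∀ P f, IsMap F P f → x ∈ P → x⁻¹ * f x ∈ F.center ⊔ ⁅S, S⁆ := by
      intro x hx P f hf hxP
      obtain ⟨φ, hφ, e⟩ := hf
      obtain ⟨ψ, hψ, hψP, -⟩ := hZc.2 P φ hφ
      have hg : IsMap F (P ⊔ F.center) (toFn ψ) := isMap_toFn hψ
      have hgx : toFn ψ x = f x := by
        rw [toFn_apply ψ (Subgroup.mem_sup_left hxP), ← e x hxP]
        exact hψP ⟨x, hxP⟩
      obtain ⟨g', hg', hge⟩ := D.isMap_image hB hg le_sup_right
      obtain ⟨t, ht, hte⟩ := hinn _ _ hg'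
      have h1 := hte _ (thF_mem_image θ hg.le (Subgroup.mem_sup_left hxP))
      rw [hge x (Subgroup.mem_sup_left hxP), hgx, ← thF_conj θ ht hx] at h1
      have hfx : f x ∈ S := hgx ▸ hg.mem (Subgroup.mem_sup_left hxP)
      have h2 := (D.thF_eq_iff (mul_mem (mul_mem ht hx) (inv_mem ht)) hfx).1 h1.symm
      have h3 : ⁅x⁻¹, t⁆ ∈ ⁅S, S⁆ := Subgroup.commutator_mem_commutator (inv_mem hx) ht
      have e1 : x⁻¹ * f x = ⁅x⁻¹, t⁆ * ((t * x * t⁻¹)⁻¹ * f x) := by
        rw [commutatorElement_def]; group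
      rw [e1]
      exact mul_mem (Subgroup.mem_sup_right h3) (Subgroup.mem_sup_left h2)
    have hle : S ≤ F.center ⊔ ⁅S, S⁆ := by
      refine hhyp.ge.trans ((Subgroup.closure_le _).2 ?_)
      rintro y ⟨P, α, x, hP, -, rfl⟩
      have hm : IsMap F P (autFn (α : MulAut P)) := (mem_autGroup_iff hP).1 α.2
      have := hgen x (hP x.2) P _ hm x.2
      rwa [autFn_apply _ x.2] at this
    haveI : Group.IsNilpotent S := hS.isNilpotent
    apply hnab
    refine ⟨⟨fun s t => comm_of_center_sup_commutator ((F.center).subgroupOf S) ?_ ?_ s t⟩⟩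
    · intro z hz
      exact Subgroup.mem_center_iff.2 fun y => Subtype.ext (F.center_le_centralizer hz y y.2)
    · refine Subgroup.map_injective S.subtype_injective ?_
      rw [Subgroup.map_sup, Subgroup.map_subgroupOf_eq_of_le D.le,
        show (commutator S).map S.subtype = ⁅S, S⁆ from Subgroup.map_subtype_commutator S,
        ← MonoidHom.range_eq_map, Subgroup.range_subtype]
      exact le_antisymm (sup_le D.le (Subgroup.commutator_le_self S)) hle

/-- A subnormal subsystem of a constrained system is constrained. -/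
theorem isConstrained_of_subnormal {T : Subgroup Ω} {C : FusionSystem T}
    (h : C.IsSubnormalIn F p) :
    ∀ [Finite S] [Fact p.Prime], IsPGroup p S → F.IsConstrained p → C.IsConstrained p := by
  induction h with
  | refl F p => exact fun _ hc => hc
  | step _ hDF ih =>
    intro _ _ hS hc
    have := finite_of_le hDF.1.2.2.2.1.1
    exact ih (hS.to_le hDF.1.2.2.2.1.1)
      (FusionConstrained.isConstrained_of_subsystem hS hc hDF.1.1 hDF.1.2.2.1 hDF.1.2.2.2.1)

theorem subnormal_le {T : Subgroup Ω} {C : FusionSystem T} (h : C.IsSubnormalIn F p) : T ≤ S := by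
  induction h with
  | refl F p => exact le_rfl
  | step _ hDF ih => exact ih.trans hDF.1.2.2.2.1.1

/-- A constrained system has no component. -/
theorem not_component_of_constrained [Finite S] [Fact p.Prime] (hS : IsPGroup p S)
    (hc : F.IsConstrained p) : ¬ ∃ (T : Subgroup Ω) (C : FusionSystem T), C.IsComponentIn F p := by
  rintro ⟨T, C, hsub, hq⟩
  haveI : Finite T := finite_of_le (subnormal_le hsub)
  exact not_isConstrained_of_quasisimple (hS.to_le (subnormal_le hsub)) hq
    (isConstrained_of_subnormal hsub hS hc)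

/-- `F` is its own least subsystem of index prime to `p`. -/
def SelfResidual (F : FusionSystem S) (p : ℕ) : Prop :=
  ∀ D : FusionSystem S, D.IsSaturated p → D.HasPrimeToPIndexIn F p → F.IsSubsystemOf D

theorem selfResidual_of_residual {E : FusionSystem S} (hE : F.IsPPrimeResidual p E) :
    SelfResidual E p := by
  intro D hD hi
  refine hE.2.2 D hD ⟨fun P φ hφ => hE.2.1.1 P (hi.1 P hφ), fun P hP => ?_⟩
  rw [ppAut_eq_map, ppAut, Subgroup.closure_le]
  rintro α ⟨hα, k, hk⟩
  refine hi.2 P hP ?_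
  rw [ppAut_eq_map]
  refine Subgroup.subset_closure ⟨hE.2.1.2 P hP ?_, k, hk⟩
  rw [ppAut_eq_map]
  exact Subgroup.subset_closure ⟨hα, k, hk⟩

/-- A normal subgroup centralized by `S` is central in a self-residual system. -/
theorem isCentral_of_selfResidual [Finite S] [Fact p.Prime] (hS : IsPGroup p S)
    (hF : F.IsSaturated p) (hres : SelfResidual F p) {Q : Subgroup Ω} (hQ : F.IsNormal Q)
    (hCS : centralizerIn S Q = S) : F.IsCentral Q := by
  have hQc := Fusion.stronglyClosed_of_normal hQ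
  obtain ⟨C, hCs, hC⟩ := FusionNormalCent.exists_centralizerT hS hF hQc
  obtain ⟨C', hC'⟩ := exists_system_congr hCS C (fun P => hC P)
  have hC's : C'.IsSaturated p :=
    isSaturated_congr hCS (fun P => (hC P).trans (hC' P).symm) hCs
  have hmap : ∀ {P f}, IsMap C' P f ↔ IsMap C P f := fun {P f} =>
    isMap_congr_hom fun P => (hC' P).trans (hC P).symm
  have hidx : C'.HasPrimeToPIndexIn F p := by
    refine ⟨fun P φ hφ => ?_, fun P hP => ?_⟩
    · rw [hC' P] at hφ
      exact hφ.1
    rw [ppAut_eq_map, ppAut, Subgroup.closure_le]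
    rintro α ⟨hα, k, hk⟩
    obtain ⟨g, hg, hgα, hgQ⟩ :=
      (FusionChain.isNormal_iff.1 hQ).2 P _ ((mem_autGroup_iff hP).1 hα)
    set M := P ⊔ Q with hM
    have hMS : M ≤ S := hg.le
    haveI := finite_of_le hMS
    haveI := finite_mulAut (S := S) hMS
    have hgM : ∀ x ∈ M, g x ∈ M := fun x hx => hg.forall_mem_sup le_sup_left le_sup_right
      (fun y hy => Subgroup.mem_sup_left (hgα y hy ▸ autFn_mem α hy))
      (fun y hy => Subgroup.mem_sup_right (hgQ y hy)) hx
    obtain ⟨γ, hγ, hγe⟩ := exists_aut_of_isIso (show IsIso F M M g from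
      ⟨hg, eq_of_le_of_card hMS (hg.img_le le_rfl hgM) (hg.card_img le_rfl).ge⟩)
    have hγg : ∀ x ∈ M, autFn γ x = g x := fun x hx => by rw [autFn_apply γ hx]; exact hγe ⟨x, hx⟩
    obtain ⟨a, d, hd, hord⟩ := Nat.exists_eq_pow_mul_and_not_dvd
      (orderOf_pos γ).ne' p (Fact.out : p.Prime).ne_one
    have hdc : d.Coprime p := ((Nat.Prime.coprime_iff_not_dvd Fact.out).2 hd).symm
    set m := d ^ (p ^ k).totient with hm
    have hmk : m ≡ 1 [MOD p ^ k] := Nat.ModEq.pow_totient (hdc.pow_right k)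
    have hαm : α ^ m = α := pow_eq_self_of_modEq (hk.symm ▸ hmk)
    have hγp : (γ ^ m) ^ p ^ a = 1 := by
      rw [← pow_mul, ← orderOf_dvd_iff_pow_eq_one, hord, mul_comm m]
      exact mul_dvd_mul_left _ (dvd_pow_self d (Nat.totient_pos.2 (pow_pos (Fact.out : p.Prime).pos k)).ne')
    set β := γ ^ m
    have hβ : β ∈ F.autGroup M := Subgroup.pow_mem _ hγ m
    have hβm : IsMap F M (autFn β) := (mem_autGroup_iff hMS).1 hβ
    have hβQ : ∀ x ∈ Q, autFn β x ∈ Q :=
      FusionInner.autFn_pow_mem le_sup_right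
        (fun x hx => (hγg x (Subgroup.mem_sup_right hx)).symm ▸ hgQ x hx) m
    obtain ⟨δ, hδ, hδe⟩ := exists_aut_of_isIso (show IsIso F Q Q (autFn β) from
      ⟨hβm.mono le_sup_right, eq_of_le_of_card hQ.1 (hβm.img_le le_sup_right hβQ)
        (hβm.card_img le_sup_right).ge⟩)
    have hδg : ∀ x ∈ Q, autFn β x = autFn δ x := fun x hx => by
      rw [autFn_apply δ hx]; exact (hδe ⟨x, hx⟩).symm
    have hδ1 : δ ^ p ^ a = 1 := FusionInner.eq_one_of_autFn fun x hx => by
      rw [← FusionInner.autFn_pow_agree le_sup_right hδg (p ^ a) x hx, hγp,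
        autFn_apply 1 (Subgroup.mem_sup_right hx)]
      rfl
    have := finite_mulAut (S := S) hQ.1
    have hbot : autInducedBy S Q = ⊥ := (Subgroup.eq_bot_iff_forall _).2 fun c hc => by
      obtain ⟨s, hs, he⟩ := mem_autInducedBy_iff.1 hc
      refine MulEquiv.ext fun x => Subtype.ext ?_
      rw [he x, MulAut.one_apply]
      exact centralizerIn_conj (hCS.symm ▸ hs : s ∈ centralizerIn S Q) x.2
    have hH : IsPGroup p (Subgroup.zpowers δ) := by
      rintro ⟨x, hx⟩
      obtain ⟨n, rfl⟩ := Subgroup.mem_zpowers_iff.1 hx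
      refine ⟨a, Subtype.ext ?_⟩
      show (δ ^ n) ^ p ^ a = 1
      rw [← zpow_natCast, ← zpow_mul, mul_comm, zpow_mul, zpow_natCast, hδ1, one_zpow]
    obtain ⟨c, -, hconj⟩ := (isFullyAutomized_iff.1 (fullyAutomized_of_fullyNormalized hS hF
      (FusionNormalCent.fullyNormalized_strongly hQc))).2.exists_conj_le hH
      (Subgroup.zpowers_le.2 hδ)
    have hδone : δ = 1 := by
      have := hconj δ (Subgroup.mem_zpowers δ)
      rw [hbot, Subgroup.mem_bot] at this
      exact conj_eq_one_iff.1 this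
    refine (mem_autGroup_iff hP).2 (hmap.2 ((FusionNormalCent.isMap_centralizer hQ.1 hC).2
      ⟨hCS.symm ▸ hP, fun x hx => hCS.symm ▸ hP (autFn_mem α hx), autFn β, hβm, fun x hx => ?_,
        fun x hx => ?_⟩))
    · rw [FusionInner.autFn_pow_agree le_sup_left
        (fun y hy => (hγg y (Subgroup.mem_sup_left hy)).trans (hgα y hy)) m x hx, hαm]
    · rw [hδg x hx, hδone, autFn_apply 1 hx]
      rfl
  refine ⟨hQ.1, fun P φ hφ => ?_⟩
  have h := hres C' hC's hidx P hφ
  rw [hC' P] at h
  exact h.2.2.2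

/-- A weakly normal subsystem over all of `S` in a self-residual system is everything. -/
theorem isMap_of_selfResidual [Finite S] [Fact p.Prime] (hS : IsPGroup p S)
    (hF : F.IsSaturated p) (hres : SelfResidual F p) {U : Subgroup Ω} {L : FusionSystem U}
    (hL : L.IsWeaklyNormalIn F p) (hU : U = S) {P : Subgroup Ω} {f : Ω → Ω} (hf : IsMap F P f) :
    IsMap L P f := by
  subst hU
  refine FusionNormal.isMap_of_sub (hres L hL.1 ⟨hL.2.2.1, fun P hP => ?_⟩) hf
  rw [ppAut_eq_map, ppAut, Subgroup.closure_le]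
  rintro α ⟨hα, k, hk⟩
  exact FusionNormal.mem_of_pElement hS hF hL.2.2 hP hα (hk ▸ pow_orderOf_eq_one α)

theorem exists_component_aux (p : ℕ) [Fact p.Prime] : ∀ (n : ℕ) (S : Subgroup Ω) [Finite S]
    (F : FusionSystem S), Nat.card S = n → IsPGroup p S → F.IsSaturated p → ¬ F.IsConstrained p →
    ∃ (T : Subgroup Ω) (C : FusionSystem T), C.IsComponentIn F p := by
  intro n
  induction n using Nat.strong_induction_on with
  | _ n ih =>
  intro S _ F₀ hn hS hF₀ hnc₀
  set F := genSys F₀ p (resA F₀ p) (resA_le_autGroup F₀ p) with hFdef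
  have hres₀ : F₀.IsPPrimeResidual p F := isPPrimeResidual_genSys hS hF₀
  have hFn : F.IsNormalIn F₀ p := isNormalIn_genSys hS (isWeaklyNormalIn_self hF₀)
  suffices h : ∃ (T : Subgroup Ω) (C : FusionSystem T), C.IsComponentIn F p by
    obtain ⟨T, C, h1, h2⟩ := h
    exact ⟨T, C, .step h1 hFn, h2⟩
  have hF : F.IsSaturated p := hres₀.1
  have hres : SelfResidual F p := selfResidual_of_residual hres₀
  have hnc : ¬ F.IsConstrained p := fun h =>
    hnc₀ (FusionResidual.isConstrained_of_pPrimeResidual hS hF₀ hres₀ h)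
  have small : ∀ {U : Subgroup Ω} {D : FusionSystem U}, D.IsNormalIn F p → U ≠ S →
      (D.IsConstrained p → False) →
      ∃ (T : Subgroup Ω) (C : FusionSystem T), C.IsComponentIn F p := by
    intro U D hD hUS hnot
    have hle : U ≤ S := hD.1.2.2.2.1.1
    haveI := finite_of_le hle
    have hlt : Nat.card U < n := hn ▸ FusionCrit.card_lt le_rfl (lt_of_le_of_ne hle hUS)
    obtain ⟨T, C, h1, h2⟩ := ih _ hlt U D rfl (hS.to_le hle) hD.1.1 hnot
    exact ⟨T, C, .step h1 hD, h2⟩
  set Q := F.core with hQdef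
  have hQ : F.IsNormal Q := S5145.result F
  have hQnc : ¬ centralizerIn S Q ≤ Q := fun h => hnc (isConstrained_of_core_centric hF h)
  by_cases hCS : centralizerIn S Q = S
  swap
  · obtain ⟨C, -, hCn⟩ := exists_centralizer_normal hS hF hQ
    refine small hCn hCS fun hc => hQnc ?_
    haveI : Finite (centralizerIn S Q) := finite_of_le (S := S) inf_le_left
    have hR : C.core ≤ Q := core_le_core hS hF hCn.1.2.2
    refine le_trans (fun x hx => ?_) hR
    have hUle : centralizerIn S Q ≤ S := inf_le_left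
    exact (nc_core (hS.to_le hUle) hc).centralizer_le
      (mem_centralizerIn.2 ⟨hx, fun y hy => (mem_centralizerIn.1 hx).2 y (hR hy)⟩)
  have hQcen : F.IsCentral Q := isCentral_of_selfResidual hS hF hres hQ hCS
  by_cases hhyp : F.hyperfocalSubgroup p = S
  swap
  · have hHS : F.hyperfocalSubgroup p ≤ S := FusionNormal.hyperfocal_le F
    obtain ⟨D, hDs, hDi⟩ := FusionPIndex.exists_pPowerIndex hS hF hHS le_rfl
    haveI := finite_of_le hHS
    refine small (FusionPIndex.isNormalIn_pPowerIndex hS hF hHS ((Subgroup.normal_subgroupOf_iff_le_normalizer hHS).2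
      (normalizes_of_stronglyClosed (S5124.result p hS F hF))) le_rfl hDs hDi) hhyp fun hc => ?_
    exact hnc (FusionResidual.isConstrained_of_pResidual hS hF rfl ⟨hDs, hDi⟩ hc)
  by_cases hqs : F.Quasisimple p
  · exact ⟨S, F, .refl F p, hqs⟩
  have hcen : F.center = Q :=
    le_antisymm (normal_le_core (isNormal_of_central' (S5144.result F))) (le_sSup hQcen)
  have hQS : ¬ S ≤ F.center := fun h => hQnc (hcen ▸ inf_le_left.trans h)
  set θ := QuotientGroup.mk' ((F.center).subgroupOf S) with hθ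
  have D : QData F F.center θ ⊤ := qData_center F
  obtain ⟨B, hB, hBns⟩ : ∃ B, F.IsFactorSystem F.center θ B ∧ ¬ B.IsSimple p := by
    by_contra! h
    exact hqs ⟨hF, hhyp, h⟩
  haveI := D.finite_S'
  have hBs : B.IsSaturated p := D.isSaturated_factor hS hF hB
  have hne : (⊤ : Subgroup (S ⧸ (F.center).subgroupOf S)) ≠ ⊥ := fun e => hQS fun s hs => by
    have h1 := D.thF_mem hs
    rwa [e, Subgroup.mem_bot, thF_apply θ hs, D.ker_iff] at h1
  obtain ⟨T', E, hE, hT', hdiff⟩ : ∃ (T' : Subgroup (S ⧸ (F.center).subgroupOf S))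
      (E : FusionSystem T'), E.IsNormalIn B p ∧ T' ≠ ⊥ ∧
        ¬ (T' = ⊤ ∧ ∀ P, E.Hom P = B.Hom P) := by
    by_contra! h
    refine hBns ⟨hBs, hne, fun T' E hE => or_iff_not_imp_left.2 fun hT' => ?_⟩
    by_contra hcon
    exact hcon (h T' E hE hT')
  have L : LiftData F F.center θ B E p := ⟨hF, S5144.result F, D, hB, hE⟩
  have hw := L.isWeaklyNormalIn_liftSys hS
  haveI : Finite (preimageAlong θ T') := finite_of_le (preimageAlong_le θ T')
  by_cases hU : preimageAlong θ T' = S
  · exfalso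
    apply hdiff
    refine ⟨eq_top_iff.2 fun y hy => ?_, fun P' => (hE.1.2.2.1 P').antisymm fun φ' hφ' => ?_⟩
    · obtain ⟨x, hx, rfl⟩ := D.exists_eq hy
      exact (mem_preimageAlong.1 (hU.symm ▸ hx : x ∈ preimageAlong θ T')).2
    · obtain ⟨hP', f, hf, he⟩ := (QData.isMap_factor_iff hB).1 (isMap_toFn hφ')
      obtain ⟨f'', hf'', he'⟩ :=
        L.lgen_induced (isMap_liftSys.1 (isMap_of_selfResidual hS hF hres hw hU hf))
      rw [D.image_preimage hP'] at hf''
      refine mem_of_isMap (hf''.congr fun y hy => ?_) fun x => (toFn_coe φ' x).symm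
      obtain ⟨x, hx, rfl⟩ := D.exists_eq (hP' hy)
      have hxm : x ∈ preimageAlong θ P' := mem_preimageAlong.2 ⟨hx, hy⟩
      rw [he' x hxm, he x hxm]
  · refine small (isNormalIn_genSys hS hw) hU fun hc => hT' ?_
    have hn := isNormalIn_genSys hS hw
    have hR := core_le_core hS hF hn.1.2.2
    have hUR : preimageAlong θ T' ≤ F.center := by
      refine le_trans (le_trans (fun x hx => ?_) hR) hcen.ge
      refine (nc_core (hS.to_le (preimageAlong_le θ T')) hc).centralizer_le
        (mem_centralizerIn.2 ⟨hx, fun y hy => ?_⟩)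
      exact F.center_le_centralizer (hcen.symm ▸ hR hy : y ∈ F.center) x (preimageAlong_le θ T' hx)
    refine (Subgroup.eq_bot_iff_forall _).2 fun y hy => ?_
    obtain ⟨x, hx, rfl⟩ := D.exists_eq (Subgroup.mem_top y)
    rw [thF_apply θ hx, D.ker_iff]
    exact hUR (mem_preimageAlong.2 ⟨hx, hy⟩)

/-- A saturated system that is not constrained has a component. -/
theorem exists_component [Finite S] [Fact p.Prime] (hS : IsPGroup p S) (hF : F.IsSaturated p)
    (hc : ¬ F.IsConstrained p) : ∃ (T : Subgroup Ω) (C : FusionSystem T), C.IsComponentIn F p :=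
  exists_component_aux p _ S F rfl hS hF hc

end Cfsg.Agent.FusionProduct
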