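import Cfsg.Agent.EqLemmas
import Mathlib.GroupTheory.Transfer
import Mathlib.GroupTheory.PGroup
import Mathlib.GroupTheory.QuotientGroup.Basic

/-
A transfer argument: a `p`-element central modulo a strongly closed subgroup of a Sylow subgroup, lying in
the subgroup generated by that subgroup and the elements of order prime to `p`, lies in that subgroup.
Main result (namespace `Cfsg.Agent.FusionProduct`): `mem_of_transfer`.
-/

set_option autoImplicit false

namespace Cfsg.Agent.FusionProduct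

open MonoidHom MulAction Subgroup

theorem mem_of_transfer {G : Type*} [Group G] [Finite G] {p : ℕ} [Fact p.Prime] (P A : Subgroup G)
    (hP : IsPGroup p P) (hindex : (P.index).Coprime p) (hAP : A ≤ P)
    (hnorm : ∀ x ∈ P, ∀ a ∈ A, x * a * x⁻¹ ∈ A)
    (hcomm : ∀ x ∈ P, ∀ y ∈ P, (y * x)⁻¹ * (x * y) ∈ A)
    (hstrong : ∀ (g : G), ∀ a ∈ A, g * a * g⁻¹ ∈ P → g * a * g⁻¹ ∈ A)
    {z : G} (hz : z ∈ P)
    (hcent : ∀ (g : G) (k : ℕ), g⁻¹ * z ^ k * g ∈ P → (z ^ k)⁻¹ * (g⁻¹ * z ^ k * g) ∈ A)
    (hgen : z ∈ Subgroup.closure {g : G | (orderOf g).Coprime p} ⊔ A) : z ∈ A := by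
  classical
  set A' := A.subgroupOf P
  have hn : A'.Normal := ⟨fun a ha x => hnorm x x.2 a ha⟩
  letI : CommGroup (P ⧸ A') :=
    { (inferInstance : Group (P ⧸ A')) with
      mul_comm := fun a b => by
        induction a using QuotientGroup.induction_on with
        | H x =>
          induction b using QuotientGroup.induction_on with
          | H y => exact ((QuotientGroup.eq (s := A') (a := y * x) (b := x * y)).2 (hcomm x x.2 y y.2)).symm }
  let φ : P →* P ⧸ A' := QuotientGroup.mk' A'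
  have : P.FiniteIndex := inferInstance
  have hφA : ∀ (x : G) (hx : x ∈ P), x ∈ A → φ ⟨x, hx⟩ = 1 := fun x hx hxA =>
    (QuotientGroup.eq_one_iff _).2 hxA
  let τ := transfer φ
  have hQ : IsPGroup p (P ⧸ A') := hP.to_quotient A'
  have hker : Subgroup.closure {g : G | (orderOf g).Coprime p} ⊔ A ≤ τ.ker := by
    refine sup_le ((Subgroup.closure_le _).2 fun g hg => ?_) fun a ha => ?_
    · obtain ⟨k, hk⟩ := IsPGroup.iff_orderOf.1 hQ (τ g)
      have hd : orderOf (τ g) ∣ orderOf g := orderOf_map_dvd τ g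
      refine MonoidHom.mem_ker.2 (orderOf_eq_one_iff.1 ?_)
      rw [hk] at hd ⊢
      exact Nat.eq_one_of_dvd_coprimes (Nat.Coprime.pow_right k hg) hd dvd_rfl
    · refine MonoidHom.mem_ker.2 ?_
      let := P.fintypeQuotientOfFiniteIndex
      show transfer φ a = 1
      rw [transfer_eq_prod_quotient_orbitRel_zpowers_quot]
      refine Finset.prod_eq_one fun q _ => hφA _ _ ?_
      have h1 := QuotientGroup.out_conj_pow_minimalPeriod_mem P a q.out
      have := hstrong (q.out.out)⁻¹ _ (pow_mem ha _) (by rw [inv_inv]; exact h1)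
      rwa [inv_inv] at this
  have h1 : τ z = 1 := MonoidHom.mem_ker.1 (hker hgen)
  have h2 : τ z = φ ⟨z, hz⟩ ^ P.index := by
    let := P.fintypeQuotientOfFiniteIndex
    show transfer φ z = _
    rw [transfer_eq_prod_quotient_orbitRel_zpowers_quot, Subgroup.index_eq_sum_minimalPeriod P z,
      ← Finset.prod_pow_eq_pow_sum]
    refine Finset.prod_congr rfl fun q _ => ?_
    rw [← map_pow]
    refine ((QuotientGroup.eq).2 ?_).symm
    exact hcent q.out.out _ (QuotientGroup.out_conj_pow_minimalPeriod_mem P z q.out)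
  rw [h2] at h1
  obtain ⟨k, hk⟩ := IsPGroup.iff_orderOf.1 hQ (φ ⟨z, hz⟩)
  have h3 : orderOf (φ ⟨z, hz⟩) = 1 := by
    have hd := orderOf_dvd_of_pow_eq_one h1
    rw [hk] at hd ⊢
    exact Nat.eq_one_of_dvd_coprimes (Nat.Coprime.pow_right k hindex) hd dvd_rfl
  exact Subgroup.mem_subgroupOf.1
    ((QuotientGroup.eq_one_iff (N := A') (⟨z, hz⟩ : P)).1 (orderOf_eq_one_iff.1 h3))

end Cfsg.Agent.FusionProduct
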