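import Cfsg.Agent.Lib.FusionProduct.Extend
import Cfsg.Agent.Lib.Fusion.Quotient

/-
Lifting a normal subsystem of a factor system by a central subgroup, part 1: the groups of automorphisms
and the generated maps.
Main results (namespace `Cfsg.Agent.FusionProduct`): `LiftData`, `atGrp`, `kGrp`, `laGrp`, `aGrp`, `LGen`,
`LiftData.exists_lgen_lift`, `liftSys`.
-/

set_option autoImplicit false

open scoped Pointwise

namespace Cfsg.Agent.FusionProduct

open Cfsg Cfsg.FusionSystem Cfsg.Agent.Fusion Cfsg.Agent.FusionChain Cfsg.Agent.FusionCrit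

variable {Ω : Type*} [Group Ω] {S : Subgroup Ω} {Ω' : Type*} [Group Ω'] {S' T' : Subgroup Ω'}

/-- The data: a subsystem `E` normal in the factor system `B` of `F` by the central subgroup `Q`. -/
structure LiftData (F : FusionSystem S) (Q : Subgroup Ω) (θ : S →* Ω') (B : FusionSystem S')
    (E : FusionSystem T') (p : ℕ) : Prop where
  sat : F.IsSaturated p
  central : F.IsCentral Q
  data : QData F Q θ S'
  factor : F.IsFactorSystem Q θ B
  normal : E.IsNormalIn B p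

theorem thF_mem_image (θ : S →* Ω') {R : Subgroup Ω} {x : Ω} (hR : R ≤ S) (hx : x ∈ R) :
    thF θ x ∈ imageAlong θ R :=
  mem_imageAlong.2 ⟨x, hx, hR hx, rfl⟩

variable (F : FusionSystem S) (Q : Subgroup Ω) (θ : S →* Ω') (E : FusionSystem T') (p : ℕ)

/-- The automorphisms inducing an element of `Aut_E` on the image. -/
def atGrp {R : Subgroup Ω} (hR : R ≤ S) : Subgroup (MulAut R) where
  carrier := {α | α ∈ F.autGroup R ∧ ∃ α' ∈ E.autGroup (imageAlong θ R),
    ∀ x ∈ R, thF θ (autFn α x) = autFn α' (thF θ x)}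
  one_mem' := ⟨one_mem _, 1, one_mem _, fun x hx => by
    rw [autFn_apply _ hx, autFn_apply _ (thF_mem_image θ hR hx)]; rfl⟩
  mul_mem' := by
    rintro a b ⟨ha, a', ha', ea⟩ ⟨hb, b', hb', eb⟩
    refine ⟨mul_mem ha hb, a' * b', mul_mem ha' hb', fun x hx => ?_⟩
    rw [autFn_mul _ _ hx, ea _ (autFn_mem b hx), eb x hx,
      autFn_mul _ _ (thF_mem_image θ hR hx)]
  inv_mem' := by
    rintro a ⟨ha, a', ha', ea⟩
    refine ⟨Subgroup.inv_mem _ ha, a'⁻¹, Subgroup.inv_mem _ ha', fun x hx => ?_⟩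
    have h := ea _ (autFn_mem a⁻¹ hx)
    rw [autFn_self_inv a hx] at h
    rw [h, autFn_inv_self a' (thF_mem_image θ hR (autFn_mem a⁻¹ hx))]

/-- The automorphisms trivial modulo `Q`. -/
def kGrp (R : Subgroup Ω) : Subgroup (MulAut R) where
  carrier := {α | α ∈ F.autGroup R ∧ ∀ x : R, (x : Ω)⁻¹ * (α x : R) ∈ Q}
  one_mem' := ⟨one_mem _, fun x => by simp⟩
  mul_mem' := by
    rintro a b ⟨ha, ea⟩ ⟨hb, eb⟩
    refine ⟨mul_mem ha hb, fun x => ?_⟩
    have := Q.mul_mem (eb x) (ea (b x))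
    simpa [mul_assoc] using this
  inv_mem' := by
    rintro a ⟨ha, ea⟩
    refine ⟨Subgroup.inv_mem _ ha, fun x => ?_⟩
    have h1 := ea (a⁻¹ x)
    rw [MulAut.apply_inv_self] at h1
    simpa using inv_mem h1

/-- The subgroup generated by the elements of order prime to `p` of `atGrp`. -/
def laGrp {R : Subgroup Ω} (hR : R ≤ S) : Subgroup (MulAut R) :=
  Subgroup.closure {α | α ∈ atGrp F θ E hR ∧ (orderOf α).Coprime p}

/-- `laGrp` together with the automorphisms induced by the preimage of `T'`. -/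
def aGrp {R : Subgroup Ω} (hR : R ≤ S) : Subgroup (MulAut R) :=
  laGrp F θ E p hR ⊔ autInducedBy (preimageAlong θ T') R

/-- The subgroups over `Q` with centric image. -/
def Cent (R : Subgroup Ω) : Prop :=
  Q ≤ R ∧ R ≤ preimageAlong θ T' ∧ E.IsCentric (imageAlong θ R)

/-- The generated maps. -/
inductive LGen : Subgroup Ω → (Ω → Ω) → Prop
  | aut {R P : Subgroup Ω} {α : MulAut R} (hR : R ≤ S) : Cent Q θ E R → α ∈ laGrp F θ E p hR → P ≤ R →
      LGen P (autFn α)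
  | conj {P : Subgroup Ω} {t : Ω} : P ≤ preimageAlong θ T' → t ∈ preimageAlong θ T' →
      LGen P (fun x => t * x * t⁻¹)
  | comp {P : Subgroup Ω} {f g : Ω → Ω} : LGen P f → LGen (img f P) g → LGen P (fun x => g (f x))
  | congr {P : Subgroup Ω} {f g : Ω → Ω} : LGen P f → (∀ x ∈ P, f x = g x) → LGen P g

variable {F Q θ E p}

theorem mem_atGrp {R : Subgroup Ω} {hR : R ≤ S} {α : MulAut R} :
    α ∈ atGrp F θ E hR ↔ α ∈ F.autGroup R ∧ ∃ α' ∈ E.autGroup (imageAlong θ R),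
      ∀ x ∈ R, thF θ (autFn α x) = autFn α' (thF θ x) := Iff.rfl

theorem laGrp_le_atGrp {R : Subgroup Ω} (hR : R ≤ S) : laGrp F θ E p hR ≤ atGrp F θ E hR :=
  (Subgroup.closure_le _).2 fun _ h => h.1

theorem Cent.le {R : Subgroup Ω} (h : Cent Q θ E R) : R ≤ S :=
  h.2.1.trans (preimageAlong_le θ T')

namespace LGen

theorem isMap {P : Subgroup Ω} {f : Ω → Ω} (h : LGen F Q θ E p P f) : IsMap F P f := by
  induction h with
  | aut hR _ hα hP => exact ((mem_autGroup_iff hR).1 (laGrp_le_atGrp hR hα).1).mono hP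
  | conj hP ht => exact Fusion.IsMap.conj (hP.trans (preimageAlong_le θ T')) (preimageAlong_le θ T' ht)
  | comp _ _ ih1 ih2 => exact ih1.comp ih2 fun x hx => ih1.mem_img hx
  | congr _ e ih => exact ih.congr e

theorem id {P : Subgroup Ω} (hP : P ≤ preimageAlong θ T') : LGen F Q θ E p P (fun x => x) :=
  (LGen.conj hP (one_mem _)).congr fun x _ => by group

theorem le {P : Subgroup Ω} {f : Ω → Ω} (h : LGen F Q θ E p P f) : P ≤ preimageAlong θ T' := by
  induction h with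
  | aut _ hc _ hP => exact hP.trans hc.2.1
  | conj hP _ => exact hP
  | comp _ _ ih1 _ => exact ih1
  | congr _ _ ih => exact ih

theorem mem {P : Subgroup Ω} {f : Ω → Ω} (h : LGen F Q θ E p P f) :
    ∀ x ∈ P, f x ∈ preimageAlong θ T' := by
  induction h with
  | aut _ hc _ hP => exact fun x hx => hc.2.1 (autFn_mem _ (hP hx))
  | conj hP ht => exact fun x hx => mul_mem (mul_mem ht (hP hx)) (inv_mem ht)
  | @comp P f g h1 _ _ ih2 => exact fun x hx => ih2 (f x) (h1.isMap.mem_img hx)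
  | congr _ e ih => exact fun x hx => e x hx ▸ ih x hx

theorem mono {P : Subgroup Ω} {f : Ω → Ω} (h : LGen F Q θ E p P f) :
    ∀ P' : Subgroup Ω, P' ≤ P → LGen F Q θ E p P' f := by
  induction h with
  | aut hR hc hα hP => exact fun P' h => LGen.aut hR hc hα (h.trans hP)
  | conj hP ht => exact fun P' h => LGen.conj (h.trans hP) ht
  | @comp P f g h1 _ ih1 ih2 =>
    intro P' h
    exact LGen.comp (ih1 P' h) (ih2 _ (h1.isMap.img_le h fun x hx => h1.isMap.mem_img (h hx)))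
  | congr _ e ih => exact fun P' h => (ih P' h).congr fun x hx => e x (h hx)

theorem comp_of_le {P P' : Subgroup Ω} {f g : Ω → Ω} (hf : LGen F Q θ E p P f)
    (hg : LGen F Q θ E p P' g) (h : ∀ x ∈ P, f x ∈ P') : LGen F Q θ E p P (fun x => g (f x)) :=
  LGen.comp hf (hg.mono _ (hf.isMap.img_le le_rfl h))

theorem symm {P : Subgroup Ω} {f : Ω → Ω} (h : LGen F Q θ E p P f) :
    ∀ g : Ω → Ω, (∀ x ∈ P, g (f x) = x) → LGen F Q θ E p (img f P) g := by
  induction h with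
  | @aut R P α hR hc hα hP =>
    intro g hg
    have hm := (mem_autGroup_iff hR).1 (laGrp_le_atGrp hR hα).1
    refine (LGen.aut hR hc (Subgroup.inv_mem _ hα)
      (hm.img_le hP fun x hx => autFn_mem α (hP hx))).congr fun y hy => ?_
    obtain ⟨x, hx, rfl⟩ := (hm.mem_img_iff hP).1 hy
    rw [hg x hx, autFn_inv_self α (hP hx)]
  | @conj P t hP ht =>
    intro g hg
    have hm : IsMap F P (fun x => t * x * t⁻¹) :=
      Fusion.IsMap.conj (hP.trans (preimageAlong_le θ T')) (preimageAlong_le θ T' ht)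
    refine (LGen.conj (hm.img_le le_rfl fun x hx => mul_mem (mul_mem ht (hP hx)) (inv_mem ht))
      (inv_mem ht)).congr fun y hy => ?_
    obtain ⟨x, hx, rfl⟩ := (hm.mem_img_iff le_rfl).1 hy
    rw [hg x hx]
    group
  | @comp P f₁ f₂ h₁ h₂ ih₁ ih₂ =>
    intro k hk
    obtain ⟨i, hi, hil, -⟩ := h₁.isMap.isIso.symm
    obtain ⟨j, hj, hjl, -⟩ := h₂.isMap.isIso.symm
    have c₁ := ih₁ i hil
    rw [FusionCrit.img_img_of h₁.isMap h₂.isMap]
    refine ((ih₂ j hjl).comp_of_le c₁ fun y hy => hj.mem hy).congr fun y hy => ?_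
    obtain ⟨z, hz, rfl⟩ := (h₂.isMap.mem_img_iff le_rfl).1 hy
    obtain ⟨x, hx, rfl⟩ := (h₁.isMap.mem_img_iff le_rfl).1 hz
    rw [hjl _ hz, hil x hx, hk x hx]
  | @congr P f₁ f₂ _ e ih =>
    intro g hg
    rw [← img_congr e]
    exact ih g fun x hx => by rw [e x hx]; exact hg x hx

theorem exists_inv {P : Subgroup Ω} {f : Ω → Ω} (h : LGen F Q θ E p P f) :
    ∃ g, LGen F Q θ E p (img f P) g ∧ (∀ x ∈ P, g (f x) = x) ∧ (∀ y ∈ img f P, g y ∈ P) ∧
      ∀ y ∈ img f P, f (g y) = y := by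
  obtain ⟨g, hg, hgf, hfg⟩ := h.isMap.isIso.symm
  exact ⟨g, h.symm g hgf, hgf, fun y hy => hg.mem hy, hfg⟩

end LGen

variable (F Q θ E p) in
/-- The automorphisms given by generated maps. -/
def genAut {R : Subgroup Ω} (hR : R ≤ preimageAlong θ T') : Subgroup (MulAut R) where
  carrier := {α | LGen F Q θ E p R (autFn α)}
  one_mem' := (LGen.id hR).congr fun x hx => by rw [autFn_apply _ hx]; rfl
  mul_mem' {a b} ha hb := (LGen.comp_of_le hb ha fun x hx => autFn_mem b hx).congr fun x hx =>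
    (autFn_mul a b hx).symm
  inv_mem' {a} ha := by
    have h := LGen.symm ha (autFn a⁻¹) fun x hx => autFn_inv_self a hx
    rwa [IsIso.img_eq_of (LGen.isMap ha) le_rfl (fun x hx => autFn_mem a hx)
      fun y hy => ⟨autFn a⁻¹ y, autFn_mem _ hy, autFn_self_inv a hy⟩] at h

theorem mem_genAut {R : Subgroup Ω} {hR : R ≤ preimageAlong θ T'} {α : MulAut R} :
    α ∈ genAut F Q θ E p hR ↔ LGen F Q θ E p R (autFn α) := Iff.rfl

variable {B : FusionSystem S'}

namespace LiftData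

variable (D : LiftData F Q θ B E p)
include D

theorem satB : B.IsSaturated p := D.normal.1.2.1

theorem satE : E.IsSaturated p := D.normal.1.1

theorem invariant : E.IsInvariantIn B := D.normal.1.2.2

theorem T'_le : T' ≤ S' := D.invariant.2.1.1

theorem Q_le_U : Q ≤ preimageAlong θ T' := D.data.le_preimage T'

/-- Maps of `F` fix the elements of `Q`. -/
theorem map_fix {P : Subgroup Ω} {f : Ω → Ω} (hf : IsMap F P f) {q : Ω} (hq : q ∈ P) (hqQ : q ∈ Q) :
    f q = q := by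
  obtain ⟨φ, hφ, e⟩ := hf
  obtain ⟨ψ, -, hψP, hψQ⟩ := D.central.2 P φ hφ
  rw [← e q hq, ← hψP ⟨q, hq⟩]
  exact hψQ ⟨q, hqQ⟩

/-- Maps of `F` extend to the join with `Q`. -/
theorem map_ext {P : Subgroup Ω} {f : Ω → Ω} (hf : IsMap F P f) :
    ∃ g, IsMap F (P ⊔ Q) g ∧ ∀ x ∈ P, g x = f x := by
  obtain ⟨φ, hφ, e⟩ := hf
  obtain ⟨ψ, hψ, hψP, -⟩ := D.central.2 P φ hφ
  refine ⟨toFn ψ, isMap_toFn hψ, fun x hx => ?_⟩
  rw [toFn_apply ψ (Subgroup.mem_sup_left hx), ← e x hx]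
  exact hψP ⟨x, hx⟩

omit D in
theorem mem_U_iff {x : Ω} : x ∈ preimageAlong θ T' ↔ x ∈ S ∧ thF θ x ∈ T' := mem_preimageAlong

theorem pre_image {R : Subgroup Ω} (hR : R ≤ S) (hQ : Q ≤ R) :
    preimageAlong θ (imageAlong θ R) = R := by
  rw [D.data.preimage_image hR, sup_eq_left.2 hQ]

theorem stronglyClosed_U : F.StronglyClosed (preimageAlong θ T') := by
  refine stronglyClosed_iff.2 ⟨preimageAlong_le θ T', fun P f hf x hx hxU => ?_⟩
  obtain ⟨g, hg, hgf⟩ := D.map_ext hf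
  obtain ⟨f', hf', he⟩ := D.data.isMap_image D.factor hg le_sup_right
  refine mem_preimageAlong.2 ⟨hf.mem hx, ?_⟩
  rw [← hgf x hx, ← he x (Subgroup.mem_sup_left hx)]
  exact (stronglyClosed_iff.1 D.invariant.2.1).2 _ f' hf' _
    (thF_mem_image θ hg.le (Subgroup.mem_sup_left hx)) (mem_preimageAlong.1 hxU).2

/-- Isomorphisms of `F` on subgroups over `Q` induce isomorphisms of the factor system. -/
theorem map_image {R R₂ : Subgroup Ω} {w : Ω → Ω} (hw : IsIso F R R₂ w) (hQ : Q ≤ R) :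
    Q ≤ R₂ ∧ ∃ w', IsIso B (imageAlong θ R) (imageAlong θ R₂) w' ∧
      ∀ x ∈ R, w' (thF θ x) = thF θ (w x) := by
  obtain ⟨w', hw', e⟩ := D.data.isMap_image D.factor hw.1 hQ
  refine ⟨fun q hq => ?_, w', ⟨hw', ?_⟩, e⟩
  · rw [← D.map_fix hw.1 (hQ hq) hq]
    exact hw.mem (hQ hq)
  · refine IsIso.img_eq_of hw' le_rfl (fun y hy => ?_) fun y hy => ?_
    · obtain ⟨x, hx, -, rfl⟩ := mem_imageAlong.1 hy
      rw [e x hx]
      exact thF_mem_image θ hw.le_right (hw.mem hx)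
    · obtain ⟨z, hz, -, rfl⟩ := mem_imageAlong.1 hy
      obtain ⟨x, hx, rfl⟩ := hw.exists_eq hz
      exact ⟨thF θ x, thF_mem_image θ hw.le_left hx, e x hx⟩

omit D in
theorem image_le_T' {R : Subgroup Ω} (hR : R ≤ preimageAlong θ T') : imageAlong θ R ≤ T' :=
  fun y hy => by
    obtain ⟨x, hx, -, rfl⟩ := mem_imageAlong.1 hy
    exact (mem_preimageAlong.1 (hR hx)).2

/-- Transport of `atGrp` along isomorphisms of `F`. -/
theorem congr_mem_atGrp {R R₂ : Subgroup Ω} {w : Ω → Ω} (hw : IsIso F R R₂ w) (hQ : Q ≤ R)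
    (hRU : R ≤ preimageAlong θ T') {α : MulAut R} (hα : α ∈ atGrp F θ E hw.le_left) :
    MulAut.congr hw.equiv α ∈ atGrp F θ E hw.le_right := by
  obtain ⟨hαF, α', hα', e⟩ := hα
  obtain ⟨hQ', w', hw', ew⟩ := D.map_image hw hQ
  refine ⟨Fusion.congr_mem_autGroup hw hαF, MulAut.congr hw'.equiv α',
    FusionNormal.congr_mem_autGroup D.invariant hw' (image_le_T' hRU) hα', fun y hy => ?_⟩
  obtain ⟨x, hx, rfl⟩ := hw.exists_eq hy
  have h1 : autFn (MulAut.congr hw.equiv α) (w x) = w (α ⟨x, hx⟩ : R) := by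
    rw [autFn_apply _ (hw.mem hx)]
    exact congr_apply_coe hw α ⟨x, hx⟩
  have hxm := thF_mem_image θ hw.le_left hx
  rw [h1, ← ew x hx, ← ew _ (α ⟨x, hx⟩).2, autFn_apply _ (hw'.mem hxm), ← autFn_apply α hx, e x hx,
    autFn_apply α' hxm]
  exact (congr_apply_coe hw' α' ⟨_, hxm⟩).symm

/-- Transport of `laGrp` along isomorphisms of `F`. -/
theorem congr_mem_laGrp {R R₂ : Subgroup Ω} {w : Ω → Ω} (hw : IsIso F R R₂ w) (hQ : Q ≤ R)
    (hRU : R ≤ preimageAlong θ T') {α : MulAut R} (hα : α ∈ laGrp F θ E p hw.le_left) :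
    MulAut.congr hw.equiv α ∈ laGrp F θ E p hw.le_right := by
  have h : (laGrp F θ E p hw.le_left).map (MulAut.congr hw.equiv).toMonoidHom ≤
      laGrp F θ E p hw.le_right := by
    rw [laGrp, MonoidHom.map_closure, Subgroup.closure_le]
    rintro _ ⟨β, ⟨hβ, hβp⟩, rfl⟩
    exact Subgroup.subset_closure ⟨D.congr_mem_atGrp hw hQ hRU hβ,
      (MulEquiv.orderOf_eq (MulAut.congr hw.equiv) β).symm ▸ hβp⟩
  exact h ⟨α, hα, rfl⟩

theorem cent_iso {R R₂ : Subgroup Ω} {w : Ω → Ω} (hw : IsIso F R R₂ w) (hc : Cent Q θ E R) :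
    Cent Q θ E R₂ := by
  obtain ⟨hQ', w', hw', -⟩ := D.map_image hw hc.1
  exact ⟨hQ', fun y hy => by
    obtain ⟨x, hx, rfl⟩ := hw.exists_eq hy
    exact (stronglyClosed_iff.1 D.stronglyClosed_U).2 R w hw.1 x hx (hc.2.1 hx),
    isCentric_transport D.invariant hc.2.2 hw'⟩

/-- Generated maps induce maps of `E`. -/
theorem lgen_induced {P : Subgroup Ω} {f : Ω → Ω} (h : LGen F Q θ E p P f) :
    ∃ f', IsMap E (imageAlong θ P) f' ∧ ∀ x ∈ P, f' (thF θ x) = thF θ (f x) := by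
  induction h with
  | @aut R P α hR hc hα hP =>
    obtain ⟨-, α', hα', e⟩ := laGrp_le_atGrp hR hα
    refine ⟨autFn α', ((mem_autGroup_iff hc.2.2.1).1 hα').mono (Subgroup.map_mono
      fun _ hx => hP hx), fun x hx => (e x (hP hx)).symm⟩
  | @conj P t hP ht =>
    refine ⟨fun y => thF θ t * y * (thF θ t)⁻¹, Fusion.IsMap.conj (image_le_T' hP)
      (mem_preimageAlong.1 ht).2, fun x hx => ?_⟩
    exact (thF_conj θ (preimageAlong_le θ T' ht) (preimageAlong_le θ T' (hP hx))).symm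
  | @comp P f g h1 h2 ih1 ih2 =>
    obtain ⟨f', hf', e1⟩ := ih1
    obtain ⟨g', hg', e2⟩ := ih2
    refine ⟨fun y => g' (f' y), hf'.comp hg' fun y hy => ?_, fun x hx => ?_⟩
    · obtain ⟨x, hx, -, rfl⟩ := mem_imageAlong.1 hy
      rw [e1 x hx]
      exact thF_mem_image θ h2.isMap.le (h1.isMap.mem_img hx)
    · show g' (f' (thF θ x)) = _
      rw [e1 x hx, e2 _ (h1.isMap.mem_img hx)]
  | congr _ e ih =>
    obtain ⟨f', hf', e1⟩ := ih
    exact ⟨f', hf', fun x hx => by rw [e1 x hx, e x hx]⟩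

theorem aGrp_le_genAut {R : Subgroup Ω} (hc : Cent Q θ E R) :
    aGrp F θ E p hc.le ≤ genAut F Q θ E p hc.2.1 := by
  refine sup_le (fun α hα => LGen.aut hc.le hc hα le_rfl) fun α hα => ?_
  obtain ⟨t, ht, e⟩ := mem_autInducedBy_iff.1 hα
  exact (LGen.conj hc.2.1 ht).congr fun x hx => ((autFn_apply α hx).trans (e ⟨x, hx⟩)).symm

section Finite

variable [Finite S] [Fact p.Prime]

/-- An automorphism of the image lifts; one of order prime to `p` lifts to one of order prime to `p`. -/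
theorem exists_lift_aut {R : Subgroup Ω} (hR : R ≤ S) (hQ : Q ≤ R)
    (hRU : R ≤ preimageAlong θ T') {α' : MulAut (imageAlong θ R)}
    (hα' : α' ∈ E.autGroup (imageAlong θ R)) :
    ∃ α ∈ atGrp F θ E hR, (∀ x ∈ R, thF θ (autFn α x) = autFn α' (thF θ x)) ∧
      ((orderOf α').Coprime p → (orderOf α).Coprime p) := by
  have := finite_mulAut (S := S) hR
  have hT : imageAlong θ R ≤ T' := image_le_T' hRU
  have hB : IsIso B (imageAlong θ R) (imageAlong θ R) (autFn α') :=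
    FusionNormal.isIso_of_sub D.invariant.1 (isIso_autFn hT hα')
  obtain ⟨f, hf, e⟩ := D.data.exists_lift_iso D.factor hB
  rw [D.pre_image hR hQ] at hf e
  obtain ⟨α₀, hα₀, hα₀f⟩ := exists_aut_of_isIso hf
  have h0 : ∀ x ∈ R, thF θ (autFn α₀ x) = autFn α' (thF θ x) := fun x hx => by
    rw [autFn_apply α₀ hx, hα₀f, e x hx]
  have hpow : ∀ (k : ℕ), ∀ x ∈ R, thF θ (autFn (α₀ ^ k) x) = autFn (α' ^ k) (thF θ x) := by
    intro k
    induction k with
    | zero =>
      intro x hx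
      rw [pow_zero, pow_zero, autFn_apply _ hx, autFn_apply _ (thF_mem_image θ hR hx)]
      rfl
    | succ k ih =>
      intro x hx
      rw [pow_succ, autFn_mul _ _ hx, pow_succ, autFn_mul _ _ (thF_mem_image θ hR hx),
        ih _ (autFn_mem α₀ hx), h0 x hx]
  by_cases hp : (orderOf α').Coprime p
  · obtain ⟨m, hm, hmp⟩ := exists_pow_coprime_modEq α₀ hp
    have h1 : ∀ x ∈ R, thF θ (autFn (α₀ ^ m) x) = autFn α' (thF θ x) := fun x hx => by
      rw [hpow m x hx, pow_eq_self_of_modEq hm]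
    exact ⟨α₀ ^ m, ⟨pow_mem hα₀ m, α', hα', h1⟩, h1, fun _ => hmp⟩
  · exact ⟨α₀, ⟨hα₀, α', hα', h0⟩, h0, fun h => absurd h hp⟩

/-- Lifting, with the image as a parameter. -/
theorem exists_lift_aut_of_eq {R : Subgroup Ω} (hR : R ≤ S) (hQ : Q ≤ R)
    (hRU : R ≤ preimageAlong θ T') {R' : Subgroup Ω'} (himg : imageAlong θ R = R') {α' : MulAut R'}
    (hα' : α' ∈ E.autGroup R') :
    ∃ α ∈ atGrp F θ E hR, (∀ x ∈ R, thF θ (autFn α x) = autFn α' (thF θ x)) ∧
      ((orderOf α').Coprime p → (orderOf α).Coprime p) := by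
  subst himg
  exact D.exists_lift_aut hR hQ hRU hα'

/-- Every map of `E` is induced by a generated map on the full preimage. -/
theorem exists_lgen_lift (hS : IsPGroup p S) {P' : Subgroup Ω'} {f' : Ω' → Ω'}
    (hf' : IsMap E P' f') : ∃ f, LGen F Q θ E p (preimageAlong θ P') f ∧
      ∀ x ∈ preimageAlong θ P', f' (thF θ x) = thF θ (f x) := by
  have := D.data.finite_S'
  have : Finite T' := finite_of_le D.T'_le
  have hT' : IsPGroup p T' := (D.data.isPGroup_S' hS).to_le D.T'_le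
  refine alperin hT' D.satE (fun P' f' => ∃ f, LGen F Q θ E p (preimageAlong θ P') f ∧
    ∀ x ∈ preimageAlong θ P', f' (thF θ x) = thF θ (f x)) ?_ ?_ ?_ ?_ hf'
  · rintro P f g - ⟨k, hk, e⟩ he
    exact ⟨k, hk, fun x hx => (he _ (mem_preimageAlong.1 hx).2).symm.trans (e x hx)⟩
  · rintro P P₁ f - hle ⟨k, hk, e⟩
    have h1 : preimageAlong θ P₁ ≤ preimageAlong θ P := fun x hx =>
      mem_preimageAlong.2 ⟨(mem_preimageAlong.1 hx).1, hle (mem_preimageAlong.1 hx).2⟩
    exact ⟨k, hk.mono _ h1, fun x hx => e x (h1 hx)⟩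
  · rintro P P₁ f g - - hfP ⟨k, hk, e⟩ ⟨l, hl, e'⟩
    have hmem : ∀ x ∈ preimageAlong θ P, k x ∈ preimageAlong θ P₁ := fun x hx =>
      mem_preimageAlong.2 ⟨hk.isMap.mem hx, e x hx ▸ hfP _ (mem_preimageAlong.1 hx).2⟩
    refine ⟨fun x => l (k x), hk.comp_of_le hl hmem, fun x hx => ?_⟩
    show g (f (thF θ x)) = _
    rw [e x hx, e' _ (hmem x hx)]
  · intro R' hn hc hr α hα
    have hR'S : R' ≤ S' := hn.1.trans D.T'_le
    have := finite_mulAut (S := T') hn.1
    set R := preimageAlong θ R' with hRdef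
    have hRS : R ≤ S := preimageAlong_le θ R'
    have hQR : Q ≤ R := D.data.le_preimage R'
    have himg : imageAlong θ R = R' := D.data.image_preimage hR'S
    have hRU : R ≤ preimageAlong θ T' := fun x hx =>
      mem_preimageAlong.2 ⟨hRS hx, hn.1 (mem_preimageAlong.1 hx).2⟩
    have hC : Cent Q θ E R := ⟨hQR, hRU, himg.symm ▸ hc⟩
    let H : Subgroup (MulAut R') :=
      { carrier := {α' | ∃ β ∈ genAut F Q θ E p hRU, ∀ x ∈ R, thF θ (autFn β x) = autFn α' (thF θ x)}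
        one_mem' := ⟨1, one_mem _, fun x hx => by
          rw [autFn_apply _ hx, autFn_apply _ (mem_preimageAlong.1 hx).2]; rfl⟩
        mul_mem' := by
          rintro a b ⟨β, hβ, e⟩ ⟨γ, hγ, e'⟩
          refine ⟨β * γ, mul_mem hβ hγ, fun x hx => ?_⟩
          rw [autFn_mul _ _ hx, e _ (autFn_mem γ hx), e' x hx,
            autFn_mul _ _ (mem_preimageAlong.1 hx).2]
        inv_mem' := by
          rintro a ⟨β, hβ, e⟩
          refine ⟨β⁻¹, inv_mem hβ, fun x hx => ?_⟩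
          have h := e _ (autFn_mem β⁻¹ hx)
          rw [autFn_self_inv β hx] at h
          rw [h, autFn_inv_self a (mem_preimageAlong.1 (autFn_mem β⁻¹ hx)).2] }
    have hαH : α ∈ H := by
      refine FusionNormal.autGroup_le_of_sylow_pResidual
        (isFullyAutomized_iff.1 (fullyAutomized_of_fullyNormalized hT' D.satE hn)).2 ?_ ?_ hα
      · intro β hβ
        obtain ⟨t', ht', e⟩ := mem_autInducedBy_iff.1 hβ
        obtain ⟨t, ht, rfl⟩ := D.data.exists_eq (D.T'_le ht')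
        have htU : t ∈ preimageAlong θ T' := mem_preimageAlong.2 ⟨ht, ht'⟩
        have hN : thF θ t ∈ normalizerIn T' R' := Fusion.mem_normalizerIn_of_aut ht' e
        have htN : t ∈ normalizerIn S R := D.data.preimage_normalizer hR'S ▸
          mem_preimageAlong.2 ⟨ht, mem_normalizerIn.2 ⟨D.T'_le ht', (mem_normalizerIn.1 hN).2⟩⟩
        refine ⟨normConj S R ⟨t, htN⟩, (LGen.conj hRU htU).congr fun x hx =>
          (autFn_apply (normConj S R ⟨t, htN⟩) hx).symm, fun x hx => ?_⟩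
        rw [autFn_apply _ hx, autFn_apply _ (mem_preimageAlong.1 hx).2, e]
        exact thF_conj θ ht (hRS hx)
      · intro β hβ hβp
        obtain ⟨γ, hγ, hγe, hγp⟩ := D.exists_lift_aut_of_eq hRS hQR hRU himg hβ
        exact ⟨γ, LGen.aut hRS hC (Subgroup.subset_closure ⟨hγ, hγp hβp⟩) le_rfl, hγe⟩
    obtain ⟨β, hβ, e⟩ := hαH
    exact ⟨autFn β, hβ, fun x hx => (e x hx).symm⟩

end Finite

end LiftData

variable (F Q θ E p)

/-- The lifted system. -/
noncomputable def liftSys : FusionSystem (preimageAlong θ T') where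
  Hom P := {φ | LGen F Q θ E p P (toFn φ)}
  le_of_mem h := ⟨h.le, fun x => toFn_coe _ x ▸ h.mem x x.2⟩
  injective_of_mem h a b e := Subtype.ext (h.isMap.inj a.2 b.2 (by rw [toFn_coe, toFn_coe, e]))
  conj_mem {P g} hP hg := (LGen.conj hP hg).congr fun x hx =>
    ((toFn_apply (conjHom P g) hx).trans rfl).symm
  comp_mem {P P' φ ψ} hφ hψ h := by
    refine (LGen.comp_of_le hφ hψ fun x hx => (toFn_apply φ hx).symm ▸ h ⟨x, hx⟩).congr fun x hx => ?_
    rw [toFn_apply (ψ.comp (φ.codRestrict P' h)) hx, toFn_apply φ hx, toFn_apply ψ (h ⟨x, hx⟩)]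
    rfl
  inv_mem {P φ} hφ := by
    obtain ⟨ψ, hψ, hinv⟩ := F.inv_mem (mem_of_isMap hφ.isMap fun x => (toFn_coe φ x).symm)
    refine ⟨ψ, ?_, hinv⟩
    have hs := hφ.symm (toFn ψ) fun x hx => by
      rw [toFn_apply φ hx, toFn_apply ψ (show φ ⟨x, hx⟩ ∈ φ.range from ⟨_, rfl⟩)]
      exact hinv ⟨x, hx⟩
    rwa [toFn_img] at hs

variable {F Q θ E p}

theorem isMap_liftSys {P : Subgroup Ω} {f : Ω → Ω} :
    IsMap (liftSys F Q θ E p) P f ↔ LGen F Q θ E p P f := by
  constructor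
  · rintro ⟨φ, hφ, e⟩
    exact LGen.congr hφ fun x hx => (toFn_apply φ hx).trans (e x hx)
  · intro h
    obtain ⟨φ, -, e⟩ := h.isMap
    exact ⟨φ, h.congr fun x hx => ((toFn_apply φ hx).trans (e x hx)).symm, e⟩

end Cfsg.Agent.FusionProduct
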