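import Cfsg.Agent.Lib.FusionProduct.Lift
import Cfsg.Agent.Lib.FusionProduct.Transfer

/-
Lifting a normal subsystem of a factor system by a central subgroup, part 2: the kernel of the reduction
modulo `Q` on automorphisms.
Main results (namespace `Cfsg.Agent.FusionProduct`): `LiftData.comm_mem_inn` (the kernel is central modulo
inner automorphisms), `LiftData.aGrp_inf_kGrp_le_inn`.
-/

set_option autoImplicit false

open scoped Pointwise

namespace Cfsg.Agent.FusionProduct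

open Cfsg Cfsg.FusionSystem Cfsg.Agent.Fusion Cfsg.Agent.FusionChain Cfsg.Agent.FusionCrit

variable {Ω : Type*} [Group Ω] {S : Subgroup Ω} {Ω' : Type*} [Group Ω'] {S' T' : Subgroup Ω'}
  {F : FusionSystem S} {Q : Subgroup Ω} {θ : S →* Ω'} {E : FusionSystem T'} {p : ℕ}
  {B : FusionSystem S'}

/-- Conjugation by an automorphism, as transport along its map. -/
theorem congr_autFn {R : Subgroup Ω} {γ : MulAut R} (hγ : IsIso F R R (autFn γ)) (α : MulAut R) :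
    MulAut.congr hγ.equiv α = γ * α * γ⁻¹ := by
  refine MulEquiv.ext fun x => Subtype.ext ?_
  have hx : hγ.equiv (γ⁻¹ x) = x := Subtype.ext (by
    rw [IsIso.equiv_apply, autFn_apply γ (γ⁻¹ x).2]
    simp)
  conv_lhs => rw [← hx, congr_apply_coe, autFn_apply γ (α _).2]
  rfl

theorem congr_mem_inn {R R₂ : Subgroup Ω} {w : Ω → Ω} (hw : IsIso F R R₂ w) {α : MulAut R}
    (hα : α ∈ Cfsg.Inn R) : MulAut.congr hw.equiv α ∈ Cfsg.Inn R₂ := by
  obtain ⟨r, rfl⟩ := hα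
  refine ⟨⟨w r, hw.mem r.2⟩, MulEquiv.ext fun y => Subtype.ext ?_⟩
  obtain ⟨x, hx, hxy⟩ := hw.exists_eq y.2
  have hy : hw.equiv ⟨x, hx⟩ = y := Subtype.ext ((hw.equiv_apply _).trans hxy)
  rw [← hy, congr_apply_coe]
  show w r * (hw.equiv ⟨x, hx⟩ : R₂) * (w r)⁻¹ = w ((r : Ω) * x * (r : Ω)⁻¹)
  rw [hw.1.map_conj r.2 hx, hw.equiv_apply]

namespace LiftData

variable (D : LiftData F Q θ B E p)
include D

theorem conj_fix {s q : Ω} (hs : s ∈ S) (hq : q ∈ Q) : s * q * s⁻¹ = q :=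
  D.map_fix (Fusion.IsMap.conj (le_rfl : S ≤ S) hs) (D.data.le hq) hq

theorem kGrp_thF {R : Subgroup Ω} (hR : R ≤ S) {k : MulAut R} (hk : k ∈ kGrp F Q R) {x : Ω}
    (hx : x ∈ R) : thF θ (autFn k x) = thF θ x := by
  rw [autFn_apply k hx]
  exact ((D.data.thF_eq_iff (hR hx) (hR (k ⟨x, hx⟩).2)).2 (hk.2 ⟨x, hx⟩)).symm

theorem kGrp_of_thF {R : Subgroup Ω} (hR : R ≤ S) {k : MulAut R} (hk : k ∈ F.autGroup R)
    (h : ∀ x ∈ R, thF θ (autFn k x) = thF θ x) : k ∈ kGrp F Q R :=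
  ⟨hk, fun x => (D.data.thF_eq_iff (hR x.2) (hR (k x).2)).1 (by
    rw [← autFn_apply k x.2]; exact (h x x.2).symm)⟩

/-- The kernel is abelian. -/
theorem kGrp_comm {R : Subgroup Ω} (hR : R ≤ S) {a b : MulAut R} (ha : a ∈ kGrp F Q R)
    (hb : b ∈ kGrp F Q R) : a * b = b * a := by
  have hfix : ∀ c ∈ kGrp F Q R, ∀ q : R, (q : Ω) ∈ Q → c q = q := fun c hc q hq => Subtype.ext <| by
    have h := D.map_fix ((mem_autGroup_iff hR).1 hc.1) q.2 hq
    rwa [autFn_apply c q.2] at h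
  refine MulEquiv.ext fun x => ?_
  have key : ∀ c d : MulAut R, c ∈ kGrp F Q R → d ∈ kGrp F Q R →
      c (d x) = x * (x⁻¹ * c x) * (x⁻¹ * d x) := fun c d hc hd => by
    conv_lhs => rw [← mul_inv_cancel_left x (d x), map_mul, hfix c hc (x⁻¹ * d x) (hd.2 x)]
    group
  rw [MulAut.mul_apply, MulAut.mul_apply, key a b ha hb, key b a hb ha, mul_assoc x, mul_assoc x]
  refine congrArg (x * ·) (Subtype.ext ?_)
  have h1 := D.conj_fix (hR (x⁻¹ * a x).2) (hb.2 x)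
  exact mul_inv_eq_iff_eq_mul.1 h1

theorem congr_mem_kGrp {R R₂ : Subgroup Ω} {w : Ω → Ω} (hw : IsIso F R R₂ w) {α : MulAut R}
    (hα : α ∈ kGrp F Q R) : MulAut.congr hw.equiv α ∈ kGrp F Q R₂ := by
  refine ⟨Fusion.congr_mem_autGroup hw hα.1, fun y => ?_⟩
  obtain ⟨x, hx, hxy⟩ := hw.exists_eq y.2
  have hy : hw.equiv ⟨x, hx⟩ = y := Subtype.ext ((hw.equiv_apply _).trans hxy)
  rw [← hy, congr_apply_coe, hw.equiv_apply, ← hw.1.map_inv hx,
    ← hw.1.map_mul (inv_mem hx) (α ⟨x, hx⟩).2]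
  have h := hα.2 ⟨x, hx⟩
  exact (D.map_fix hw.1 (mul_mem (inv_mem hx) (α ⟨x, hx⟩).2) h).symm ▸ h

theorem conj_mem_kGrp {R : Subgroup Ω} (hR : R ≤ S) {γ k : MulAut R} (hγ : γ ∈ F.autGroup R)
    (hk : k ∈ kGrp F Q R) : γ * k * γ⁻¹ ∈ kGrp F Q R :=
  congr_autFn (isIso_autFn hR hγ) k ▸ D.congr_mem_kGrp (isIso_autFn hR hγ) hk

variable [Finite S] [Fact p.Prime]

theorem isPGroup_kGrp (hS : IsPGroup p S) {R : Subgroup Ω} (hR : R ≤ S) :
    IsPGroup p (kGrp F Q R) := by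
  have := finite_of_le hR
  refine (isPGroup_stabilizing (hS.to_le hR) (hN := fun x hx q hq => (D.conj_fix (hR hx) hq).symm ▸ hq)).to_le
    fun k hk => ⟨fun x hx => Subtype.ext ?_, hk.2⟩
  have h := D.map_fix ((mem_autGroup_iff hR).1 hk.1) x.2 hx
  rwa [autFn_apply k x.2] at h

theorem kGrp_le_autInducedBy (hS : IsPGroup p S) {R : Subgroup Ω} (hn : F.IsFullyNormalized R) :
    kGrp F Q R ≤ autInducedBy S R :=
  le_autInducedBy_of_normal (fullyAutomized_of_fullyNormalized hS D.sat hn) (D.isPGroup_kGrp hS hn.1)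
    (fun _ h => h.1) fun _ hα _ hk => D.conj_mem_kGrp hn.1 hα hk

/-- The image of a fully normalised subgroup over `Q` is fully normalised. -/
theorem fullyNormalized_image {R : Subgroup Ω} (hQ : Q ≤ R) (hn : F.IsFullyNormalized R) :
    B.IsFullyNormalized (imageAlong θ R) := by
  have hR' : imageAlong θ R ≤ S' := fun y hy => by
    obtain ⟨x, -, hx, rfl⟩ := mem_imageAlong.1 hy
    exact D.data.thF_mem hx
  refine ⟨hR', fun X hX => ?_⟩
  obtain ⟨w', hw'⟩ := isConj_iff.1 hX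
  obtain ⟨w, hw, -⟩ := D.data.exists_lift_iso D.factor hw'
  rw [D.pre_image hn.1 hQ] at hw
  have h := hn.2 _ (isConj_iff.2 ⟨w, hw⟩)
  have e : normalizerIn S R = preimageAlong θ (normalizerIn S' (imageAlong θ R)) := by
    rw [D.data.preimage_normalizer hR', D.pre_image hn.1 hQ]
  rw [e, ← D.data.preimage_normalizer hw'.le_right,
    D.data.card_preimage (P' := normalizerIn S' _) inf_le_left,
    D.data.card_preimage (P' := normalizerIn S' _) inf_le_left] at h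
  have := finite_of_le D.data.le
  exact Nat.le_of_mul_le_mul_left h Nat.card_pos

/-- The kernel is central modulo inner automorphisms, at a fully normalised subgroup. -/
theorem comm_mem_inn_of_fullyNormalized (hS : IsPGroup p S) {R : Subgroup Ω} (hc : Cent Q θ E R)
    (hn : F.IsFullyNormalized R) {α k : MulAut R} (hα : α ∈ atGrp F θ E hc.le) (hk : k ∈ kGrp F Q R) :
    α * k * α⁻¹ * k⁻¹ ∈ Cfsg.Inn R := by
  have := D.data.finite_S'
  obtain ⟨s, hs, hsk⟩ := mem_autInducedBy_iff.1 (D.kGrp_le_autInducedBy hS hn hk)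
  have hR := hn.1
  set R' := imageAlong θ R with hR'
  have hR'n : B.IsFullyNormalized R' := D.fullyNormalized_image hc.1 hn
  have hθs : thF θ s ∈ centralizerIn S' R' := by
    refine mem_centralizerIn_of_conj (D.data.thF_mem hs) fun y hy => ?_
    obtain ⟨x, hx, -, rfl⟩ := mem_imageAlong.1 hy
    rw [← thF_conj θ hs (hR hx), ← hsk ⟨x, hx⟩, ← autFn_apply k hx, D.kGrp_thF hR hk hx]
  obtain ⟨hαF, α', hα', eα⟩ := id hα
  obtain ⟨h', hh', hh'α, hh'c⟩ :=
    autGroup_le_extAut (D.data.isPGroup_S' hS) D.normal hc.2.2 hR'n hα'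
  set W' := R' ⊔ centralizerIn S' R' with hW'
  have hW'S : W' ≤ S' := sup_le hR'n.1 inf_le_left
  have hh'W : ∀ y ∈ W', h' y ∈ W' := fun y hy => hh'.forall_mem_sup le_sup_left le_sup_right
    (fun r hr => Subgroup.mem_sup_left (hh'α r hr ▸ autFn_mem α' hr))
    (fun c hc' => by
      have := W'.mul_mem (Subgroup.mem_sup_right hc') (Subgroup.mem_sup_left (hh'c c hc'))
      simpa using this) hy
  have := finite_of_le hW'S
  obtain ⟨H, hH, eH⟩ := D.data.exists_lift_iso D.factor (⟨hh', eq_of_le_of_card hW'S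
    (hh'.img_le le_rfl hh'W) (hh'.card_img le_rfl).ge⟩ : IsIso B W' W' h')
  set W := preimageAlong θ W' with hW
  have hRW : R ≤ W := fun x hx =>
    mem_preimageAlong.2 ⟨hR hx, Subgroup.mem_sup_left (thF_mem_image θ hR hx)⟩
  have hsW : s ∈ W := mem_preimageAlong.2 ⟨hs, Subgroup.mem_sup_right hθs⟩
  have hpre : ∀ z : Ω, z ∈ S → thF θ z ∈ R' → z ∈ R := fun z hz h =>
    D.pre_image hR hc.1 ▸ mem_preimageAlong.2 ⟨hz, h⟩
  have hHθ : ∀ x ∈ R, thF θ (H x) = autFn α' (thF θ x) := fun x hx => by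
    rw [← eH x (hRW hx), hh'α _ (thF_mem_image θ hR hx)]
  have hHR : ∀ x ∈ R, H x ∈ R := fun x hx =>
    hpre _ (hH.1.mem (hRW hx)) (hHθ x hx ▸ autFn_mem α' (thF_mem_image θ hR hx))
  have := finite_of_le hR
  obtain ⟨a, ha, haH⟩ := exists_aut_of_isIso (⟨hH.1.mono hRW, eq_of_le_of_card hR
    (hH.1.img_le hRW hHR) (hH.1.card_img hRW).ge⟩ : IsIso F R R H)
  have hk₁ : α * a⁻¹ ∈ kGrp F Q R := by
    refine D.kGrp_of_thF hR (mul_mem hαF (Subgroup.inv_mem _ ha)) fun x hx => ?_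
    have h1 : thF θ (autFn a (autFn a⁻¹ x)) = autFn α' (thF θ (autFn a⁻¹ x)) := by
      rw [autFn_apply a (autFn_mem a⁻¹ hx), haH]
      exact hHθ _ (autFn_mem a⁻¹ hx)
    rw [autFn_self_inv a hx] at h1
    rw [autFn_mul _ _ hx, eα _ (autFn_mem a⁻¹ hx), ← h1]
  have hr : s⁻¹ * H s ∈ R := by
    refine hpre _ (mul_mem (inv_mem hs) (hH.1.mem hsW)) ?_
    rw [thF_mul θ (inv_mem hs) (hH.1.mem hsW), thF_inv θ hs, ← eH s hsW]
    exact hh'c _ hθs
  have hconj : a * k * a⁻¹ = k * MulAut.conj (⟨_, hr⟩ : R) := by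
    refine MulEquiv.ext fun y => Subtype.ext ?_
    obtain ⟨x, rfl⟩ := a.surjective y
    rw [MulAut.mul_apply, MulAut.mul_apply, MulAut.inv_apply_self, MulAut.mul_apply, haH, hsk, hsk,
      hH.1.map_conj hsW (hRW x.2)]
    show H s * H x * (H s)⁻¹ = s * (s⁻¹ * H s * (a x : R) * (s⁻¹ * H s)⁻¹) * s⁻¹
    rw [haH]
    group
  set k₁ := α * a⁻¹ with hk₁d
  have hcomm := D.kGrp_comm hR hk₁ hk
  set c := MulAut.conj (⟨_, hr⟩ : R) with hcd
  have e1 : α * k * α⁻¹ * k⁻¹ = k₁ * (a * k * a⁻¹) * k₁⁻¹ * k⁻¹ := by rw [hk₁d]; group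
  have e2 : α * k * α⁻¹ * k⁻¹ = (k * k₁) * c * (k * k₁)⁻¹ := by
    rw [e1, hconj]
    calc k₁ * (k * c) * k₁⁻¹ * k⁻¹ = (k₁ * k) * c * (k * k₁)⁻¹ := by group
      _ = _ := by rw [hcomm]
  rw [e2]
  exact (Cfsg.innNormal R).conj_mem c ⟨⟨_, hr⟩, rfl⟩ _

/-- The kernel is central modulo inner automorphisms. -/
theorem comm_mem_inn (hS : IsPGroup p S) {R : Subgroup Ω} (hc : Cent Q θ E R) {α k : MulAut R}
    (hα : α ∈ atGrp F θ E hc.le) (hk : k ∈ kGrp F Q R) : α * k * α⁻¹ * k⁻¹ ∈ Cfsg.Inn R := by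
  obtain ⟨R₂, f, hR₂, hf, hfR, -⟩ := exists_fullyNormalized_map hS D.sat hc.le
  have hw : IsIso F R R₂ f := ⟨hf.mono (le_normalizerIn hc.le), hfR⟩
  have h := D.comm_mem_inn_of_fullyNormalized hS (D.cent_iso hw hc) hR₂
    (D.congr_mem_atGrp hw hc.1 hc.2.1 hα) (D.congr_mem_kGrp hw hk)
  rw [← map_mul, ← map_inv, ← map_mul, ← map_inv, ← map_mul] at h
  obtain ⟨g, hg, hgf, hfg⟩ := hw.symm
  have h2 := congr_mem_inn hg h
  convert h2 using 1
  refine MulEquiv.ext fun x => Subtype.ext ?_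
  have hx : hg.equiv (hw.equiv x) = x := Subtype.ext (by simp [hgf x x.2])
  conv_rhs => rw [← hx, congr_apply_coe, congr_apply_coe, hgf _ (_ : R).2]

theorem congr_autInducedBy_U_le {R R₂ : Subgroup Ω} {f : Ω → Ω}
    (hf : IsMap F (normalizerIn S R) f) (hw : IsIso F R R₂ f) {β : MulAut R}
    (hβ : β ∈ autInducedBy (preimageAlong θ T') R) :
    MulAut.congr hw.equiv β ∈ autInducedBy (preimageAlong θ T') R₂ := by
  obtain ⟨t, ht, hte⟩ := mem_autInducedBy_iff.1 hβ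
  have htN : t ∈ normalizerIn S R := mem_normalizerIn_of_aut (preimageAlong_le θ T' ht) hte
  refine mem_autInducedBy_iff.2 ⟨f t,
    (stronglyClosed_iff.1 D.stronglyClosed_U).2 _ f hf t htN ht, fun y => ?_⟩
  obtain ⟨x, hx, hxy⟩ := hw.exists_eq y.2
  have hy : hw.equiv ⟨x, hx⟩ = y := Subtype.ext ((hw.equiv_apply _).trans hxy)
  rw [← hy, congr_apply_coe, hte, hw.equiv_apply]
  exact hf.map_conj htN (le_normalizerIn hw.le_left hx)

omit [Finite S] [Fact p.Prime] in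
theorem autInducedBy_U_le_atGrp {R : Subgroup Ω} (hR : R ≤ S) (hc : Cent Q θ E R) :
    autInducedBy (preimageAlong θ T') R ≤ atGrp F θ E hR := by
  intro β hβ
  obtain ⟨t, ht, hte⟩ := mem_autInducedBy_iff.1 hβ
  have hT' := hc.2.2.1
  obtain ⟨htS, htT⟩ := mem_preimageAlong.1 ht
  have hN : thF θ t ∈ Subgroup.normalizer (imageAlong θ R : Set Ω') := by
    refine Subgroup.mem_normalizer_iff.2 fun y => ⟨fun hy => ?_, fun hy => ?_⟩
    · obtain ⟨x, hx, -, rfl⟩ := mem_imageAlong.1 hy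
      rw [← thF_conj θ htS (hR hx)]
      exact thF_mem_image θ hR (hte ⟨x, hx⟩ ▸ (β ⟨x, hx⟩).2)
    · obtain ⟨x, hx, -, hxy⟩ := mem_imageAlong.1 hy
      have h1 := hte (β⁻¹ ⟨x, hx⟩)
      rw [MulAut.apply_inv_self] at h1
      have h2 : thF θ x = thF θ t * thF θ (β⁻¹ ⟨x, hx⟩ : R) * (thF θ t)⁻¹ := by
        exact (congrArg (thF θ) h1).trans (thF_conj θ htS (hR (β⁻¹ ⟨x, hx⟩).2))
      rw [hxy] at h2
      rw [mul_left_cancel (mul_right_cancel h2)]
      exact thF_mem_image θ hR (β⁻¹ ⟨x, hx⟩).2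
  refine ⟨autInducedBy_le_autGroup F (preimageAlong_le θ T') hR hβ,
    normConj T' (imageAlong θ R) ⟨thF θ t, htT, hN⟩,
    autInducedBy_le_autGroup E le_rfl hT' ((range_normConj T' _).le ⟨_, rfl⟩), fun x hx => ?_⟩
  rw [autFn_apply β hx, hte, autFn_apply _ (thF_mem_image θ hR hx), thF_conj θ htS (hR hx)]
  rfl

theorem aGrp_le_atGrp {R : Subgroup Ω} (hc : Cent Q θ E R) :
    aGrp F θ E p hc.le ≤ atGrp F θ E hc.le :=
  sup_le (laGrp_le_atGrp hc.le) (D.autInducedBy_U_le_atGrp hc.le hc)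

/-- `aGrp` meets the kernel in inner automorphisms, at a fully normalised subgroup. -/
theorem aGrp_inf_kGrp_le_inn_of_fullyNormalized (hS : IsPGroup p S) {R : Subgroup Ω} (hc : Cent Q θ E R)
    (hn : F.IsFullyNormalized R) : aGrp F θ E p hc.le ⊓ kGrp F Q R ≤ Cfsg.Inn R := by
  have hR := hn.1
  have := finite_mulAut (S := S) hR
  have := D.data.finite_S'
  have : Finite T' := finite_of_le D.T'_le
  have hS' := D.data.isPGroup_S' hS
  set U := preimageAlong θ T' with hU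
  set G := atGrp F θ E hR with hG
  set A₀ := autInducedBy U R with hA₀
  have hA₀G : A₀ ≤ G := D.autInducedBy_U_le_atGrp hR hc
  have hInnA : Cfsg.Inn R ≤ A₀ := inn_le_autInducedBy hc.2.1
  have hA₀S : A₀ ≤ autInducedBy S R := autInducedBy_le_of_le (preimageAlong_le θ T')
  have hsyl : IsSylowIn p (autInducedBy S R ⊓ G) G := by
    refine (isFullyAutomized_iff.1 (fullyAutomized_of_fullyNormalized hS D.sat hn)).2.inf_normal
      (fun _ h => h.1) fun γ hγ α hα => ?_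
    have h := D.congr_mem_atGrp (isIso_autFn hR hγ) hc.1 hc.2.1 (α := α) hα
    rwa [congr_autFn] at h
  -- strong closure
  have hSC : ∀ γ ∈ F.autGroup R, ∀ β ∈ A₀, γ * β * γ⁻¹ ∈ autInducedBy S R → γ * β * γ⁻¹ ∈ A₀ := by
    intro γ hγ β hβ hβS
    obtain ⟨t, ht, hte⟩ := mem_autInducedBy_iff.1 hβ
    set K := (autInducedBy S R).comap (MulAut.conj γ).toMonoidHom
    obtain ⟨ψ, hψ, hψγ⟩ := exists_extension (receptive_of_fullyNormalized hS D.sat hn) hγ
      (NK_le_normalizerIn S R K) fun y hy => by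
        obtain ⟨y', hy', he⟩ := hy
        obtain rfl : (y' : Ω) = y := he
        exact hy'
    have htN : t ∈ normalizerIn S R := mem_normalizerIn_of_aut (preimageAlong_le θ T' ht) hte
    have htK : t ∈ NK S R K := ⟨⟨t, htN⟩, by
      have e : normConj S R ⟨t, htN⟩ = β := MulEquiv.ext fun x => Subtype.ext (hte x).symm
      show γ * normConj S R ⟨t, htN⟩ * γ⁻¹ ∈ autInducedBy S R
      rw [e]
      exact hβS, rfl⟩
    refine mem_autInducedBy_iff.2 ⟨ψ t, (stronglyClosed_iff.1 D.stronglyClosed_U).2 _ ψ hψ t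
      (Subgroup.mem_sup_right htK) ht, fun y => ?_⟩
    obtain ⟨x, rfl⟩ := γ.surjective y
    rw [MulAut.mul_apply, MulAut.mul_apply, MulAut.inv_apply_self]
    have h1 := hψ.map_conj (Subgroup.mem_sup_right htK) (Subgroup.mem_sup_left x.2)
    rw [← hte, hψγ _ (β x).2, hψγ _ x.2, autFn_apply γ (β x).2, autFn_apply γ x.2] at h1
    exact h1
  -- decomposition of the Sylow subgroup
  have hdec : ∀ x ∈ autInducedBy S R ⊓ G, ∃ b ∈ A₀, b⁻¹ * x ∈ kGrp F Q R := by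
    rintro x ⟨hxS, hxG⟩
    obtain ⟨s, hs, hsx⟩ := mem_autInducedBy_iff.1 hxS
    obtain ⟨hxF, hxE⟩ := id hxG
    set R' := imageAlong θ R
    obtain ⟨x', hx', ex⟩ := hxE
    have hR'n := D.fullyNormalized_image hc.1 hn
    have hEn := fullyNormalized_of_invariant D.invariant hc.2.2.1 hR'n hS' D.satB
    have hsylE := (isFullyAutomized_iff.1
      (fullyAutomized_of_fullyNormalized (hS'.to_le D.T'_le) D.satE hEn)).2
    have hx'S : x' ∈ autInducedBy S' R' := by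
      refine mem_autInducedBy_iff.2 ⟨thF θ s, D.data.thF_mem hs, fun y => ?_⟩
      obtain ⟨z, hz, -, hzy⟩ := mem_imageAlong.1 y.2
      have h1 := ex z hz
      rw [autFn_apply x hz, hsx, thF_conj θ hs (hR hz), hzy, autFn_apply x' y.2] at h1
      exact h1.symm
    have heq := hsylE.2.2 (autInducedBy S' R' ⊓ E.autGroup R')
      (le_inf (autInducedBy_le_of_le D.T'_le) hsylE.le) inf_le_right
      ((isPGroup_autInducedBy hS').to_le inf_le_left)
    obtain ⟨t', ht', ht'e⟩ := mem_autInducedBy_iff.1 (heq.le ⟨hx'S, hx'⟩)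
    obtain ⟨t, ht, rfl⟩ := D.data.exists_eq (D.T'_le ht')
    have htN : t ∈ normalizerIn S R := by
      have : Finite R := finite_of_le hR
      refine mem_normalizerIn_of_conj ht fun z hz => ?_
      rw [← D.pre_image hR hc.1]
      refine mem_preimageAlong.2 ⟨S.mul_mem (S.mul_mem ht (hR hz)) (S.inv_mem ht), ?_⟩
      rw [thF_conj θ ht (hR hz), ← ht'e ⟨_, thF_mem_image θ hR hz⟩]
      exact (x' _).2
    set b := normConj S R ⟨t, htN⟩ with hb
    have hbA : b ∈ A₀ := mem_autInducedBy_iff.2 ⟨t, mem_preimageAlong.2 ⟨ht, ht'⟩, fun z => rfl⟩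
    refine ⟨b, hbA, D.kGrp_of_thF hR (mul_mem (Subgroup.inv_mem _ (hA₀G hbA).1) hxF) fun z hz => ?_⟩
    have hbz : thF θ (autFn b z) = autFn x' (thF θ z) := by
      rw [autFn_apply b hz, autFn_apply x' (thF_mem_image θ hR hz), ht'e]
      exact thF_conj θ ht (hR hz)
    obtain ⟨hbF, b', hb', eb⟩ := id (hA₀G hbA)
    rw [autFn_mul _ _ hz]
    have h1 : thF θ (autFn b (autFn b⁻¹ (autFn x z))) = thF θ (autFn b z) := by
      rw [autFn_self_inv b (autFn_mem x hz), ex z hz, hbz]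
    rw [eb _ (autFn_mem b⁻¹ (autFn_mem x hz)), eb z hz, autFn_apply b' (thF_mem_image θ hR
      (autFn_mem b⁻¹ (autFn_mem x hz))), autFn_apply b' (thF_mem_image θ hR hz)] at h1
    exact congrArg Subtype.val (b'.injective (Subtype.ext h1))
  rintro z ⟨hzA, hzK⟩
  have hzG : z ∈ G := D.aGrp_le_atGrp hc hzA
  have hnormA : ∀ x ∈ autInducedBy S R ⊓ G, ∀ a ∈ A₀, x * a * x⁻¹ ∈ A₀ := fun x hx a ha =>
    hSC x hx.2.1 a ha (mul_mem (mul_mem hx.1 (hA₀S ha)) (inv_mem hx.1))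
  have hz0 : (⟨z, hzG⟩ : G) ∈ A₀.subgroupOf G := by
    refine mem_of_transfer (p := p) ((autInducedBy S R ⊓ G).subgroupOf G) (A₀.subgroupOf G)
      ((isPGroup_subgroupOf inf_le_right).2 hsyl.isPGroup) ?_
      (fun a ha => ⟨hA₀S ha, hA₀G ha⟩) (fun x hx a ha => hnormA _ hx a ha) ?_
      (fun g a ha hP => hSC _ g.2.1 a ha hP.1)
      (show (⟨z, hzG⟩ : G) ∈ _ from ⟨D.kGrp_le_autInducedBy hS hn hzK, hzG⟩)
      (fun g k _ => hInnA ?_) ?_
    · obtain ⟨P₀, hP₀⟩ := (isSylowIn_iff_exists inf_le_right).1 hsyl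
      rw [← hP₀]
      exact ((Fact.out : p.Prime).coprime_iff_not_dvd.2 P₀.not_dvd_index).symm
    · rintro ⟨x, hxG⟩ hx ⟨y, hyG⟩ hy
      obtain ⟨a, ha, hak⟩ := hdec x hx
      obtain ⟨b, hb, hbl⟩ := hdec y hy
      obtain ⟨k, hk, rfl⟩ : ∃ k, k ∈ kGrp F Q R ∧ x = a * k := ⟨_, hak, by group⟩
      obtain ⟨l, hl, rfl⟩ : ∃ l, l ∈ kGrp F Q R ∧ y = b * l := ⟨_, hbl, by group⟩
      have hbP : b ∈ autInducedBy S R ⊓ G := ⟨hA₀S hb, hA₀G hb⟩
      have haP : a ∈ autInducedBy S R ⊓ G := ⟨hA₀S ha, hA₀G ha⟩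
      have hkP : k ∈ autInducedBy S R ⊓ G := by
        have := mul_mem (inv_mem haP) (show a * k ∈ _ from hx)
        rwa [inv_mul_cancel_left] at this
      have hlP : l ∈ autInducedBy S R ⊓ G := by
        have := mul_mem (inv_mem hbP) (show b * l ∈ _ from hy)
        rwa [inv_mul_cancel_left] at this
      show (b * l * (a * k))⁻¹ * (a * k * (b * l)) ∈ A₀
      have hcm : l * k = k * l := D.kGrp_comm hR hl hk
      have h1 : l * a * l⁻¹ ∈ A₀ := hnormA l hlP a ha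
      have h2 : k * b * k⁻¹ ∈ A₀ := hnormA k hkP b hb
      have h3 : (b * (l * a * l⁻¹))⁻¹ * (a * (k * b * k⁻¹)) ∈ A₀ :=
        mul_mem (inv_mem (mul_mem hb h1)) (mul_mem ha h2)
      have h4 := hnormA _ (inv_mem (mul_mem hlP hkP)) _ h3
      rw [inv_inv] at h4
      convert h4 using 1
      calc (b * l * (a * k))⁻¹ * (a * k * (b * l))
          = (l * k)⁻¹ * ((b * (l * a * l⁻¹))⁻¹ * (a * (k * b * k⁻¹))) * (k * l) := by group
        _ = _ := by rw [← hcm]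
    · -- centrality modulo inner automorphisms
      have hg : ((g⁻¹ : G) : MulAut R) ∈ atGrp F θ E hc.le := (g⁻¹).2
      have hzk : z ^ k ∈ kGrp F Q R := pow_mem hzK k
      have h := D.comm_mem_inn hS hc hg hzk
      have h' := (Cfsg.innNormal R).conj_mem _ h (z ^ k)⁻¹
      show (z ^ k)⁻¹ * ((g : MulAut R)⁻¹ * z ^ k * (g : MulAut R)) ∈ Cfsg.Inn R
      simpa [mul_assoc] using h'
    · have hle : aGrp F θ E p hc.le ≤
          (Subgroup.closure {g : G | (orderOf g).Coprime p} ⊔ A₀.subgroupOf G).map G.subtype := by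
        rw [Subgroup.map_sup, Subgroup.map_subgroupOf_eq_of_le hA₀G]
        refine sup_le ((Subgroup.closure_le _).2 fun α hα => Subgroup.mem_sup_left ?_) le_sup_right
        exact ⟨⟨α, hα.1⟩, Subgroup.subset_closure (show (orderOf (⟨α, hα.1⟩ : G)).Coprime p by
          rw [Subgroup.orderOf_mk]; exact hα.2), rfl⟩
      obtain ⟨z', hz', hzz⟩ := hle hzA
      rwa [show (⟨z, hzG⟩ : G) = z' from Subtype.ext hzz.symm]
  -- an element of `Aut_U(R)` trivial modulo `Q` is inner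
  obtain ⟨t, ht, hte⟩ := mem_autInducedBy_iff.1 (show z ∈ A₀ from hz0)
  obtain ⟨htS, htT⟩ := mem_preimageAlong.1 ht
  have hθt : thF θ t ∈ imageAlong θ R := by
    refine hc.2.2.2 _ (isConj_refl E hc.2.2.1) (mem_centralizerIn_of_conj htT fun y hy => ?_)
    obtain ⟨x, hx, -, rfl⟩ := mem_imageAlong.1 hy
    rw [← thF_conj θ htS (hR hx), ← hte ⟨x, hx⟩, ← autFn_apply z hx, D.kGrp_thF hR hzK hx]
  have htR : t ∈ R := D.pre_image hR hc.1 ▸ mem_preimageAlong.2 ⟨htS, hθt⟩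
  exact ⟨⟨t, htR⟩, MulEquiv.ext fun x => Subtype.ext (hte x).symm⟩

/-- `aGrp` meets the kernel in inner automorphisms. -/
theorem aGrp_inf_kGrp_le_inn (hS : IsPGroup p S) {R : Subgroup Ω} (hc : Cent Q θ E R) :
    aGrp F θ E p hc.le ⊓ kGrp F Q R ≤ Cfsg.Inn R := by
  rintro z ⟨hzA, hzK⟩
  obtain ⟨R₂, f, hR₂, hf, hfR, -⟩ := exists_fullyNormalized_map hS D.sat hc.le
  have hw : IsIso F R R₂ f := ⟨hf.mono (le_normalizerIn hc.le), hfR⟩
  have hc₂ := D.cent_iso hw hc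
  have hA : MulAut.congr hw.equiv z ∈ aGrp F θ E p hc₂.le := by
    have hle : (aGrp F θ E p hc.le).map (MulAut.congr hw.equiv).toMonoidHom ≤ aGrp F θ E p hc₂.le := by
      rw [aGrp, Subgroup.map_sup]
      refine sup_le (fun a ⟨b, hb, e⟩ => e ▸ Subgroup.mem_sup_left ?_)
        fun a ⟨b, hb, e⟩ => e ▸ Subgroup.mem_sup_right (D.congr_autInducedBy_U_le hf hw hb)
      exact D.congr_mem_laGrp hw hc.1 hc.2.1 hb
    exact hle ⟨z, hzA, rfl⟩
  have h := D.aGrp_inf_kGrp_le_inn_of_fullyNormalized hS hc₂ hR₂ ⟨hA, D.congr_mem_kGrp hw hzK⟩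
  obtain ⟨g, hg, hgf, -⟩ := hw.symm
  have h2 := congr_mem_inn hg h
  convert h2 using 1
  refine MulEquiv.ext fun x => Subtype.ext ?_
  have hx : hg.equiv (hw.equiv x) = x := Subtype.ext (by simp [hgf x x.2])
  conv_rhs => rw [← hx, congr_apply_coe, congr_apply_coe, hgf _ (_ : R).2]

end LiftData

end Cfsg.Agent.FusionProduct
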