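import Cfsg.Agent.Lib.FusionProduct.LiftKernel
import Cfsg.Agent.Lib.Fusion.KSystem

/-
Lifting a normal subsystem of a factor system by a central subgroup, part 3: a generated map on a centric
subgroup that is trivial modulo `Q` is inner.
Main results (namespace `Cfsg.Agent.FusionProduct`): `LiftData.rigid`, `LiftData.rigid_unique`.
-/

set_option autoImplicit false

open scoped Pointwise

namespace Cfsg.Agent.FusionProduct

open Cfsg Cfsg.FusionSystem Cfsg.Agent.Fusion Cfsg.Agent.FusionChain Cfsg.Agent.FusionCrit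

variable {Ω : Type*} [Group Ω] {S : Subgroup Ω} {Ω' : Type*} [Group Ω'] {S' T' : Subgroup Ω'}
  {F : FusionSystem S} {Q : Subgroup Ω} {θ : S →* Ω'} {E : FusionSystem T'} {p : ℕ}
  {B : FusionSystem S'}

variable (F Q θ E p) in
/-- Generated maps on `M` trivial modulo `Q` are conjugations by elements of `M`. -/
def Rigid (M : Subgroup Ω) : Prop :=
  ∀ f : Ω → Ω, LGen F Q θ E p M f → (∀ x ∈ M, thF θ (f x) = thF θ x) →
    ∃ m ∈ M, ∀ x ∈ M, f x = m * x * m⁻¹

theorem normalizerIn_U_le (R : Subgroup Ω) :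
    normalizerIn (preimageAlong θ T') R ≤ normalizerIn S R := fun _ hg =>
  ⟨preimageAlong_le θ T' hg.1, hg.2⟩

namespace LiftData

variable (D : LiftData F Q θ B E p)
include D

omit D in
theorem pre_mono {P' P₁ : Subgroup Ω'} (h : P' ≤ P₁) :
    preimageAlong θ P' ≤ preimageAlong θ P₁ := fun _ hx =>
  mem_preimageAlong.2 ⟨(mem_preimageAlong.1 hx).1, h (mem_preimageAlong.1 hx).2⟩

theorem pre_sup {P' R' : Subgroup Ω'} (hP : P' ≤ S') (hR : R' ≤ S') :
    preimageAlong θ (P' ⊔ R') = preimageAlong θ P' ⊔ preimageAlong θ R' := by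
  refine le_antisymm (fun x hx => ?_) (sup_le (pre_mono le_sup_left) (pre_mono le_sup_right))
  obtain ⟨hxS, hx'⟩ := mem_preimageAlong.1 hx
  set W := preimageAlong θ P' ⊔ preimageAlong θ R'
  have hWS : W ≤ S := sup_le (preimageAlong_le θ _) (preimageAlong_le θ _)
  have hle : P' ⊔ R' ≤ imageAlong θ W := by
    refine sup_le (fun y hy => ?_) fun y hy => ?_
    · obtain ⟨z, hz, rfl⟩ := D.data.exists_eq (hP hy)
      exact thF_mem_image θ hWS (Subgroup.mem_sup_left (mem_preimageAlong.2 ⟨hz, hy⟩))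
    · obtain ⟨z, hz, rfl⟩ := D.data.exists_eq (hR hy)
      exact thF_mem_image θ hWS (Subgroup.mem_sup_right (mem_preimageAlong.2 ⟨hz, hy⟩))
  have h := mem_preimageAlong.2 ⟨hxS, hle hx'⟩
  rwa [D.pre_image hWS ((D.data.le_preimage P').trans le_sup_left)] at h

variable [Finite S]

/-- The normaliser in `U` is the preimage of the normaliser in `T'`. -/
theorem pre_normalizer {R : Subgroup Ω} (hR : R ≤ preimageAlong θ T') (hQ : Q ≤ R) :
    preimageAlong θ (normalizerIn T' (imageAlong θ R)) = normalizerIn (preimageAlong θ T') R := by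
  have hRS : R ≤ S := hR.trans (preimageAlong_le θ T')
  have h : preimageAlong θ (normalizerIn S' (imageAlong θ R)) = normalizerIn S R := by
    rw [D.data.preimage_normalizer ((image_le_T' hR).trans D.T'_le), D.pre_image hRS hQ]
  refine le_antisymm (fun g hg => ?_) fun g hg => ?_
  · obtain ⟨hgS, hg'⟩ := mem_preimageAlong.1 hg
    have h1 : g ∈ normalizerIn S R := h ▸ mem_preimageAlong.2 ⟨hgS, D.T'_le hg'.1, hg'.2⟩
    exact ⟨mem_preimageAlong.2 ⟨hgS, hg'.1⟩, h1.2⟩
  · have h1 := h.symm ▸ normalizerIn_U_le R hg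
    obtain ⟨hgS, hg'⟩ := mem_preimageAlong.1 h1
    exact mem_preimageAlong.2 ⟨hgS, (mem_preimageAlong.1 hg.1).2, hg'.2⟩

/-- A generated map on a subgroup over `Q` induces an isomorphism of `E`. -/
theorem lgen_iso_image {R : Subgroup Ω} {f : Ω → Ω} (hf : LGen F Q θ E p R f) (hQ : Q ≤ R) :
    Q ≤ img f R ∧ ∃ f', IsIso E (imageAlong θ R) (imageAlong θ (img f R)) f' ∧
      ∀ x ∈ R, f' (thF θ x) = thF θ (f x) := by
  obtain ⟨hQ', w', hw', ew⟩ := D.map_image hf.isMap.isIso hQ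
  obtain ⟨f', hf', ef⟩ := D.lgen_induced hf
  refine ⟨hQ', f', ⟨hf', ?_⟩, ef⟩
  rw [← hw'.2]
  refine img_congr fun y hy => ?_
  obtain ⟨x, hx, -, rfl⟩ := mem_imageAlong.1 hy
  rw [ef x hx, ew x hx]

/-- Two generated maps with the same reduction modulo `Q` differ by an inner automorphism, granting
rigidity. -/
theorem rigid_unique {M : Subgroup Ω} (hQ : Q ≤ M) (hr : Rigid F Q θ E p M) {f g : Ω → Ω}
    (hf : LGen F Q θ E p M f) (hg : LGen F Q θ E p M g)
    (e : ∀ x ∈ M, thF θ (f x) = thF θ (g x)) :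
    ∃ m ∈ M, ∀ x ∈ M, g x = f (m * x * m⁻¹) := by
  obtain ⟨i, hi, hif, hiM, hfi⟩ := hf.exists_inv
  have hQi : Q ≤ img f M := (D.lgen_iso_image hf hQ).1
  have hgi : ∀ x ∈ M, g x ∈ img f M := fun x hx => by
    have h := hQi ((D.data.thF_eq_iff (hf.isMap.mem hx) (hg.isMap.mem hx)).1 (e x hx))
    simpa using mul_mem (hf.isMap.mem_img hx) h
  obtain ⟨m, hm, hme⟩ := hr (fun x => i (g x)) (hg.comp_of_le hi hgi) fun x hx => by
    show thF θ (i (g x)) = thF θ x
    rw [D.data.map_congr hi.isMap (hgi x hx) (hf.isMap.mem_img hx) (e x hx).symm, hif x hx]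
  exact ⟨m, hm, fun x hx => by rw [← hme x hx, hfi _ (hgi x hx)]⟩

variable [Fact p.Prime]

/-- A generated map on a subgroup between `R₀` and its normaliser, stabilising `R₀`, acts on it as an
element of `aGrp`; granting rigidity above `R₀`. -/
theorem core_step (hS : IsPGroup p S) {R₀ : Subgroup Ω} (hc : Cent Q θ E R₀)
    (hn : E.IsFullyNormalized (imageAlong θ R₀))
    (hrig : ∀ M, Cent Q θ E M → R₀ < M → Rigid F Q θ E p M) {M₀ : Subgroup Ω} (hlt : R₀ < M₀)
    (hM₀ : M₀ ≤ normalizerIn (preimageAlong θ T') R₀) {g : Ω → Ω} (hg : LGen F Q θ E p M₀ g)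
    (hgR : ∀ x ∈ R₀, g x ∈ R₀) :
    ∃ β ∈ aGrp F θ E p hc.le, ∀ x ∈ R₀, g x = autFn β x := by
  have := D.data.finite_S'
  have hfinT : Finite T' := finite_of_le D.T'_le
  have hT' : IsPGroup p T' := (D.data.isPGroup_S' hS).to_le D.T'_le
  have hR₀S := hc.le
  have := finite_of_le hR₀S
  set R' := imageAlong θ R₀ with hR'def
  have hR' : R' ≤ T' := hc.2.2.1
  have hR'S : R' ≤ S' := hR'.trans D.T'_le
  have := finite_of_le (S := T') hR'
  have hpreR : preimageAlong θ R' = R₀ := D.pre_image hR₀S hc.1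
  set N' := NK T' R' ⊤ with hN'
  have hN'top : N' = normalizerIn T' R' := NK_top T' R'
  have hN'T : N' ≤ T' := NK_le T' R' ⊤
  have hN'S : N' ≤ S' := hN'T.trans D.T'_le
  have := finite_of_le (S := T') hN'T
  set K := kSys E R' ⊤ hR' with hK
  have hKs : K.IsSaturated p := isSaturated_kSys hT' D.satE (isFullyK_top_iff.2 hn)
  have hR'N : R' ≤ N' := hN'top ▸ le_normalizerIn hR'
  have hkey : ∀ {P : Subgroup Ω'} {f : Ω' → Ω'}, IsMap K P f →
      ∃ f', IsMap E (P ⊔ R') f' ∧ (∀ y ∈ P, f' y = f y) ∧ OnK (⊤ : Subgroup (MulAut R')) f' :=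
    fun hf => (isMap_kSys.1 hf).2.2
  have hKn : K.IsNormal R' := by
    refine FusionChain.isNormal_iff.2 ⟨hR'N, fun P f hf => ?_⟩
    obtain ⟨hPN, hfN, f', hf', e, hON⟩ := isMap_kSys.1 hf
    have hle : P ⊔ R' ⊔ R' ≤ P ⊔ R' := sup_le le_rfl le_sup_right
    refine ⟨f', isMap_kSys.2 ⟨sup_le hPN hR'N, fun y hy => ?_, f', hf'.mono hle, fun y _ => rfl, hON⟩,
      e, fun q hq => hON.mem hq⟩
    exact hf'.forall_mem_sup le_sup_left le_sup_right (fun z hz => e z hz ▸ hfN z hz)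
      (fun z hz => hR'N (hON.mem hz)) hy
  have hR₀pre : ∀ P' : Subgroup Ω', R₀ ≤ preimageAlong θ (P' ⊔ R') := fun P' =>
    hpreR ▸ pre_mono le_sup_right
  -- the statement carried through Alperin's theorem
  let Φ : Subgroup Ω' → (Ω' → Ω') → Prop := fun P' f' =>
    ∃ g, LGen F Q θ E p (preimageAlong θ (P' ⊔ R')) g ∧
      (∀ x ∈ preimageAlong θ P', f' (thF θ x) = thF θ (g x)) ∧
      ∃ β ∈ aGrp F θ E p hc.le, ∀ x ∈ R₀, g x = autFn β x
  have hΦ : ∀ {P' : Subgroup Ω'} {f' : Ω' → Ω'}, IsMap K P' f' → Φ P' f' := by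
    intro P' f' hf'
    refine alperin ((D.data.isPGroup_S' hS).to_le hN'S) hKs Φ ?_ ?_ ?_ ?_ hf'
    · rintro P f₁ f₂ - ⟨k, hk, e, hβ⟩ he
      exact ⟨k, hk, fun x hx => (he _ (mem_preimageAlong.1 hx).2).symm.trans (e x hx), hβ⟩
    · rintro P P₁ f₁ - hle ⟨k, hk, e, hβ⟩
      exact ⟨k, hk.mono _ (pre_mono (sup_le_sup_right hle R')),
        fun x hx => e x (pre_mono hle hx), hβ⟩
    · rintro P P₁ f₁ f₂ hf₁ hf₂ hfP ⟨k, hk, e, β, hβ, eβ⟩ ⟨l, hl, e', γ, hγ, eγ⟩
      have hP : P ≤ S' := hf₁.le.trans hN'S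
      have hP₁ : P₁ ≤ S' := hf₂.le.trans hN'S
      have hmem : ∀ x ∈ preimageAlong θ (P ⊔ R'), k x ∈ preimageAlong θ (P₁ ⊔ R') := by
        intro x hx
        rw [D.pre_sup hP hR'S] at hx
        rw [D.pre_sup hP₁ hR'S, hpreR]
        refine hk.isMap.forall_mem_sup (P := preimageAlong θ P) (Q := preimageAlong θ R')
          (pre_mono le_sup_left) (pre_mono le_sup_right) (fun y hy => Subgroup.mem_sup_left ?_)
          (fun y hy => Subgroup.mem_sup_right ?_) hx
        · exact mem_preimageAlong.2 ⟨hk.isMap.mem (pre_mono le_sup_left hy),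
            e y hy ▸ hfP _ (mem_preimageAlong.1 hy).2⟩
        · rw [hpreR] at hy
          rw [eβ y hy]
          exact autFn_mem β hy
      refine ⟨fun x => l (k x), hk.comp_of_le hl hmem, fun x hx => ?_, γ * β, mul_mem hγ hβ,
        fun x hx => ?_⟩
      · have hk1 : k x ∈ preimageAlong θ P₁ := mem_preimageAlong.2
          ⟨hk.isMap.mem (pre_mono le_sup_left hx), e x hx ▸ hfP _ (mem_preimageAlong.1 hx).2⟩
        show f₂ (f₁ (thF θ x)) = _
        rw [e x hx, e' _ hk1]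
      · show l (k x) = _
        rw [eβ x hx, eγ _ (autFn_mem β hx), autFn_mul γ β hx]
    · intro M' hMn hMc hMr α hα
      have hR'M : R' ≤ M' := le_radical_of_normal ((D.data.isPGroup_S' hS).to_le hN'S) hKn hMc hMr
      have hM'T : M' ≤ T' := hMn.1.trans hN'T
      have hM'S : M' ≤ S' := hMn.1.trans hN'S
      have := finite_mulAut (S := N') hMn.1
      set M := preimageAlong θ M' with hMdef
      have hMS : M ≤ S := preimageAlong_le θ M'
      have himg : imageAlong θ M = M' := D.data.image_preimage hM'S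
      have hRM : R₀ ≤ M := hpreR ▸ pre_mono hR'M
      have hMU : M ≤ preimageAlong θ T' := pre_mono hM'T
      have hMC : Cent Q θ E M :=
        ⟨D.data.le_preimage M', hMU, himg.symm ▸ FusionCrit.isCentric_of_le hc.2.2 hR'M hM'T⟩
      let H : Subgroup (MulAut M') :=
        { carrier := {α' | ∃ a : stab M R₀, (a : MulAut M) ∈ genAut F Q θ E p hMU ∧
            restr hRM a ∈ aGrp F θ E p hc.le ∧
            ∀ x ∈ M, thF θ (autFn (a : MulAut M) x) = autFn α' (thF θ x)}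
          one_mem' := ⟨1, one_mem _, by rw [map_one]; exact one_mem _, fun x hx => by
            rw [Subgroup.coe_one, autFn_apply _ hx, autFn_apply _ (mem_preimageAlong.1 hx).2]; rfl⟩
          mul_mem' := by
            rintro u v ⟨a, ha, ha', ea⟩ ⟨b, hb, hb', eb⟩
            refine ⟨a * b, mul_mem ha hb, by rw [map_mul]; exact mul_mem ha' hb', fun x hx => ?_⟩
            rw [Subgroup.coe_mul, autFn_mul _ _ hx, ea _ (autFn_mem _ hx), eb x hx,
              autFn_mul _ _ (mem_preimageAlong.1 hx).2]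
          inv_mem' := by
            rintro u ⟨a, ha, ha', ea⟩
            refine ⟨a⁻¹, inv_mem ha, by rw [map_inv]; exact inv_mem ha', fun x hx => ?_⟩
            rw [Subgroup.coe_inv]
            have h := ea _ (autFn_mem (a : MulAut M)⁻¹ hx)
            rw [autFn_self_inv _ hx] at h
            rw [h, autFn_inv_self u (mem_preimageAlong.1 (autFn_mem _ hx)).2] }
      have hαH : α ∈ H := by
        refine FusionNormal.autGroup_le_of_sylow_pResidual (isFullyAutomized_iff.1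
          (fullyAutomized_of_fullyNormalized ((D.data.isPGroup_S' hS).to_le hN'S) hKs hMn)).2 ?_ ?_ hα
        · intro β hβ
          obtain ⟨t', ht', te⟩ := mem_autInducedBy_iff.1 hβ
          obtain ⟨t, ht, rfl⟩ := D.data.exists_eq (hN'S ht')
          have htU : t ∈ preimageAlong θ T' := mem_preimageAlong.2 ⟨ht, hN'T ht'⟩
          have hNM : thF θ t ∈ normalizerIn T' M' := Fusion.mem_normalizerIn_of_aut (hN'T ht') te
          have htM : t ∈ normalizerIn S M := D.data.preimage_normalizer hM'S ▸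
            mem_preimageAlong.2 ⟨ht, D.T'_le hNM.1, hNM.2⟩
          have htR : t ∈ normalizerIn (preimageAlong θ T') R₀ :=
            D.pre_normalizer hc.2.1 hc.1 ▸ mem_preimageAlong.2 ⟨ht, hN'top ▸ ht'⟩
          have hst : normConj S M ⟨t, htM⟩ ∈ stab M R₀ := fun x => by
            show t * x * t⁻¹ ∈ R₀ ↔ _
            exact ((Subgroup.mem_normalizer_iff.1 htR.2) x).symm
          refine ⟨⟨_, hst⟩, (LGen.conj hMU htU).congr fun x hx =>
            (autFn_apply (normConj S M ⟨t, htM⟩) hx).symm, Subgroup.mem_sup_right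
              (mem_autInducedBy_iff.2 ⟨t, htU, fun x => rfl⟩), fun x hx => ?_⟩
          rw [autFn_apply _ hx, autFn_apply _ (mem_preimageAlong.1 hx).2, te]
          exact thF_conj θ ht (hMS hx)
        · intro β hβ hβp
          obtain ⟨f₁, hf₁, ef₁, hON⟩ := hkey ((mem_autGroup_iff hMn.1).1 hβ)
          rw [sup_eq_left.2 hR'M] at hf₁
          have hβE : β ∈ E.autGroup M' := (mem_autGroup_iff hM'T).2 (hf₁.congr ef₁)
          obtain ⟨a, ha, hae, hap⟩ := D.exists_lift_aut_of_eq hMS hMC.1 hMU himg hβE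
          have hap := hap hβp
          have hmemR : ∀ x ∈ M, (x ∈ R₀ ↔ thF θ x ∈ R') := fun x hx =>
            ⟨fun h => thF_mem_image θ hR₀S h,
              fun h => hpreR ▸ mem_preimageAlong.2 ⟨hMS hx, h⟩⟩
          have hst : a ∈ stab M R₀ := fun x => by
            rw [← autFn_apply a x.2, hmemR _ (autFn_mem a x.2), hmemR _ x.2, hae x x.2,
              ← ef₁ _ (mem_preimageAlong.1 x.2).2]
            refine ⟨fun h => ?_, fun h => hON.mem h⟩
            obtain ⟨y, hy, hye⟩ := hON.exists_eq h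
            rwa [← hf₁.inj (hR'M hy) (mem_preimageAlong.1 x.2).2 hye]
          refine ⟨⟨a, hst⟩, LGen.aut hMS hMC (Subgroup.subset_closure ⟨ha, hap⟩) le_rfl, ?_, hae⟩
          refine Subgroup.mem_sup_left (Subgroup.subset_closure ⟨?_, ?_⟩)
          · have hiso : IsIso E R' R' f₁ := ⟨hf₁.mono hR'M, IsIso.img_eq_of hf₁ hR'M
              (fun y hy => hON.mem hy) fun y hy => hON.exists_eq hy⟩
            obtain ⟨β₀, hβ₀, hβ₀e⟩ := exists_aut_of_isIso hiso
            have hres : ∀ x ∈ R₀, autFn (restr hRM ⟨a, hst⟩) x = autFn a x := fun x hx => by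
              rw [autFn_apply _ hx, autFn_apply a (hRM hx)]
              rfl
            refine ⟨(mem_autGroup_iff hR₀S).2
              ((((mem_autGroup_iff hMS).1 ha.1).mono hRM).congr fun x hx => (hres x hx).symm),
              β₀, hβ₀, fun x hx => ?_⟩
            rw [hres x hx, hae x (hRM hx), autFn_apply β₀ (thF_mem_image θ hR₀S hx), hβ₀e,
              ef₁ _ (hR'M (thF_mem_image θ hR₀S hx))]
          · refine Nat.Coprime.coprime_dvd_left (orderOf_map_dvd (restr hRM) (⟨a, hst⟩ : stab M R₀)) ?_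
            rwa [Subgroup.orderOf_mk]
      obtain ⟨a, ha, ha', ea⟩ := hαH
      refine ⟨autFn (a : MulAut M), ?_, fun x hx => (ea x hx).symm, restr hRM a, ha', fun x hx => ?_⟩
      · rw [sup_eq_left.2 hR'M]
        exact ha
      · rw [autFn_apply _ (hRM hx), autFn_apply _ hx]
        rfl
  -- apply to the image of `g`
  have hM₀U : M₀ ≤ preimageAlong θ T' := fun x hx => (hM₀ hx).1
  have hM₀S : M₀ ≤ S := hg.isMap.le
  have hQM : Q ≤ M₀ := hc.1.trans hlt.le
  obtain ⟨g', hg', eg⟩ := D.lgen_induced hg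
  have hR'M : R' ≤ imageAlong θ M₀ := Subgroup.map_mono fun _ hx => hlt.le hx
  have hM'N : imageAlong θ M₀ ≤ N' := fun y hy => by
    obtain ⟨x, hx, -, rfl⟩ := mem_imageAlong.1 hy
    have h := D.pre_normalizer hc.2.1 hc.1 ▸ hM₀ hx
    exact hN'top ▸ (mem_preimageAlong.1 h).2
  have hg'R : ∀ y ∈ R', g' y ∈ R' := fun y hy => by
    obtain ⟨x, hx, -, rfl⟩ := mem_imageAlong.1 hy
    rw [eg x (hlt.le hx)]
    exact thF_mem_image θ hR₀S (hgR x hx)
  have himg' : img g' R' = R' :=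
    eq_of_le_of_card hR' (hg'.img_le hR'M hg'R) (hg'.card_img hR'M).ge
  obtain ⟨β₀, -, hβ₀⟩ := exists_aut_of_isIso (⟨hg'.mono hR'M, himg'⟩ : IsIso E R' R' g')
  have hKg : IsMap K (imageAlong θ M₀) g' := isMap_kSys.2 ⟨hM'N, fun y hy => (NK_top T' R').symm.le
    (map_normalizerIn hg' hR'M himg' hy ((NK_top T' R').le (hM'N hy))),
    g', by rwa [sup_eq_left.2 hR'M], fun _ _ => rfl, β₀, trivial, hβ₀⟩
  obtain ⟨k, hk, ek, β, hβ, eβ⟩ := hΦ hKg
  rw [sup_eq_left.2 hR'M, D.pre_image hM₀S hQM] at hk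
  have hM₀C : Cent Q θ E M₀ :=
    ⟨hQM, hM₀U, FusionCrit.isCentric_of_le hc.2.2 hR'M (image_le_T' hM₀U)⟩
  obtain ⟨m, hm, hme⟩ := D.rigid_unique hQM (hrig M₀ hM₀C hlt) hk hg fun x hx => by
    rw [← ek x (by rw [D.pre_image hM₀S hQM]; exact hx), eg x hx]
  have hmN : m ∈ normalizerIn S R₀ := normalizerIn_U_le R₀ (hM₀ hm)
  refine ⟨β * normConj S R₀ ⟨m, hmN⟩, mul_mem hβ (Subgroup.mem_sup_right
    (mem_autInducedBy_iff.2 ⟨m, (hM₀ hm).1, fun x => rfl⟩)), fun x hx => ?_⟩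
  have hmx := normalizerIn_conj hmN hx
  rw [hme x (hlt.le hx), eβ _ hmx, autFn_mul _ _ hx, autFn_apply (normConj S R₀ ⟨m, hmN⟩) hx]
  rfl

/-- A lift of a map carrying the normaliser of a subgroup into that of a fully normalised conjugate. -/
theorem exists_normalizer_lift (hS : IsPGroup p S) {R₀ R : Subgroup Ω} (hR₀Q : Q ≤ R₀)
    (hR₀S : R₀ ≤ S) (hn : E.IsFullyNormalized (imageAlong θ R₀)) (hR : Cent Q θ E R)
    (hconj : E.IsConj (imageAlong θ R) (imageAlong θ R₀)) :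
    ∃ u, LGen F Q θ E p (normalizerIn (preimageAlong θ T') R) u ∧ img u R = R₀ := by
  have := D.data.finite_S'
  have hfinT : Finite T' := finite_of_le D.T'_le
  have hT' : IsPGroup p T' := (D.data.isPGroup_S' hS).to_le D.T'_le
  obtain ⟨e, he, heR, -⟩ := exists_normalizer_map hT'
    (fullyAutomized_of_fullyNormalized hT' D.satE hn) (receptive_of_fullyNormalized hT' D.satE hn)
    hconj
  obtain ⟨u, hu, hue⟩ := D.exists_lgen_lift hS he
  rw [D.pre_normalizer hR.2.1 hR.1] at hu hue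
  have hle : R ≤ normalizerIn (preimageAlong θ T') R := le_normalizerIn hR.2.1
  obtain ⟨hQ', f', hf', ef⟩ := D.lgen_iso_image (hu.mono R hle) hR.1
  refine ⟨u, hu, ?_⟩
  have h1 : imageAlong θ (img u R) = imageAlong θ R₀ := by
    rw [← hf'.2, ← heR]
    refine img_congr fun y hy => ?_
    obtain ⟨x, hx, -, rfl⟩ := mem_imageAlong.1 hy
    rw [ef x hx, hue x (hle hx)]
  rw [← D.pre_image (hu.mono R hle).isMap.img_le_S hQ', h1, D.pre_image hR₀S hR₀Q]

/-- Generated maps between members of the class of `R₀`, normalised by the chosen lifts, lie in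
`aGrp`; granting rigidity above `R₀`. -/
theorem adm_step (hS : IsPGroup p S) {R₀ : Subgroup Ω} (hc : Cent Q θ E R₀)
    (hn : E.IsFullyNormalized (imageAlong θ R₀))
    (hrig : ∀ M, Cent Q θ E M → Nat.card R₀ < Nat.card M → Rigid F Q θ E p M)
    {R' M : Subgroup Ω} (hlt : R' < M) (hM : M ≤ normalizerIn (preimageAlong θ T') R')
    {h : Ω → Ω} (hh : LGen F Q θ E p M h) {u' u'' : Ω → Ω}
    (hu' : LGen F Q θ E p (normalizerIn (preimageAlong θ T') R') u') (hu'R : img u' R' = R₀)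
    (hu'' : LGen F Q θ E p (normalizerIn (preimageAlong θ T') (img h R')) u'')
    (hu''R : img u'' (img h R') = R₀) :
    ∃ β ∈ aGrp F θ E p hc.le, ∀ x ∈ R', u'' (h x) = autFn β (u' x) := by
  set U := preimageAlong θ T'
  have hMu : IsMap F M u' := hu'.isMap.mono hM
  set M₀ := img u' M with hM₀def
  obtain ⟨i, hi, hiu, hiM, hui⟩ := (hu'.mono M hM).exists_inv
  have hM₀ : M₀ ≤ normalizerIn U R₀ := hMu.img_le le_rfl fun x hx =>
    ⟨hu'.mem x (hM hx), (map_normalizerIn hu'.isMap (hlt.le.trans hM) hu'R (hM hx)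
      (normalizerIn_U_le R' (hM hx))).2⟩
  have hR₀M : R₀ ≤ M₀ := hu'R ▸ hMu.img_le hlt.le fun x hx => hMu.mem_img (hlt.le hx)
  have hRcard : Nat.card R₀ = Nat.card R' := hu'R ▸ hMu.card_img hlt.le
  have hMS : M ≤ S := hh.isMap.le
  have := finite_of_le hMS
  have hlt0 : R₀ < M₀ := lt_of_le_of_ne hR₀M fun e => by
    have h1 : Nat.card M₀ = Nat.card M := hMu.card_img le_rfl
    have h2 := card_lt hMS hlt
    rw [← e, hRcard] at h1
    omega
  have hhN : ∀ x ∈ M, h x ∈ normalizerIn U (img h R') := fun x hx =>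
    ⟨hh.mem x hx, (map_normalizerIn hh.isMap hlt.le rfl hx (normalizerIn_U_le R' (hM hx))).2⟩
  have hg : LGen F Q θ E p M₀ (fun y => u'' (h (i y))) :=
    (hi.comp_of_le hh hiM).comp_of_le hu'' fun y hy => hhN _ (hiM y hy)
  have hgR : ∀ y ∈ R₀, u'' (h (i y)) ∈ R₀ := by
    intro y hy
    rw [← hu'R] at hy
    obtain ⟨x, hx, rfl⟩ := (hMu.mem_img_iff hlt.le).1 hy
    rw [hiu x (hlt.le hx), ← hu''R]
    exact hu''.isMap.mem_img (hh.isMap.mem_img hx)
  obtain ⟨β, hβ, hβe⟩ := D.core_step hS hc hn (fun N hN hRN => hrig N hN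
    (card_lt (hN.le) hRN)) hlt0 hM₀ hg hgR
  refine ⟨β, hβ, fun x hx => ?_⟩
  have := hβe (u' x) (hu'R ▸ hMu.mem_img hx)
  rwa [hiu x (hlt.le hx)] at this

/-- The class form of the classification of generated maps. -/
theorem adm (hS : IsPGroup p S) {R₀ : Subgroup Ω} (hc : Cent Q θ E R₀) (hlt₀ : R₀ < preimageAlong θ T')
    (hn : E.IsFullyNormalized (imageAlong θ R₀))
    (hrig : ∀ M, Cent Q θ E M → Nat.card R₀ < Nat.card M → Rigid F Q θ E p M)
    {P : Subgroup Ω} {f : Ω → Ω} (hf : LGen F Q θ E p P f) :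
    ∀ R', Cent Q θ E R' → E.IsConj (imageAlong θ R') (imageAlong θ R₀) → R' ≤ P →
      ∀ u' u'', LGen F Q θ E p (normalizerIn (preimageAlong θ T') R') u' → img u' R' = R₀ →
        LGen F Q θ E p (normalizerIn (preimageAlong θ T') (img f R')) u'' → img u'' (img f R') = R₀ →
        ∃ β ∈ aGrp F θ E p hc.le, ∀ x ∈ R', u'' (f x) = autFn β (u' x) := by
  have hUS : preimageAlong θ T' ≤ S := preimageAlong_le θ T'
  have hUp : IsPGroup p (preimageAlong θ T') := hS.to_le hUS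
  have := finite_of_le hUS
  have hltN : ∀ R', Cent Q θ E R' → ∀ u', LGen F Q θ E p (normalizerIn (preimageAlong θ T') R') u' →
      img u' R' = R₀ → R' < normalizerIn (preimageAlong θ T') R' := by
    intro R' hR' u' hu' hu'R
    refine lt_normalizerIn hUp le_rfl (lt_of_le_of_ne hR'.2.1 fun e => ?_)
    have h1 := hu'.isMap.card_img (le_normalizerIn hR'.2.1 : R' ≤ normalizerIn (preimageAlong θ T') R')
    rw [hu'R] at h1
    have h2 := card_lt hUS hlt₀
    rw [e] at h1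
    omega
  induction hf with
  | @aut R₁ P α hR₁ hc₁ hα hP =>
    intro R' hR' hconj hR'P u' u'' hu' hu'R hu'' hu''R
    have hR'R₁ : R' ≤ R₁ := hR'P.trans hP
    rcases eq_or_lt_of_le hR'R₁ with rfl | hlt
    · have himg : img (autFn α) R' = R' :=
        (isIso_autFn hR₁ (laGrp_le_atGrp hR₁ hα).1).2
      rw [himg] at hu'' hu''R
      have hle : R' ≤ normalizerIn (preimageAlong θ T') R' := le_normalizerIn hR'.2.1
      have hN : normalizerIn (preimageAlong θ T') R' ≤ preimageAlong θ T' := inf_le_left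
      have hid : img (fun x : Ω => x) R' = R' := (IsIso.refl (F := F) hR₁).2
      obtain ⟨β₁, hβ₁, e₁⟩ := D.adm_step hS hc hn hrig (h := fun x => x) (u'' := u'')
        (hltN R' hR' u' hu' hu'R) le_rfl (LGen.id hN) hu' hu'R (hid.symm ▸ hu'') (hid.symm ▸ hu''R)
      have hiso : IsIso F R' R₀ u' := ⟨hu'.isMap.mono hle, hu'R⟩
      refine ⟨β₁ * MulAut.congr hiso.equiv α, mul_mem hβ₁
        (Subgroup.mem_sup_left (D.congr_mem_laGrp hiso hR'.1 hR'.2.1 hα)), fun x hx => ?_⟩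
      have hux : u' x ∈ R₀ := hiso.mem hx
      rw [autFn_mul _ _ hux, e₁ _ (autFn_mem α hx)]
      congr 1
      rw [autFn_apply _ hux, autFn_apply α hx]
      exact (congr_apply_coe hiso α ⟨x, hx⟩).symm
    · have hR₁p : IsPGroup p R₁ := hS.to_le hR₁
      have := finite_of_le hR₁
      set M := normalizerIn R₁ R'
      have hMlt : R' < M := lt_normalizerIn hR₁p le_rfl hlt
      have hMU : M ≤ normalizerIn (preimageAlong θ T') R' := fun g hg => ⟨hc₁.2.1 hg.1, hg.2⟩
      exact D.adm_step hS hc hn hrig hMlt hMU (LGen.aut hR₁ hc₁ hα inf_le_left) hu' hu'R hu'' hu''R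
  | @conj P t hP ht =>
    intro R' hR' hconj hR'P u' u'' hu' hu'R hu'' hu''R
    exact D.adm_step hS hc hn hrig (hltN R' hR' u' hu' hu'R) le_rfl
      (LGen.conj (inf_le_left) ht) hu' hu'R hu'' hu''R
  | @comp P f g h1 h2 ih1 ih2 =>
    intro R' hR' hconj hR'P u' u'' hu' hu'R hu'' hu''R
    have hf' := h1.mono R' hR'P
    set R₂ := img f R'
    obtain ⟨-, f', hf'', -⟩ := D.lgen_iso_image hf' hR'.1
    have hR₂ : Cent Q θ E R₂ := D.cent_iso hf'.isMap.isIso hR'
    have hconj₂ : E.IsConj (imageAlong θ R₂) (imageAlong θ R₀) :=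
      isConj_trans (isConj_symm (isConj_iff.2 ⟨f', hf''⟩)) hconj
    obtain ⟨u, hu, huR⟩ := D.exists_normalizer_lift hS hc.1 hc.le hn hR₂ hconj₂
    have hR₂P : R₂ ≤ img f P := h1.isMap.img_le hR'P fun x hx => h1.isMap.mem_img (hR'P hx)
    have himg : img (fun x => g (f x)) R' = img g R₂ :=
      FusionCrit.img_img_of hf'.isMap (h2.isMap.mono hR₂P)
    rw [himg] at hu'' hu''R
    obtain ⟨β, hβ, e1⟩ := ih1 R' hR' hconj hR'P u' u hu' hu'R hu huR
    obtain ⟨γ, hγ, e2⟩ := ih2 R₂ hR₂ hconj₂ hR₂P u u'' hu huR hu'' hu''R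
    refine ⟨γ * β, mul_mem hγ hβ, fun x hx => ?_⟩
    have hux : u' x ∈ R₀ := hu'R ▸ hu'.isMap.mem_img hx
    rw [autFn_mul _ _ hux, ← e1 x hx]
    exact e2 _ (hf'.isMap.mem_img hx)
  | @congr P f g h1 e ih =>
    intro R' hR' hconj hR'P u' u'' hu' hu'R hu'' hu''R
    rw [← img_congr (fun x hx => e x (hR'P hx)) (P := R')] at hu'' hu''R
    obtain ⟨β, hβ, e1⟩ := ih R' hR' hconj hR'P u' u'' hu' hu'R hu'' hu''R
    exact ⟨β, hβ, fun x hx => by rw [← e x (hR'P hx), e1 x hx]⟩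

/-- Generated maps on the whole preimage are elements of `aGrp`. -/
theorem top_mem_aGrp {R : Subgroup Ω} (hc : Cent Q θ E R) (hR : R = preimageAlong θ T')
    {P : Subgroup Ω} {f : Ω → Ω} (hf : LGen F Q θ E p P f) :
    P = R → ∃ β ∈ aGrp F θ E p hc.le, ∀ x ∈ R, f x = autFn β x := by
  induction hf with
  | @aut R₁ P α hR₁ hc₁ hα hP =>
    rintro rfl
    obtain rfl : P = R₁ := le_antisymm hP (hR ▸ hc₁.2.1)
    exact ⟨α, Subgroup.mem_sup_left hα, fun x _ => rfl⟩
  | @conj P t hP ht =>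
    rintro rfl
    have htN : t ∈ normalizerIn S P := le_normalizerIn hc.le (hR ▸ ht)
    exact ⟨normConj S P ⟨t, htN⟩, Subgroup.mem_sup_right (mem_autInducedBy_iff.2 ⟨t, ht, fun x => rfl⟩),
      fun x hx => (autFn_apply (normConj S P ⟨t, htN⟩) hx).symm⟩
  | @comp P f g h1 h2 ih1 ih2 =>
    rintro rfl
    have himg : img f P = P := eq_of_le_of_card hc.le
      (h1.isMap.img_le le_rfl fun x hx => hR ▸ h1.mem x hx) (h1.isMap.card_img le_rfl).ge
    obtain ⟨β, hβ, e1⟩ := ih1 rfl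
    obtain ⟨γ, hγ, e2⟩ := ih2 himg
    exact ⟨γ * β, mul_mem hγ hβ, fun x hx => by
      show g (f x) = _
      rw [autFn_mul _ _ hx, e1 x hx, e2 _ (autFn_mem β hx)]⟩
  | @congr P f g h1 e ih =>
    rintro rfl
    obtain ⟨β, hβ, e1⟩ := ih rfl
    exact ⟨β, hβ, fun x hx => by rw [← e x hx, e1 x hx]⟩

/-- **Rigidity**: generated maps on a centric subgroup trivial modulo `Q` are inner. -/
theorem rigid (hS : IsPGroup p S) {R : Subgroup Ω} (hc : Cent Q θ E R) : Rigid F Q θ E p R := by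
  induction hd : Nat.card S - Nat.card R using Nat.strong_induction_on generalizing R with
  | _ d ih =>
  intro f hf e
  have hR := hc.le
  have := finite_of_le hR
  have := D.data.finite_S'
  have hfinT : Finite T' := finite_of_le D.T'_le
  have hT' : IsPGroup p T' := (D.data.isPGroup_S' hS).to_le D.T'_le
  by_cases hRU : R = preimageAlong θ T'
  · obtain ⟨β, hβ, eβ⟩ := D.top_mem_aGrp hc hRU hf rfl
    obtain ⟨r, hr⟩ := D.aGrp_inf_kGrp_le_inn hS hc ⟨hβ, D.kGrp_of_thF hR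
      (D.aGrp_le_atGrp hc hβ).1 fun x hx => by rw [← eβ x hx, e x hx]⟩
    refine ⟨r, r.2, fun x hx => ?_⟩
    rw [eβ x hx, autFn_apply β hx, ← hr]
    rfl
  set R' := imageAlong θ R with hR'def
  obtain ⟨R₀', w, hn₀, hw, hwR, -⟩ := exists_fullyNormalized_map hT' D.satE hc.2.2.1
  have hwI : IsIso E R' R₀' w := ⟨hw.mono (le_normalizerIn hc.2.2.1), hwR⟩
  set R₀ := preimageAlong θ R₀' with hR₀def
  have hR₀img : imageAlong θ R₀ = R₀' := D.data.image_preimage (hn₀.1.trans D.T'_le)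
  have hn : E.IsFullyNormalized (imageAlong θ R₀) := hR₀img.symm ▸ hn₀
  have hc₀ : Cent Q θ E R₀ := ⟨D.data.le_preimage R₀', pre_mono hn₀.1,
    hR₀img.symm ▸ FusionCrit.isCentric_of_isConj hc.2.2 (isConj_iff.2 ⟨w, hwI⟩)⟩
  have hconj : E.IsConj (imageAlong θ R) (imageAlong θ R₀) :=
    hR₀img.symm ▸ isConj_iff.2 ⟨w, hwI⟩
  obtain ⟨u, hu, huR⟩ := D.exists_normalizer_lift hS hc₀.1 hc₀.le hn hc hconj
  have hle : R ≤ normalizerIn (preimageAlong θ T') R := le_normalizerIn hc.2.1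
  have hcard : Nat.card R₀ = Nat.card R := huR ▸ hu.isMap.card_img hle
  have hlt₀ : R₀ < preimageAlong θ T' := lt_of_le_of_ne hc₀.2.1 fun he => hRU
    (eq_of_le_of_card (preimageAlong_le θ T') hc.2.1 (by rw [← hcard, he]))
  have hrig : ∀ M, Cent Q θ E M → Nat.card R₀ < Nat.card M → Rigid F Q θ E p M := fun M hM hlt => by
    have : Nat.card M ≤ Nat.card S := Subgroup.card_le_of_le hM.le
    exact ih _ (by omega) hM rfl
  have himg : img f R = R := by
    refine eq_of_le_of_card hR (hf.isMap.img_le le_rfl fun x hx => ?_) (hf.isMap.card_img le_rfl).ge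
    have h := hc.1 ((D.data.thF_eq_iff (hR hx) (hf.isMap.mem hx)).1 (e x hx).symm)
    simpa using mul_mem hx h
  obtain ⟨β, hβ, eβ⟩ := D.adm hS hc₀ hlt₀ hn hrig hf R hc hconj le_rfl u u hu huR
    (himg.symm ▸ hu) (himg.symm ▸ huR)
  have huI : IsIso F R R₀ u := ⟨hu.isMap.mono hle, huR⟩
  have hβK : β ∈ kGrp F Q R₀ := by
    refine D.kGrp_of_thF hc₀.le (D.aGrp_le_atGrp hc₀ hβ).1 fun y hy => ?_
    obtain ⟨x, hx, rfl⟩ := huI.exists_eq hy
    rw [← eβ x hx]
    exact D.data.map_congr huI.1 (himg ▸ hf.isMap.mem_img hx) hx (e x hx)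
  obtain ⟨r₀, hr₀⟩ := D.aGrp_inf_kGrp_le_inn hS hc₀ ⟨hβ, hβK⟩
  obtain ⟨r, hr, hre⟩ := huI.exists_eq r₀.2
  refine ⟨r, hr, fun x hx => huI.1.inj (himg ▸ hf.isMap.mem_img hx)
    (mul_mem (mul_mem hr hx) (inv_mem hr)) ?_⟩
  rw [eβ x hx, autFn_apply β (huI.mem hx), ← hr₀, huI.1.map_conj hr hx, hre]
  rfl

end LiftData

end Cfsg.Agent.FusionProduct
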