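import Cfsg.Agent.EqLemmas
import Cfsg.Agent.Lib.FusionProduct.Components

/-
Centralizer and normalizer systems of constrained systems.
Main results (namespace `Cfsg.Agent.FusionProduct`): `eq_one_of_fix_cent`, `isConstrained_centralizer`,
`isConstrained_centralizer_conj`, `isConstrained_normalizer_of_centralizer`.
-/

set_option autoImplicit false

namespace Cfsg.Agent.FusionProduct

open Cfsg Cfsg.FusionSystem Cfsg.Agent.Fusion Cfsg.Agent.FusionCrit

variable {Ω : Type*} [Group Ω] {S : Subgroup Ω} {F : FusionSystem S} {p : ℕ}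

/-- The `A × B` lemma: an automorphism of order prime to `p` of `QU` fixing `U` and `C_Q(U)` is trivial. -/
theorem eq_one_of_fix_cent [Finite S] [Fact p.Prime] (hS : IsPGroup p S) {R Q U : Subgroup Ω}
    (hR : R ≤ S) (hQR : Q ≤ R) (hUR : U ≤ R) (hn : ∀ r ∈ R, ∀ x ∈ Q, r * x * r⁻¹ ∈ Q)
    (hgen : R ≤ Q ⊔ U) {α : MulAut R} (hα : (orderOf α).Coprime p)
    (hαQ : ∀ x ∈ Q, autFn α x ∈ Q) (hfixU : ∀ x ∈ U, autFn α x = x)
    (hC : ∀ x ∈ Q, (∀ u ∈ U, x * u = u * x) → autFn α x = x) : α = 1 := by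
  have := finite_of_le hR
  have hRp : IsPGroup p R := hS.to_le hR
  let X : Subgroup R :=
    { carrier := {x | α x = x}
      one_mem' := map_one α
      mul_mem' := fun {a b} ha hb => by
        show α (a * b) = a * b
        rw [map_mul, show α a = a from ha, show α b = b from hb]
      inv_mem' := fun {a} ha => by
        show α a⁻¹ = a⁻¹
        rw [map_inv, show α a = a from ha] }
  have hfixR : ∀ x : R, autFn α x = (x : Ω) → x ∈ X := fun x hx =>
    Subtype.ext ((autFn_apply α x.2).symm.trans hx)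
  suffices hX : X = ⊤ by
    ext x
    have hx : x ∈ X := hX ▸ Subgroup.mem_top x
    rw [show α x = x from hx, MulAut.one_apply]
  by_contra hne
  obtain ⟨x, hxn, hx⟩ := PGroup.exists_mem_normalizer_not_mem hRp hne
  haveI : (Q.subgroupOf R).Normal := ⟨fun n hn' g => hn g g.2 n hn'⟩
  have htop : Q.subgroupOf R ⊔ U.subgroupOf R = ⊤ := by
    rw [← Subgroup.subgroupOf_sup hQR hUR, Subgroup.subgroupOf_eq_top]
    exact hgen
  obtain ⟨q, hq, u, hu, rfl⟩ := Subgroup.mem_sup_of_normal_left.1
    (htop.symm ▸ Subgroup.mem_top x : x ∈ Q.subgroupOf R ⊔ U.subgroupOf R)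
  have huX : u ∈ X := hfixR u (hfixU u hu)
  have hqn : q ∈ Subgroup.normalizer (X : Set R) := by
    have := mul_mem hxn (inv_mem (Subgroup.le_normalizer huX))
    simpa using this
  have hqX : q ∉ X := fun h => hx (mul_mem h huX)
  apply hqX
  show α q = q
  have hz : ((q⁻¹ * α q : R) : Ω) ∈ Q := by
    refine mul_mem (inv_mem hq) ?_
    rw [← autFn_apply α q.2]
    exact hαQ q hq
  refine FusionChain.eq_self_of_stab hRp α hα X (fun w hw => hw) q (hfixR _ (hC _ hz ?_))
  intro w hw
  have hwX : (⟨w, hUR hw⟩ : R) ∈ X := hfixR _ (hfixU w hw)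
  have h1 : q * ⟨w, hUR hw⟩ * q⁻¹ ∈ X := (Subgroup.mem_normalizer_iff.1 hqn _).1 hwX
  have h1' : α (q * ⟨w, hUR hw⟩ * q⁻¹) = q * ⟨w, hUR hw⟩ * q⁻¹ := h1
  rw [map_mul, map_mul, map_inv, show α ⟨w, hUR hw⟩ = ⟨w, hUR hw⟩ from hwX] at h1'
  have h2 : α q * ⟨w, hUR hw⟩ = q * ⟨w, hUR hw⟩ * q⁻¹ * α q := by rw [← h1']; group
  have h3 : (q⁻¹ * α q) * ⟨w, hUR hw⟩ = ⟨w, hUR hw⟩ * (q⁻¹ * α q) := by
    rw [mul_assoc, h2]; group
  exact congrArg Subtype.val h3

/-- The centralizer system of a fully centralized subgroup of a constrained system is constrained. -/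
theorem isConstrained_centralizer [Finite S] [Fact p.Prime] (hS : IsPGroup p S)
    (hc : F.IsConstrained p) {U : Subgroup Ω} (hU : F.IsFullyCentralized U)
    {L : FusionSystem (centralizerIn S U)} (hL : F.IsCentralizerSystem U L) : L.IsConstrained p := by
  have hCS : (centralizerIn S U) ≤ S := inf_le_left
  haveI : Finite (centralizerIn S U) := finite_of_le hCS
  have hCp : IsPGroup p (centralizerIn S U) := hS.to_le hCS
  have hLs : L.IsSaturated p := isSaturated_congr (NK_bot S U)
    (fun P => (kSys_bot_hom hU.1 P).trans (hL P).symm)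
    (isSaturated_kSys hS hc.1 (isFullyK_bot_iff.2 hU))
  have hQ : F.IsNormal F.core := S5145.result F
  have hCQ := (nc_core hS hc).centralizer_le
  set Q := F.core with hQdef
  have hQc := Fusion.stronglyClosed_of_normal hQ
  have hLmap : ∀ {P : Subgroup Ω} {f : Ω → Ω}, IsMap L P f ↔ P ≤ (centralizerIn S U) ∧ (∀ x ∈ P, f x ∈ (centralizerIn S U)) ∧
      FusionNormalCent.Fix F U P f := FusionNormalCent.isMap_centralizer hU.1 hL
  set W := Q ⊓ (centralizerIn S U) with hWdef
  have hW : L.IsNormal W := by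
    refine FusionChain.isNormal_iff.2 ⟨inf_le_right, fun P f hf => ?_⟩
    obtain ⟨hP, hfC, f', hf', e, hfix⟩ := hLmap.1 hf
    obtain ⟨g, hg, hgf, hgQ⟩ := (FusionChain.isNormal_iff.1 hQ).2 _ f' hf'
    have hgW : ∀ w ∈ W, g w ∈ W := fun w hw => by
      refine ⟨hgQ w hw.1, mem_centralizerIn.2 ⟨hQ.1 (hgQ w hw.1), fun u hu => ?_⟩⟩
      have huM : u ∈ P ⊔ U ⊔ Q := Subgroup.mem_sup_left (Subgroup.mem_sup_right hu)
      have hwM : w ∈ P ⊔ U ⊔ Q := Subgroup.mem_sup_right hw.1
      have hgu : g u = u := (hgf u (Subgroup.mem_sup_right hu)).trans (hfix u hu)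
      rw [← hgu, ← hg.map_mul hwM huM, (mem_centralizerIn.1 hw.2).2 u hu, hg.map_mul huM hwM]
    have hPW : P ⊔ W ≤ (centralizerIn S U) := sup_le hP inf_le_right
    have hgm : IsMap F (P ⊔ W ⊔ U) g := hg.mono (sup_le (sup_le
      (le_sup_left.trans le_sup_left) (inf_le_left.trans le_sup_right))
      (le_sup_right.trans le_sup_left))
    refine ⟨g, hLmap.2 ⟨hPW, fun x hx => (hgm.mono le_sup_left).forall_mem_sup le_sup_left
      le_sup_right (fun y hy => ?_) (fun y hy => (hgW y hy).2) hx, g, hgm, fun _ _ => rfl,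
      fun u hu => ?_⟩, fun x hx => ?_, hgW⟩
    · rw [hgf y (Subgroup.mem_sup_left hy), e y hy]
      exact hfC y hy
    · rw [hgf u (Subgroup.mem_sup_right hu), hfix u hu]
    · rw [hgf x (Subgroup.mem_sup_left hx), e x hx]
  have hWc := Fusion.stronglyClosed_of_normal hW
  set Y := centralizerIn (centralizerIn S U) W with hYdef
  have hY : L.StronglyClosed Y := by
    refine Fusion.stronglyClosed_iff.2 ⟨inf_le_left, fun P f hf x hxP hx => ?_⟩
    obtain ⟨g, hg, hgf, hgW⟩ := (FusionChain.isNormal_iff.1 hW).2 P f hf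
    refine mem_centralizerIn.2 ⟨hf.mem hxP, fun w hw => ?_⟩
    have himg : img g W = W := eq_of_le_of_card hW.1 (hg.img_le le_sup_right hgW)
      (hg.card_img le_sup_right).ge
    obtain ⟨w', hw', rfl⟩ := (hg.mem_img_iff le_sup_right).1 (himg.symm ▸ hw)
    rw [← hgf x hxP, ← hg.map_mul (Subgroup.mem_sup_left hxP) (Subgroup.mem_sup_right hw'),
      ← hg.map_mul (Subgroup.mem_sup_right hw') (Subgroup.mem_sup_left hxP),
      (mem_centralizerIn.1 hx).2 w' hw']
  have hYn : L.IsNormal Y := by
    refine isNormal_of_stronglyClosed_le hCp hLs hY fun R _ hcR hr => ?_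
    refine le_of_normalizer_inf_le hCp hcR.1 hY.1
      (hcR.1.trans (normalizes_of_stronglyClosed hY)) fun q hq hqN => ?_
    have hWR : W ≤ R := le_radical_of_normal hCp hW hcR hr
    have := finite_mulAut (S := (centralizerIn S U)) hcR.1
    have := finite_of_le (S := (centralizerIn S U)) hcR.1
    let J : Subgroup (MulAut R) :=
      { carrier := {α | α ∈ L.autGroup R ∧ ∀ x : R, (x : Ω) ∈ W → α x = x}
        one_mem' := ⟨one_mem _, fun x _ => rfl⟩
        mul_mem' := by
          rintro a b ⟨ha, ha1⟩ ⟨hb, hb1⟩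
          exact ⟨mul_mem ha hb, fun x hx => by rw [MulAut.mul_apply, hb1 x hx, ha1 x hx]⟩
        inv_mem' := by
          rintro a ⟨ha, ha1⟩
          refine ⟨inv_mem ha, fun x hx => ?_⟩
          conv_lhs => rw [← ha1 x hx]
          exact MulAut.inv_apply_self _ _ _ }
    have hJp : IsPGroup p J := by
      refine FusionChain.isPGroup_of_coprime_trivial fun j hj => ?_
      obtain ⟨α, hαL, hαW⟩ := j
      have hd : (orderOf α).Coprime p := by rwa [← Subgroup.orderOf_coe] at hj
      refine Subtype.ext ?_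
      show α = 1
      obtain ⟨-, -, f', hf', e, hfix⟩ := hLmap.1 ((mem_autGroup_iff hcR.1).1 hαL)
      obtain ⟨g, hg, hgf, hgQ⟩ := (FusionChain.isNormal_iff.1 hQ).2 _ f' hf'
      set M := R ⊔ U ⊔ Q with hMdef
      have hMS : M ≤ S := hg.le
      have hRM : R ≤ M := le_sup_left.trans le_sup_left
      have hUM : U ≤ M := le_sup_right.trans le_sup_left
      have hQM : Q ≤ M := le_sup_right
      have hgR : ∀ x ∈ R, g x = autFn α x := fun x hx =>
        (hgf x (Subgroup.mem_sup_left hx)).trans (e x hx)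
      have hgU : ∀ x ∈ U, g x = x := fun x hx =>
        (hgf x (Subgroup.mem_sup_right hx)).trans (hfix x hx)
      have hgM : ∀ x ∈ M, g x ∈ M := fun x hx => hg.forall_mem_sup le_sup_left le_sup_right
        (fun y hy => (hg.mono le_sup_left).forall_mem_sup le_sup_left le_sup_right
          (fun z hz => hRM (hgR z hz ▸ autFn_mem α hz))
          (fun z hz => hUM ((hgU z hz).symm ▸ hz)) hy)
        (fun y hy => hQM (hgQ y hy)) hx
      haveI := finite_of_le hMS
      haveI := finite_mulAut (S := S) hMS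
      obtain ⟨γ, hγ, hγe⟩ := exists_aut_of_isIso (show IsIso F M M g from
        ⟨hg, eq_of_le_of_card hMS (hg.img_le le_rfl hgM) (hg.card_img le_rfl).ge⟩)
      have hγg : ∀ x ∈ M, autFn γ x = g x := fun x hx => by
        rw [autFn_apply γ hx]; exact hγe ⟨x, hx⟩
      obtain ⟨m, hm, hmc⟩ := exists_pow_coprime_modEq (p := p) γ hd
      set β := γ ^ m
      have hβR : ∀ x ∈ R, autFn β x = autFn α x := fun x hx => by
        rw [FusionInner.autFn_pow_agree hRM (fun y hy => (hγg y (hRM hy)).trans (hgR y hy)) m x hx,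
          pow_eq_self_of_modEq hm]
      have hβU : ∀ x ∈ U, autFn β x = x := fun x hx => by
        rw [FusionInner.autFn_pow_agree (α := (1 : MulAut U)) hUM (fun y hy => by
          rw [hγg y (hUM hy), hgU y hy, autFn_apply 1 hy]; rfl) m x hx, one_pow, autFn_apply 1 hx]
        rfl
      have hβQ : ∀ x ∈ Q, autFn β x ∈ Q :=
        FusionInner.autFn_pow_mem hQM (fun x hx => (hγg x (hQM hx)).symm ▸ hgQ x hx) m
      have hβF : IsMap F M (autFn β) := (mem_autGroup_iff hMS).1 (Subgroup.pow_mem _ hγ m)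
      -- the restriction to `Q U`
      set M' := Q ⊔ U
      have hM'M : M' ≤ M := sup_le hQM hUM
      have hM'S : M' ≤ S := hM'M.trans hMS
      have hβM' : ∀ x ∈ M', autFn β x ∈ M' := fun x hx =>
        (hβF.mono hM'M).forall_mem_sup le_sup_left le_sup_right
          (fun z hz => Subgroup.mem_sup_left (hβQ z hz))
          (fun z hz => Subgroup.mem_sup_right ((hβU z hz).symm ▸ hz)) hx
      obtain ⟨δ, hδ, hδe⟩ := exists_aut_of_isIso (show IsIso F M' M' (autFn β) from
        ⟨hβF.mono hM'M, eq_of_le_of_card hM'S (hβF.img_le hM'M hβM') (hβF.card_img hM'M).ge⟩)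
      have hδβ : ∀ x ∈ M', autFn β x = autFn δ x := fun x hx => by
        rw [autFn_apply δ hx]; exact (hδe ⟨x, hx⟩).symm
      have hδc : (orderOf δ).Coprime p := hmc.coprime_dvd_left <| orderOf_dvd_of_pow_eq_one <|
        FusionInner.eq_one_of_autFn fun x hx => by
          rw [← FusionInner.autFn_pow_agree hM'M hδβ (orderOf β) x hx, pow_orderOf_eq_one,
            autFn_apply 1 (hM'M hx)]
          rfl
      have hδ1 : δ = 1 := by
        refine eq_one_of_fix_cent (U := U) hS hM'S (Q := Q) le_sup_left le_sup_right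
          (fun r hr x hx => FusionChain.conj_mem_of_stronglyClosed hQc (hM'S hr) hx) le_rfl hδc
          (fun x hx => hδβ x (Subgroup.mem_sup_left hx) ▸ hβQ x hx)
          (fun x hx => (hδβ x (Subgroup.mem_sup_right hx)).symm.trans (hβU x hx))
          fun x hx hxU => ?_
        have hxW : x ∈ W := ⟨hx, mem_centralizerIn.2 ⟨hQ.1 hx, hxU⟩⟩
        rw [← hδβ x (Subgroup.mem_sup_left hx), hβR x (hWR hxW), autFn_apply α (hWR hxW),
          hαW ⟨x, hWR hxW⟩ hxW]
      have hfixQ : ∀ x ∈ Q, autFn β x = x := fun x hx => by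
        rw [hδβ x (Subgroup.mem_sup_left hx), hδ1, autFn_apply 1 (Subgroup.mem_sup_left hx)]
        rfl
      have hβ1 : β = 1 := FusionInner.eq_one_of_fix_centralizer hS hMS hQM hmc hfixQ
        fun x hx hxQ => hfixQ x (hCQ (mem_centralizerIn.2 ⟨hMS hx, hxQ⟩))
      refine MulEquiv.ext fun x => Subtype.ext ?_
      rw [← autFn_apply α x.2, ← hβR x x.2, hβ1, autFn_apply 1 (hRM x.2)]
      rfl
    have hJle : J ≤ FusionChain.pCoreAut L p R := by
      refine FusionChain.le_pCoreAut hJp (fun α hα => hα.1) fun α hα k hk => ?_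
      obtain ⟨hk0, hk1⟩ := hk
      refine ⟨mul_mem (mul_mem hα hk0) (inv_mem hα), fun y hy => ?_⟩
      have hxW : ((α⁻¹ y : R) : Ω) ∈ W := by
        have := autFn_mem_of_stronglyClosed hWc hcR.1 (inv_mem hα) y.2 hy
        rwa [autFn_apply _ y.2] at this
      rw [MulAut.mul_apply, MulAut.mul_apply, hk1 _ hxW, MulAut.apply_inv_self]
    refine FusionChain.mem_of_mem_pCoreAut (α := normConj (centralizerIn S U) R ⟨q, hqN⟩) hcR hr hqN.1
      (hJle ⟨autInducedBy_le_autGroup L le_rfl hcR.1 ((range_normConj (centralizerIn S U) R).le ⟨_, rfl⟩),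
        fun x hx => Subtype.ext ?_⟩) fun x => rfl
    show q * (x : Ω) * q⁻¹ = x
    exact centralizerIn_conj hq hx
  refine isConstrained_of_core_centric hLs ?_
  have h1 : Y ≤ L.core := normal_le_core hYn
  have h2 : W ≤ L.core := normal_le_core hW
  intro x hx
  exact h1 (mem_centralizerIn.2 ⟨hx.1, fun w hw => (mem_centralizerIn.1 hx).2 w (h2 hw)⟩)

/-- Constrainedness of a centralizer system is transported along a map defined on `C_S(U) U`. -/
theorem isConstrained_centralizer_conj [Finite S] {U U' : Subgroup Ω} {g : Ω → Ω}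
    (hU : U ≤ S) (hg : IsIso F (centralizerIn S U ⊔ U) (centralizerIn S U' ⊔ U') g)
    (hgU : img g U = U') (hgC : img g (centralizerIn S U) = centralizerIn S U')
    {L : FusionSystem (centralizerIn S U)} (hL : F.IsCentralizerSystem U L)
    {L' : FusionSystem (centralizerIn S U')} (hL' : F.IsCentralizerSystem U' L')
    (hc : L'.IsConstrained p) : L.IsConstrained p := by
  have hU' : U' ≤ S := le_sup_right.trans hg.le_right
  obtain ⟨i, hi, hig, hgi⟩ := hg.symm
  have hgC' : ∀ x ∈ (centralizerIn S U), g x ∈ (centralizerIn S U') := fun x hx => hgC ▸ hg.1.mem_img hx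
  have hiC : ∀ y ∈ (centralizerIn S U'), i y ∈ (centralizerIn S U) := fun y hy => by
    obtain ⟨x, hx, rfl⟩ := (hg.1.mem_img_iff le_sup_left).1 (hgC.symm ▸ hy)
    rw [hig x (Subgroup.mem_sup_left hx)]
    exact hx
  have hgU' : ∀ x ∈ U, g x ∈ U' := fun x hx => hgU ▸ hg.1.mem_img hx
  have hiU : ∀ y ∈ U', i y ∈ U := fun y hy => by
    obtain ⟨x, hx, rfl⟩ := (hg.1.mem_img_iff le_sup_right).1 (hgU.symm ▸ hy)
    rw [hig x (Subgroup.mem_sup_right hx)]
    exact hx
  -- transport of maps
  have key : ∀ {A A' : Subgroup Ω} {a b : Ω → Ω} {LA : FusionSystem (centralizerIn S A)}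
      {LA' : FusionSystem (centralizerIn S A')}, A ≤ S → A' ≤ S →
      F.IsCentralizerSystem A LA → F.IsCentralizerSystem A' LA' →
      IsMap F (centralizerIn S A ⊔ A) a → IsMap F (centralizerIn S A' ⊔ A') b →
      (∀ x ∈ centralizerIn S A, a x ∈ centralizerIn S A') →
      (∀ y ∈ centralizerIn S A', b y ∈ centralizerIn S A) → (∀ y ∈ A', b y ∈ A) →
      (∀ x ∈ centralizerIn S A ⊔ A, b (a x) = x) → (∀ y ∈ centralizerIn S A' ⊔ A', a (b y) = y) →
      ∀ P f, IsMap LA P f → IsMap LA' (FusionIso.imT a P) fun y => a (f (b y)) := by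
    intro A A' a b LA LA' hA hA' hLA hLA' ha hb haC hbC hbA hba hab P f hf
    obtain ⟨hP, hfC, f', hf', e, hfix⟩ := (FusionNormalCent.isMap_centralizer hA hLA).1 hf
    have himg : img a P ≤ centralizerIn S A' :=
      ha.img_le (hP.trans le_sup_left) fun x hx => haC x (hP hx)
    have hbm : ∀ y ∈ img a P ⊔ A', b y ∈ P ⊔ A := fun y hy =>
      (hb.mono (sup_le_sup_right himg A')).forall_mem_sup le_sup_left le_sup_right
        (fun z hz => by
          obtain ⟨x, hx, rfl⟩ := (ha.mem_img_iff (hP.trans le_sup_left)).1 hz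
          rw [hba x (Subgroup.mem_sup_left (hP hx))]
          exact Subgroup.mem_sup_left hx)
        (fun z hz => Subgroup.mem_sup_right (hbA z hz)) hy
    have hf'm : ∀ x ∈ P ⊔ A, f' x ∈ centralizerIn S A ⊔ A := fun x hx =>
      hf'.forall_mem_sup le_sup_left le_sup_right
        (fun z hz => Subgroup.mem_sup_left (e z hz ▸ hfC z hz))
        (fun z hz => Subgroup.mem_sup_right ((hfix z hz).symm ▸ hz)) hx
    have hcomp : IsMap F (img a P ⊔ A') (fun y => a (f' (b y))) :=
      ((hb.mono (sup_le_sup_right himg A')).comp hf' hbm).comp ha fun y hy => hf'm _ (hbm y hy)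
    refine (FusionNormalCent.isMap_centralizer hA' hLA').2 ⟨himg, fun y hy => ?_, _, hcomp,
      fun y hy => ?_, fun y hy => ?_⟩
    · obtain ⟨x, hx, rfl⟩ := (ha.mem_img_iff (hP.trans le_sup_left)).1 hy
      show a (f (b (a x))) ∈ _
      rw [hba x (Subgroup.mem_sup_left (hP hx))]
      exact haC _ (hfC x hx)
    · obtain ⟨x, hx, rfl⟩ := (ha.mem_img_iff (hP.trans le_sup_left)).1 hy
      show a (f' (b (a x))) = a (f (b (a x)))
      rw [hba x (Subgroup.mem_sup_left (hP hx)), e x hx]
    · show a (f' (b y)) = y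
      rw [hfix _ (hbA y hy), hab y (Subgroup.mem_sup_right hy)]
  let e : FusionIso.FIso L' L :=
    { toFun := i
      invFun := g
      mem := hiC
      mem' := hgC'
      left := fun y hy => hgi y (Subgroup.mem_sup_left hy)
      right := fun x hx => hig x (Subgroup.mem_sup_left hx)
      mul := fun x hx y hy => hi.1.map_mul (Subgroup.mem_sup_left hx) (Subgroup.mem_sup_left hy)
      fwd := key hU' hU hL' hL hi.1 hg.1 hiC hgC' hgU' hgi hig
      bwd := key hU hU' hL hL' hg.1 hi.1 hgC' hiC hiU hig hgi }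
  haveI : Finite (centralizerIn S U) := finite_of_le (S := S) inf_le_left
  haveI : Finite (centralizerIn S U') := finite_of_le (S := S) inf_le_left
  exact e.isConstrained hc

/-- A normalizer system is constrained when the centralizer system is. -/
theorem isConstrained_normalizer_of_centralizer [Finite S] [Fact p.Prime] (hS : IsPGroup p S)
    (hF : F.IsSaturated p) {U : Subgroup Ω} (hU : F.IsFullyNormalized U)
    {N : FusionSystem (normalizerIn S U)} (hN : F.IsNormalizerSystem U N)
    {L : FusionSystem (centralizerIn S U)} (hL : F.IsCentralizerSystem U L)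
    (hc : L.IsConstrained p) : N.IsConstrained p := by
  have hNle : normalizerIn S U ≤ S := inf_le_left
  haveI := finite_of_le hNle
  have hNp := hS.to_le hNle
  have hNs := isSaturated_normalizer hS hF hU hN
  have hUn := normal_in_normalizer hU.1 hN
  obtain ⟨C, hC, hCn⟩ := exists_centralizer_normal hNp hNs hUn
  have hUN : U ≤ normalizerIn S U := le_normalizerIn hU.1
  have hCle : centralizerIn S U ≤ normalizerIn S U := centralizerIn_le_normalizerIn S U
  have heq : centralizerIn (normalizerIn S U) U = centralizerIn S U :=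
    le_antisymm (inf_le_inf_right _ inf_le_left) (le_inf hCle inf_le_right)
  have hmap : ∀ P f, IsMap C P f ↔ IsMap L P f := fun P f => by
    rw [FusionNormalCent.isMap_centralizer hUN hC, FusionNormalCent.isMap_centralizer hU.1 hL, heq]
    refine and_congr_right fun hP => and_congr_right fun hf => ⟨?_, ?_⟩
    · rintro ⟨g, hg, h1, h2⟩
      obtain ⟨-, -, g', hg', e, -⟩ := (isMap_normalizer_iff hU.1 hN).1 hg
      exact ⟨g, (hg'.mono le_sup_left).congr e, h1, h2⟩
    · rintro ⟨g, hg, h1, h2⟩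
      have hPN : P ⊔ U ≤ normalizerIn S U := sup_le (hP.trans hCle) hUN
      refine ⟨g, (isMap_normalizer_iff hU.1 hN).2 ⟨hPN, fun x hx =>
        hg.forall_mem_sup le_sup_left le_sup_right (fun z hz => hCle (h1 z hz ▸ hf z hz))
          (fun z hz => hUN ((h2 z hz).symm ▸ hz)) hx, g,
          hg.mono (sup_le le_rfl le_sup_right), fun _ _ => rfl,
          fun x hx => (h2 x hx).symm ▸ hx⟩, h1, h2⟩
  have hCc : C.IsConstrained p := by
    have : ∀ (T : Subgroup Ω) (D : FusionSystem T), T = centralizerIn S U →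
        (∀ P f, IsMap D P f ↔ IsMap L P f) → D.IsConstrained p := by
      rintro T D rfl h
      rwa [ext_of_le (le_of_isMap fun P f hf => (h P f).1 hf)
        (le_of_isMap fun P f hf => (h P f).2 hf)]
    exact this _ C heq hmap
  have hR := core_isNormal_of_invariant hNp hNs hCn.1.2.2
  refine isConstrained_of_core_centric hNs fun x hx => ?_
  have hxU : x ∈ centralizerIn (normalizerIn S U) U :=
    mem_centralizerIn.2 ⟨hx.1, fun u hu => (mem_centralizerIn.1 hx).2 u (normal_le_core hUn hu)⟩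
  have hCle' : centralizerIn (normalizerIn S U) U ≤ normalizerIn S U := inf_le_left
  haveI := finite_of_le hCle'
  exact normal_le_core hR ((nc_core (hNp.to_le hCle') hCc).centralizer_le (mem_centralizerIn.2
    ⟨hxU, fun y hy => (mem_centralizerIn.1 hx).2 y (normal_le_core hR hy)⟩))

end Cfsg.Agent.FusionProduct
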